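import Mathlib
import Cfsg.Agent.SAn.Basic
import Cfsg.Agent.StdB.Gen
import Cfsg.Agent.StdB.Red
import Cfsg.Prelude.Def_ClassificationK

/-!
# Standard alternating subgroups with cyclic Sylow 2-subgroups in the centralizer (S3124): definitions

See `stubs/Cfsg/Agent/SAq/PLAN.md`.
-/

set_option autoImplicit false

namespace Cfsg.Agent.SAq

open Cfsg Cfsg.Agent.GT Cfsg.Agent.Loc.Mss Cfsg.Agent.SAn Subgroup Equiv

variable {α β γ : Type} [Fintype α] [DecidableEq α] [Fintype β] [DecidableEq β] [Fintype γ]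
  [DecidableEq γ] {G : Type*} [Group G]

/-- An involution moving exactly `2 k` points. -/
def Tp (p : Perm α) (k : ℕ) : Prop := p * p = 1 ∧ p.support.card = 2 * k

/-- The local configuration: `C(t)` acts on `A = ι.range` through permutations, and `1`, `t` are the
only 2-elements of `C(t) ⊓ C(A)`. -/
structure Cf (ι : alternatingGroup α →* G) (t : G) : Prop where
  eight : 8 ≤ Fintype.card α
  inj : Function.Injective ι
  iv : Iv t
  cen : Act ι t 1
  reg : ∀ g, g * t = t * g → ∃ σ, Act ι g σ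
  ker : ∀ g, g * t = t * g → Act ι g 1 → E2 g → g = 1 ∨ g = t

/-- The weak local configuration: only involutions are controlled. -/
structure Cw (ι : alternatingGroup α →* G) (t : G) : Prop where
  eight : 8 ≤ Fintype.card α
  inj : Function.Injective ι
  iv : Iv t
  cen : Act ι t 1
  reg : ∀ g, g * t = t * g → ∃ σ, Act ι g σ
  ker2 : ∀ g, g * t = t * g → Act ι g 1 → g * g = 1 → g = 1 ∨ g = t

theorem Cf.cw {ι : alternatingGroup α →* G} {t : G} (h : Cf ι t) : Cw ι t :=
  ⟨h.eight, h.inj, h.iv, h.cen, h.reg, fun g h1 h2 h3 => h.ker g h1 h2 ⟨1, by rw [pow_one, pow_two, h3]⟩⟩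

/-- No conjugate of `t` other than `t` commutes with `t` and acts as an even permutation. -/
def Ev0 (ι : alternatingGroup α →* G) (t : G) : Prop :=
  ∀ u σ, IsConj t u → u * t = t * u → Act ι u σ → σ ∈ alternatingGroup α → u = t

/-- `t` is conjugate to `t a` for an even involution `a` of `A` with `k` transpositions. -/
def Sg (ι : alternatingGroup α →* G) (t : G) (k : ℕ) : Prop :=
  ∃ p ∈ alternatingGroup α, p ≠ 1 ∧ Tp p k ∧ IsConj t (t * ev ι p)

/-- `u` is a conjugate of `t` commuting with `t` and acting as the transposition `(x y)`. -/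
structure T1 (ι : alternatingGroup α →* G) (t u : G) (x y : α) : Prop where
  ne : x ≠ y
  cj : IsConj t u
  comm : u * t = t * u
  act : Act ι u (swap x y)

/-- `u` acts on the component of `C(s)` as a transposition. -/
def Sw (α : Type) [Fintype α] [DecidableEq α] (s u : G) : Prop :=
  ∃ (κ : alternatingGroup α →* G) (x y : α), Cf κ s ∧ T1 κ s u x y

/-- The hypothesis of the gluing lemma. -/
def G2 (ι : alternatingGroup α →* G) (t : G) : Prop :=
  ∃ u x y z w, D4 x y z w ∧ T1 ι t u x y ∧ Sw α u (u * ev ι (dt x y z w)) ∧ ¬ IsConj t (t * u)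

/-- Case A1: `s = t (a b)(c d)` is conjugate to `t`, and `(a c)(b d)` acts on the component of `C(s)`
as a double transposition. -/
def A1 (ι : alternatingGroup α →* G) (t : G) : Prop :=
  ∃ a b c d, D4 a b c d ∧ IsConj t (t * ev ι (dt a b c d)) ∧
    ∃ κ : alternatingGroup α →* G, Cf κ (t * ev ι (dt a b c d)) ∧
      ∃ a' b' c' d', D4 a' b' c' d' ∧ Act κ t (dt a' b' c' d') ∧
        Act κ (ev ι (dt a c b d)) (dt a' c' b' d')

/-- Case A2: as `A1`, but `(a c)(b d)` acts as a transposition. -/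
def A2 (ι : alternatingGroup α →* G) (t : G) : Prop :=
  ∃ a b c d, D4 a b c d ∧ IsConj t (t * ev ι (dt a b c d)) ∧
    ∃ κ : alternatingGroup α →* G, Cf κ (t * ev ι (dt a b c d)) ∧
      ∃ a' b' c' d', D4 a' b' c' d' ∧ Act κ t (dt a' b' c' d') ∧
        Act κ (ev ι (dt a c b d)) (swap a' b')

/-- `A` is the diagonal of two commuting copies interchanged by `t`. -/
structure Dbl (ι : alternatingGroup α →* G) (t : G) (l : alternatingGroup α →* G) : Prop where
  comm : ∀ p q, l p * (t * l q * t⁻¹) = t * l q * t⁻¹ * l p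
  diag : ∀ p, ι p = l p * (t * l p * t⁻¹)

/-- The global frame: `G = X ⟨t⟩` with `X` simple and `C(X) = 1`. -/
structure Fr (X : Subgroup G) (t : G) : Prop where
  nX : X.Normal
  sX : IsSimpleGroup X
  top : ∀ g, g ∈ X ∨ g * t ∈ X
  cx : ∀ g ∈ 𝐂[X], g = 1
  hB : HasBProperty G

/-- The global configuration. -/
structure Gl (ι : alternatingGroup α →* G) (t : G) (X : Subgroup G) : Prop where
  cf : Cf ι t
  fr : Fr X t
  AX : ι.range ≤ X

/-- A symmetric group on `n + 2` points whose transpositions are in the local configuration. -/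
structure Hs (ψ : Perm β →* G) : Prop where
  ten : 10 ≤ Fintype.card β
  inj : Function.Injective ψ
  reg : ∀ x y, x ≠ y → ∀ g, g * ψ (swap x y) = ψ (swap x y) * g → ∃ σ : Perm β, σ x = x ∧ σ y = y ∧
    ∀ p ∈ alternatingGroup β, p x = x → p y = y → g * ψ p * g⁻¹ = ψ (σ * p * σ⁻¹)
  ker : ∀ x y, x ≠ y → ∀ g, g * ψ (swap x y) = ψ (swap x y) * g →
    (∀ p ∈ alternatingGroup β, p x = x → p y = y → g * ψ p = ψ p * g) → E2 g →
    g = 1 ∨ g = ψ (swap x y)

/-- The involutions with `k` transpositions are conjugate to the transpositions. -/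
def Ty (ψ : Perm β →* G) (k : ℕ) : Prop :=
  ∃ (p : Perm β) (x y : β), x ≠ y ∧ Tp p k ∧ IsConj (ψ (swap x y)) (ψ p)

/-- The global configuration with the big symmetric group. -/
structure GH (ψ : Perm β →* G) (X : Subgroup G) : Prop where
  hs : Hs ψ
  fr : ∀ x y, x ≠ y → Fr X (ψ (swap x y))
  AX : ∀ p ∈ alternatingGroup β, ψ p ∈ X

/-- The points other than `x`, `y`. -/
abbrev Rm (x y : β) : Type := {z : β // z ≠ x ∧ z ≠ y}

theorem ofSubtype_mem {P : β → Prop} [DecidablePred P] {p : Perm {z // P z}}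
    (hp : p ∈ alternatingGroup {z // P z}) : Perm.ofSubtype p ∈ alternatingGroup β := by
  rw [Perm.mem_alternatingGroup] at hp ⊢
  rw [Perm.sign_ofSubtype, hp]

/-- The alternating group on the points satisfying `P`. -/
def sub (ψ : Perm β →* G) (P : β → Prop) [DecidablePred P] : alternatingGroup {z // P z} →* G :=
  (ψ.comp Perm.ofSubtype).comp (alternatingGroup _).subtype

theorem ev_sub (ψ : Perm β →* G) (P : β → Prop) [DecidablePred P] {p : Perm {z // P z}}
    (hp : p ∈ alternatingGroup {z // P z}) : ev (sub ψ P) p = ψ (Perm.ofSubtype p) := by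
  rw [ev_of_mem hp]; rfl

/-- The 4-cycle with square `(a b)(c d)` inverted by `(a b)`. -/
def c4 (a b c d : β) : Perm β := swap a b * dt a c b d

/-- The data for the Harada-Norton group. -/
structure HNc (ψ : Perm β →* G) (a b c d : β) : Prop where
  card : Fintype.card β = 12
  d4 : D4 a b c d
  four : ∃ g ∈ 𝐍[zpowers (ψ (c4 a b c d))], ∃ z, Fx a b c d z ∧ Tp z 4 ∧
    (g * ψ (swap a b) * g⁻¹)⁻¹ * ψ (swap a b * z) ∈ zpowers (ψ (c4 a b c d))
  two : ∀ g ∈ 𝐍[zpowers (ψ (c4 a b c d))], ∀ z, Fx a b c d z → Tp z 2 →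
    (g * ψ (swap a b) * g⁻¹)⁻¹ * ψ (swap a b * z) ∉ zpowers (ψ (c4 a b c d))

/-- The odd part of `C(t) ⊓ C(A)`, as a set. -/
def Od (ι : alternatingGroup α →* G) (t o : G) : Prop :=
  o * t = t * o ∧ Act ι o 1 ∧ Odd (orderOf o)

end Cfsg.Agent.SAq
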