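import Mathlib
import Cfsg.Agent.SAq.Pm
import Cfsg.Agent.SAq.PmB

/-! Basic properties of the local configuration. See `stubs/Cfsg/Agent/SAq/PLAN.md`. -/

set_option autoImplicit false
set_option linter.unusedSectionVars false

namespace Cfsg.Agent.SAq

open Cfsg Cfsg.Agent.GT Cfsg.Agent.Loc.Mss Cfsg.Agent.Sym Cfsg.Agent.Loc.SO Cfsg.Agent.SAn Subgroup Equiv
open Cfsg.Agent.StdB (C1 mem_C1)
open scoped commutatorElement

variable {α β γ : Type} [Fintype α] [DecidableEq α] [Fintype β] [DecidableEq β] [Fintype γ]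
  [DecidableEq γ] {G : Type*} [Group G] [Finite G] {ι κ l : alternatingGroup α →* G}
  {ψ : Perm β →* G} {X P M L : Subgroup G} {t s u g o : G} {p q σ τ π : Perm α} {k j : ℕ}

namespace Bas

theorem actC {n : G} : Act (cι ι g) (g * n * g⁻¹) σ ↔ Act ι n σ :=
  ⟨fun h p hp => by
    have := h p hp
    rw [ev_cι, ev_cι] at this
    calc _ = g⁻¹ * (g * n * g⁻¹ * (g * ev ι p * g⁻¹) * (g * n * g⁻¹)⁻¹) * g := by group
      _ = _ := by rw [this]; group, fun h => h.toC g⟩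

theorem commC {n m : G} : g * n * g⁻¹ * (g * m * g⁻¹) = g * m * g⁻¹ * (g * n * g⁻¹) ↔ n * m = m * n := by
  rw [conj_mul, conj_mul, mul_left_inj, mul_right_inj]

theorem exC (g x : G) : ∃ y, x = g * y * g⁻¹ := ⟨g⁻¹ * x * g, by group⟩

theorem actR {n : G} : Act (rι ι π) n (π⁻¹ * σ * π) ↔ Act ι n σ :=
  ⟨fun h p hp => by
    have := h _ (conj_mem_alt hp π⁻¹)
    rw [ev_rι _ _ (conj_mem_alt hp _), ev_rι _ _ (conj_mem_alt (conj_mem_alt hp _) _)] at this
    simpa only [mul_inv_rev, inv_inv, mul_assoc, mul_inv_cancel, mul_one, mul_inv_cancel_left] using this,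
    fun h => h.toR π⟩

theorem actR1 {n : G} : Act (rι ι π) n 1 ↔ Act ι n 1 := by
  rw [← actR (ι := ι) (π := π) (σ := 1), mul_one, inv_mul_cancel]

theorem injC (h : Function.Injective ι) (g : G) : Function.Injective (cι ι g) :=
  (MulAut.conj g).injective.comp h

theorem injR (h : Function.Injective ι) (π : Perm α) : Function.Injective (rι ι π) :=
  h.comp (MulAut.conjNormal (H := alternatingGroup α) π).injective

theorem simp5 (h5 : 5 ≤ Fintype.card γ) : IsSimpleGroup (alternatingGroup γ) :=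
  alternatingGroup.isSimpleGroup (by rwa [Nat.card_eq_fintype_card])

/-- A homomorphism from an alternating group is trivial when it has at most one involution in its image. -/
theorem triv {H : Type*} [Group H] (h5 : 5 ≤ Fintype.card γ) (f : alternatingGroup γ →* H) {t : H}
    (h : ∀ b, b * b = 1 → f b = 1 ∨ f b = t) (b : alternatingGroup γ) : f b = 1 := by
  have := simp5 h5
  rcases IsSimpleGroup.eq_bot_or_eq_top_of_normal f.ker inferInstance with e | e
  · have hf := (MonoidHom.ker_eq_bot_iff f).1 e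
    obtain ⟨a, b, c, d, h4⟩ := exists_D4 (α := γ) (by omega)
    have k : ∀ {a b c d : γ} (h4 : D4 a b c d), f ⟨_, h4.mem⟩ = t := fun h4 =>
      (h _ (Subtype.ext h4.iv.1)).resolve_left fun e =>
        h4.iv.2 (congrArg Subtype.val ((injective_iff_map_eq_one f).1 hf _ e))
    exact absurd (congrArg Subtype.val (hf ((k h4).trans (k h4.acb).symm))) h4.dt_ne
  · exact (show b ∈ f.ker from e ▸ mem_top b)

theorem even_img (h5 : 5 ≤ Fintype.card γ) (f : alternatingGroup γ →* Perm α) (b : alternatingGroup γ) :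
    f b ∈ alternatingGroup α := by
  have h1 := Abelianization.commutator_subset_ker (Perm.sign.comp f)
  rw [commutator_alternatingGroup_eq_top (by rwa [Nat.card_eq_fintype_card])] at h1
  exact h1 (mem_top b)

theorem tp_congr (e : α ≃ β) (h : Tp σ k) : Tp (e.permCongr σ) k := by
  refine ⟨?_, ?_⟩
  · have := congrArg e.permCongrHom h.1
    rwa [map_mul, map_one] at this
  · rw [← h.2, ← Finset.card_map e.toEmbedding]
    congr 1
    ext x
    simp [Finset.mem_map_equiv, ← Equiv.eq_symm_apply]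

theorem card_rm {x y : β} (h : x ≠ y) : Fintype.card (Rm x y) + 2 = Fintype.card β := by
  rw [Fintype.card_subtype, ← Finset.card_pair h, ← Finset.card_union_of_disjoint (by
    simp [Finset.disjoint_right]), ← Finset.card_univ]
  congr 1
  ext z
  simp only [Finset.mem_union, Finset.mem_filter, Finset.mem_univ, true_and, Finset.mem_insert,
    Finset.mem_singleton, iff_true]
  tauto

end Bas

open Bas

theorem Cw.four (h : Cw ι t) : 4 ≤ Fintype.card α := le_trans (by norm_num) h.eight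

theorem Cw.five (h : Cw ι t) : 5 ≤ Fintype.card α := le_trans (by norm_num) h.eight

theorem Cw.comm_ev (h : Cw ι t) (p : Perm α) : ev ι p * t = t * ev ι p :=
  mem_cent.1 (act_one_iff.1 h.cen) _ (ev_mem p)

theorem Cw.toC (h : Cw ι t) (g : G) : Cw (cι ι g) (g * t * g⁻¹) :=
  ⟨h.eight, injC h.inj g, iv_conj h.iv g, h.cen.toC g, fun x hx => by
    obtain ⟨y, rfl⟩ := exC g x
    exact (h.reg y (commC.1 hx)).imp fun σ hσ => hσ.toC g, fun x hx h1 h2 => by
    obtain ⟨y, rfl⟩ := exC g x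
    rw [conj_mul, conj_eq_one_iff] at h2
    rcases h.ker2 y (commC.1 hx) (actC.1 h1) h2 with rfl | rfl
    · exact .inl (by simp)
    · exact .inr rfl⟩

theorem Cf.toC (h : Cf ι t) (g : G) : Cf (cι ι g) (g * t * g⁻¹) :=
  have w := h.cw.toC g
  ⟨w.eight, w.inj, w.iv, w.cen, w.reg, fun x hx h1 ⟨n, h2⟩ => by
    obtain ⟨y, rfl⟩ := exC g x
    rw [conj_pow, conj_eq_one_iff] at h2
    rcases h.ker y (commC.1 hx) (actC.1 h1) ⟨n, h2⟩ with rfl | rfl
    · exact .inl (by simp)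
    · exact .inr rfl⟩

theorem Cw.toR (h : Cw ι t) (π : Perm α) : Cw (rι ι π) t :=
  ⟨h.eight, injR h.inj π, h.iv, actR1.2 h.cen, fun x hx => let ⟨_, hσ⟩ := h.reg x hx; ⟨_, hσ.toR π⟩,
    fun x hx h1 => h.ker2 x hx (actR1.1 h1)⟩

theorem Cf.toR (h : Cf ι t) (π : Perm α) : Cf (rι ι π) t :=
  have w := h.cw.toR π
  ⟨w.eight, w.inj, w.iv, w.cen, w.reg, fun x hx h1 => h.ker x hx (actR1.1 h1)⟩

theorem Cw.emb (h : Cw ι t) (hs : IsConj t s) : ∃ κ : alternatingGroup α →* G, Cw κ s := by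
  obtain ⟨g, rfl⟩ := isConj_iff.1 hs
  exact ⟨_, h.toC g⟩

theorem Cf.emb (h : Cf ι t) (hs : IsConj t s) : ∃ κ : alternatingGroup α →* G, Cf κ s := by
  obtain ⟨g, rfl⟩ := isConj_iff.1 hs
  exact ⟨_, h.toC g⟩

theorem Cw.uniq (h : Cw ι t) (h1 : Act ι g σ) (h2 : Act ι g τ) : σ = τ := h1.unique h.inj h.four h2

theorem Cw.simple (h : Cw ι t) : IsSimpleGroup ι.range :=
  have := simp5 h.five
  (MonoidHom.ofInjective h.inj).symm.isSimpleGroup

theorem Cw.not_mem (h : Cw ι t) : t ∉ ι.range := fun hm => by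
  obtain ⟨p, hp, e⟩ := mem_range_iff.1 hm
  have h1 := h.uniq (e ▸ act_ev hp : Act ι t p) h.cen
  exact h.iv.2 (by rw [← e, h1, ev_one])

theorem Cw.even_aux (h : Cw ι t) (hc : g * t = t * g) (ha : Act ι g σ) (hσ : σ ∈ alternatingGroup α) :
    ∃ k, g = k * ev ι σ ∧ k * t = t * k ∧ Act ι k 1 ∧ ∀ n : ℕ, g ^ n = 1 → k ^ n = 1 := by
  obtain ⟨k, hk, e⟩ := ha.even hσ
  have c : Commute (ev ι σ) k := mem_cent.1 hk _ (ev_mem σ)
  refine ⟨k, e.trans c.eq, ?_, act_one_iff.2 hk, fun n hn => ?_⟩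
  · rw [← inv_mul_eq_iff_eq_mul.2 e]
    exact ((show Commute (ev ι σ) t from h.comm_ev σ).inv_left.mul_left hc).eq
  · have h1 := ha.pow_eq_one h.inj h.four hn
    rwa [e, c.mul_pow, ← ev_pow hσ, h1, ev_one, one_mul] at hn

/-- A commuting involution acting evenly. -/
theorem Cw.of_even (h : Cw ι t) (hc : g * t = t * g) (h2 : g * g = 1) (ha : Act ι g σ)
    (hσ : σ ∈ alternatingGroup α) : g = ev ι σ ∨ g = t * ev ι σ := by
  obtain ⟨k, e, h1, h3, h4⟩ := h.even_aux hc ha hσ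
  rcases h.ker2 k h1 h3 (by rw [← pow_two]; exact h4 2 (by rw [pow_two, h2])) with rfl | rfl
  exacts [.inl (by rw [e, one_mul]), .inr e]

theorem Cf.of_even (h : Cf ι t) (hc : g * t = t * g) (h2 : E2 g) (ha : Act ι g σ)
    (hσ : σ ∈ alternatingGroup α) : g = ev ι σ ∨ g = t * ev ι σ := by
  obtain ⟨k, e, h1, h3, h4⟩ := h.cw.even_aux hc ha hσ
  obtain ⟨n, hn⟩ := h2
  rcases h.ker k h1 h3 ⟨n, h4 _ hn⟩ with rfl | rfl
  exacts [.inl (by rw [e, one_mul]), .inr e]

/-- The action homomorphism of `C(t)`. -/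
theorem Cw.exists_hom (h : Cw ι t) : ∃ f : C1 t →* Perm α, ∀ g : C1 t, Act ι g (f g) := by
  choose f hf using fun g : C1 t => h.reg g (mem_C1.1 g.2)
  exact ⟨MonoidHom.mk' f fun a b => h.uniq (hf (a * b)) ((hf a).mul (hf b)), hf⟩

/-- A copy of an alternating group in `C(t)` acts faithfully. -/
theorem Cw.faithful (h : Cw ι t) (h5 : 5 ≤ Fintype.card γ) (f : alternatingGroup γ →* G)
    (hf : Function.Injective f) (hc : ∀ b, f b * t = t * f b) :
    ∃ f' : alternatingGroup γ →* Perm α, Function.Injective f' ∧ ∀ b, Act ι (f b) (f' b) := by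
  obtain ⟨φ, hφ⟩ := h.exists_hom
  let f' := φ.comp (f.codRestrict (C1 t) fun b => mem_C1.2 (hc b))
  have ha : ∀ b, Act ι (f b) (f' b) := fun b => hφ ⟨f b, mem_C1.2 (hc b)⟩
  refine ⟨f', (MonoidHom.ker_eq_bot_iff f').1 ?_, ha⟩
  have := simp5 h5
  refine (IsSimpleGroup.eq_bot_or_eq_top_of_normal f'.ker inferInstance).resolve_right fun e => ?_
  have h1 := triv h5 f (t := t) fun b hb => h.ker2 _ (hc b)
    ((show f' b = 1 from (show b ∈ f'.ker from e ▸ mem_top b)) ▸ ha b) (by rw [← map_mul, hb, map_one])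
  obtain ⟨a, b, c, d, h4⟩ := exists_D4 (α := γ) (by omega)
  exact h4.iv.2 (congrArg Subtype.val ((injective_iff_map_eq_one f).1 hf _ (h1 ⟨_, h4.mem⟩)))

/-- A copy of an alternating group in `C(t)` lies in the component. -/
theorem Cw.le_range (h : Cw ι t) (h5 : 5 ≤ Fintype.card γ) (f : alternatingGroup γ →* G)
    (hf : Function.Injective f) (hc : ∀ b, f b * t = t * f b) : f.range ≤ ι.range := by
  obtain ⟨f', -, ha⟩ := h.faithful h5 f hf hc
  have he := even_img h5 f'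
  choose w e1 e2 e3 e4 using fun b => h.even_aux (hc b) (ha b) (he b)
  have c : ∀ b p, ev ι p * w b = w b * ev ι p := fun b p => mem_cent.1 (act_one_iff.1 (e3 b)) _ (ev_mem p)
  let W : alternatingGroup γ →* G := MonoidHom.mk' w fun a b => by
    have h1 := e1 (a * b)
    rw [map_mul, map_mul, ev_mul (he a) (he b), e1 a, e1 b, mul_assoc, ← mul_assoc (ev ι _), c, mul_assoc,
      ← mul_assoc] at h1
    exact (mul_right_cancel h1).symm
  have h1 := triv h5 W (t := t) fun b hb => h.ker2 _ (e2 b) (e3 b) (by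
    rw [← pow_two]; exact e4 b 2 (by rw [pow_two, ← map_mul, hb, map_one]))
  rintro _ ⟨b, rfl⟩
  rw [e1 b, show w b = 1 from h1 b, one_mul]
  exact ev_mem _

theorem Cw.range_eq {κ : alternatingGroup β →* G} (h : Cw ι t) (h' : Cw κ t)
    (hc : Fintype.card α = Fintype.card β) : κ.range = ι.range :=
  le_antisymm (h.le_range h'.five κ h'.inj fun b => ev_coe (ι := κ) b ▸ h'.comm_ev b)
    (h'.le_range (hc ▸ h'.five) ι h.inj fun b => ev_coe (ι := ι) b ▸ h.comm_ev b)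

/-- Two labellings differ by a bijection. -/
theorem Cw.rel {κ : alternatingGroup β →* G} (h : Cw ι t) (h' : Cw κ t)
    (hc : Fintype.card α = Fintype.card β) : ∃ e : α ≃ β,
      (∀ p ∈ alternatingGroup α, e.permCongr p ∈ alternatingGroup β ∧ ev κ (e.permCongr p) = ev ι p) ∧
      ∀ g σ, Act ι g σ ↔ Act κ g (e.permCongr σ) := by
  let φ : alternatingGroup α ≃* alternatingGroup β := ((MonoidHom.ofInjective h.inj).trans
    (MulEquiv.subgroupCongr (h.range_eq h' hc).symm)).trans (MonoidHom.ofInjective h'.inj).symm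
  have hφ : ∀ p, κ (φ p) = ι p := fun p => MonoidHom.apply_ofInjective_symm h'.inj _
  obtain ⟨e, he⟩ := exists_equiv_of_mulEquiv_alternating h.four (by have := h.eight; omega) hc φ
  have h1 : ∀ p ∈ alternatingGroup α, e.permCongr p ∈ alternatingGroup β ∧ ev κ (e.permCongr p) = ev ι p :=
    fun p hp => by
      rw [← he ⟨p, hp⟩, ev_coe, hφ, ev_of_mem hp]
      exact ⟨(φ _).2, rfl⟩
  have h2 : ∀ σ p : Perm α, e.permCongr σ * e.permCongr p * (e.permCongr σ)⁻¹ = e.permCongr (σ * p * σ⁻¹) :=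
    fun σ p => by
      simp only [← Equiv.permCongrHom_coe, map_mul, map_inv]
  refine ⟨e, h1, fun g σ => ⟨fun ha q hq => ?_, fun ha p hp => ?_⟩⟩
  · obtain ⟨p, hp⟩ := φ.surjective ⟨q, hq⟩
    obtain rfl : e.permCongr p = q := (he p).symm.trans (congrArg Subtype.val hp)
    rw [h2, (h1 _ p.2).2, (h1 _ (conj_mem_alt p.2 σ)).2, ha _ p.2]
  · rw [← (h1 _ hp).2, ← (h1 _ (conj_mem_alt hp σ)).2, ha _ (h1 _ hp).1, h2]

theorem Cw.cf {κ : alternatingGroup β →* G} (h : Cf ι t) (h' : Cw κ t)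
    (hc : Fintype.card α = Fintype.card β) : Cf κ t := by
  obtain ⟨e, -, he⟩ := h.cw.rel h' hc
  exact ⟨h'.eight, h'.inj, h'.iv, h'.cen, h'.reg, fun g h1 h2 => h.ker g h1 ((he g 1).2 (by
    rwa [show e.permCongr 1 = 1 from map_one e.permCongrHom]))⟩

/-- The type of a commuting involution does not depend on the labelling. -/
theorem Cw.tp {κ : alternatingGroup β →* G} {τ : Perm β} (h : Cw ι t) (h' : Cw κ t)
    (hc : Fintype.card α = Fintype.card β) (h1 : Act ι g σ) (h2 : Act κ g τ) (ht : Tp σ k) :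
    Tp τ k := by
  obtain ⟨e, -, he⟩ := h.rel h' hc
  exact h'.uniq ((he g σ).1 h1) h2 ▸ tp_congr e ht

theorem Sg.transfer {κ : alternatingGroup β →* G} (h : Cw ι t) (h' : Cw κ s) (hs : IsConj t s)
    (hc : Fintype.card α = Fintype.card β) (hk : Sg ι t k) : Sg κ s k := by
  obtain ⟨g, rfl⟩ := isConj_iff.1 hs
  obtain ⟨e, he, -⟩ := (h.toC g).rel h' hc
  obtain ⟨p, hp, p1, pk, hj⟩ := hk
  refine ⟨e.permCongr p, (he p hp).1, fun e1 => p1 (e.permCongrHom.map_eq_one_iff.1 e1), tp_congr e pk, ?_⟩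
  rw [(he p hp).2, ev_cι, conj_mul]
  exact (hs.symm.trans hj).trans (isConj_iff.2 ⟨g, rfl⟩)

theorem Sg.all (hk : Sg ι t k) (h : Cw ι t) (hp : Tp p k) : IsConj t (t * ev ι p) := by
  obtain ⟨q, hq, -, qk, hj⟩ := hk
  obtain ⟨π, hπ, rfl⟩ := qk.alt_conj hp
  refine hj.trans (isConj_iff.2 ⟨ev ι π, ?_⟩)
  rw [ev_conj hπ hq, ← mul_assoc, h.comm_ev]
  group

theorem Sg.even (hk : Sg ι t k) : Even k ∧ 2 ≤ k ∧ 2 * k ≤ Fintype.card α := by
  obtain ⟨p, hp, p1, pk, -⟩ := hk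
  have h1 := pk.even_iff.1 hp
  have h2 : k ≠ 0 := fun e => p1 (tp_zero.1 (e ▸ pk))
  exact ⟨h1, by obtain ⟨m, rfl⟩ := h1; omega, pk.le⟩

theorem Ev0.transfer (h : Cw ι t) (h' : Cw κ s) (hs : IsConj t s) (he : Ev0 ι t) : Ev0 κ s := by
  obtain ⟨g, rfl⟩ := isConj_iff.1 hs
  obtain ⟨e, h1, h2⟩ := h'.rel (h.toC g) rfl
  intro u σ hu hc ha hσ
  obtain ⟨y, rfl⟩ := exC g u
  rw [he y _ ((hs.trans hu).trans (isConj_iff.2 ⟨g, rfl⟩ : IsConj y _).symm) (commC.1 hc)
    (actC.1 ((h2 _ σ).1 ha)) (h1 σ hσ).1]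

theorem Sw.conj (h : Sw α s u) (g : G) : Sw α (g * s * g⁻¹) (g * u * g⁻¹) := by
  obtain ⟨κ, x, y, h1, h2⟩ := h
  exact ⟨cι κ g, x, y, h1.toC g, h2.ne, ((isConj_iff.2 ⟨g, rfl⟩ : IsConj s _).symm.trans h2.cj).trans
    (isConj_iff.2 ⟨g, rfl⟩), commC.2 h2.comm, h2.act.toC g⟩

theorem Sw.t1 (h : Sw α s u) (h' : Cw κ s) : ∃ x y, T1 κ s u x y := by
  obtain ⟨κ₀, x, y, h1, h2⟩ := h
  obtain ⟨τ, hτ⟩ := h'.reg u h2.comm
  obtain ⟨a, b, hab, rfl⟩ := tp_one.1 (h1.cw.tp h' rfl h2.act hτ (tp_one.2 ⟨x, y, h2.ne, rfl⟩))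
  exact ⟨a, b, hab, h2.cj, h2.comm, hτ⟩

/-- Type one is symmetric. -/
theorem T1.symm {x y : α} (h1 : T1 ι t u x y) (h : Cw ι t) (h' : Cw κ u) : ∃ a b, T1 κ u t a b := by
  obtain ⟨τ, hτ⟩ := h'.reg t h1.comm.symm
  obtain ⟨k, hk⟩ := tp_exists (p := τ) (by
    rw [← pow_two]; exact hτ.pow_eq_one h'.inj h'.four (by rw [pow_two, h.iv.1]))
  have k0 : k ≠ 0 := fun e => by
    obtain rfl := tp_zero.1 (e ▸ hk)
    obtain rfl := (h'.ker2 t h1.comm.symm hτ h.iv.1).resolve_left h.iv.2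
    exact h1.ne (swap_eq_one_iff.1 (h.uniq h1.act h.cen))
  let F : alternatingGroup (Rm x y) →* alternatingGroup α :=
    (Perm.ofSubtype.comp (alternatingGroup _).subtype).codRestrict _ fun p => ofSubtype_mem p.2
  have hF : Function.Injective F := fun a b e => Subtype.ext (Perm.ofSubtype_injective (congrArg Subtype.val e))
  have hn := card_rm h1.ne
  have h8 := h.eight
  have hu : ∀ b, ι.comp F b * u = u * ι.comp F b := fun b => by
    rw [MonoidHom.comp_apply, ← ev_coe, eq_comm, h1.act.comm_iff h.inj (F b).2, mul_swap_eq_swap_mul]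
    rw [show (F b : Perm α) x = x from Perm.ofSubtype_apply_of_not_mem _ (by simp),
      show (F b : Perm α) y = y from Perm.ofSubtype_apply_of_not_mem _ (by simp)]
  obtain ⟨f', hf', ha⟩ := h'.faithful (by omega) (ι.comp F) (h.inj.comp hF) hu
  have h2 := alt_cent (by omega) f' hf' hk fun b => (ha b).comm h'.inj h'.four hτ (by
    rw [MonoidHom.comp_apply, ← ev_coe, h.comm_ev])
  have h3 := hk.le
  obtain rfl : k = 1 := by omega
  obtain ⟨a, b, hab, rfl⟩ := tp_one.1 hk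
  exact ⟨a, b, hab, h1.cj.symm, h1.comm.symm, hτ⟩

theorem Sw.symm (h : Sw α s u) : Sw α u s := by
  obtain ⟨κ, x, y, h1, h2⟩ := h
  obtain ⟨κ', h3⟩ := h1.emb h2.cj
  obtain ⟨a, b, h4⟩ := h2.symm h1.cw h3.cw
  exact ⟨κ', a, b, h3, h4⟩

end Cfsg.Agent.SAq
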