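import Mathlib
import Cfsg.Agent.SAq.AU

/-! Three pairs (H3). See `stubs/Cfsg/Agent/SAq/PLAN3.md`. -/

set_option autoImplicit false
set_option linter.unusedSectionVars false

namespace Cfsg.Agent.SAq

open Cfsg Cfsg.Agent.GT Cfsg.Agent.Loc.Mss Cfsg.Agent.Sym Cfsg.Agent.Loc.SO Cfsg.Agent.SAn Subgroup Equiv
open Cfsg.Agent.StdB (C1 mem_C1)
open scoped commutatorElement

namespace AE

section Grp

variable {G : Type*} [Group G] {A B C D E F t a b c k k1 k2 k3 : G}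

theorem tri_t (hA : A * t * A⁻¹ = t * a) (hB : B * t * B⁻¹ = t * b) (hC : C * t * C⁻¹ = t * c)
    (h1 : Commute c B) (h2 : Commute c A) (h3 : Commute b A) (h : a * b * c = 1) :
    A * B * C * t = t * (A * B * C) := by
  refine mul_inv_eq_iff_eq_mul.1 ?_
  calc _ = A * (B * (C * t * C⁻¹) * B⁻¹) * A⁻¹ := by group
    _ = A * (B * t * B⁻¹) * A⁻¹ * (A * (B * c * B⁻¹) * A⁻¹) := by rw [hC]; group
    _ = A * t * A⁻¹ * (A * b * A⁻¹) * c := by
      rw [hB, ← h1.eq, mul_inv_cancel_right, ← h2.eq, mul_inv_cancel_right]; group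
    _ = t * (a * b * c) := by rw [hA, ← h3.eq, mul_inv_cancel_right]; group
    _ = t := by rw [h, mul_one]

theorem cen_k (hk : k = A⁻¹ * B * A * B⁻¹) (sA : Commute (A * A) B) (sB : Commute (B * B) A)
    (uA : k * A * k⁻¹ = A ∨ k * A * k⁻¹ = A * a) (uB : k * B * k⁻¹ = B ∨ k * B * k⁻¹ = B * b)
    (a1 : a ≠ 1) (b1 : b ≠ 1) (ab : a ≠ b) :
    k * k = 1 ∧ Commute k A ∧ Commute k B ∧ B * A = k * A * B ∧ B⁻¹ * A * B * A⁻¹ = k := by
  have e1 : A * (k * A * k⁻¹) * (k * k) = A * A := by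
    calc _ = B * (A * A) * B⁻¹ := by rw [hk]; group
      _ = _ := by rw [← sA.eq, mul_inv_cancel_right]
  have e2 : k * B * k⁻¹ * (k * k) * B = B * B := by
    calc _ = A⁻¹ * (B * B * A) := by rw [hk]; group
      _ = _ := by rw [sB.eq, inv_mul_cancel_left]
  have e3 : k * A * k⁻¹ = A * a → a * (k * k) = 1 := fun h => by
    rw [h, ← mul_assoc A A, mul_assoc (A * A)] at e1
    exact mul_eq_left.1 e1
  have e4 : k * B * k⁻¹ = B * b → b * (k * k) = 1 := fun h => by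
    rw [h, mul_left_inj, mul_assoc] at e2
    exact mul_eq_left.1 e2
  have e5 : k * A * k⁻¹ = A → k * k = 1 := fun h => by
    rw [h] at e1
    exact mul_eq_left.1 e1
  have e6 : k * B * k⁻¹ = B → k * k = 1 := fun h => by
    rw [h, mul_left_inj] at e2
    exact mul_eq_left.1 e2
  rcases uA with hA | hA <;> rcases uB with hB | hB
  · have cA : Commute k A := mul_inv_eq_iff_eq_mul.1 hA
    have cB : Commute k B := mul_inv_eq_iff_eq_mul.1 hB
    have e : B * A = k * A * B := by rw [cA.eq, hk]; group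
    refine ⟨e5 hA, cA, cB, e, ?_⟩
    rw [← inv_eq_of_mul_eq_one_right (e5 hA)]
    calc _ = B⁻¹ * k⁻¹ * (k * A * B) * A⁻¹ := by group
      _ = B⁻¹ * (k⁻¹ * B) := by rw [← e]; group
      _ = _ := by rw [cB.inv_left.eq, inv_mul_cancel_left]
  · exact absurd (by simpa only [e5 hA, mul_one] using e4 hB) b1
  · exact absurd (by simpa only [e6 hB, mul_one] using e3 hA) a1
  · exact absurd (mul_right_cancel ((e3 hA).trans (e4 hB).symm)) ab

theorem y_sq (h1 : B * A = k1 * A * B) (h2 : C * A = k2 * A * C) (h3 : C * B = k3 * B * C) (c1 : Commute k1 A)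
    (c2 : Commute k2 A) (h4 : k2⁻¹ * B * k2⁻¹⁻¹ = B * b) (c3 : Commute b A) (c4 : Commute b B) (c5 : Commute k3 B)
    (c6 : Commute k3 C) (h : A * A * (B * B) * (C * C) = 1) : A * B * C * (A * B * C) = k2 * b * k1 * k3 := by
  calc _ = A * B * (C * A) * B * C := by group
    _ = A * k2 * (k2⁻¹ * B * k2⁻¹⁻¹) * A * (C * B) * C := by rw [h2]; group
    _ = A * k2 * (B * b) * A * (k3 * B * C * C) := by rw [h3, h4]; group
    _ = k2 * (A * b) * (B * A) * (B * C * C * k3) := by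
      rw [← c2.eq, ← c4.eq, mul_assoc k3, mul_assoc k3, ((c5.mul_right c6).mul_right c6).eq]; group
    _ = k2 * b * (A * k1) * A * B * (B * C * C * k3) := by rw [← c3.eq, h1]; group
    _ = k2 * b * k1 * (A * A * (B * B) * (C * C)) * k3 := by rw [← c1.eq]; group
    _ = _ := by rw [h, mul_one]

theorem sq3 (h1 : Commute B A) (h2 : Commute C A) (h3 : Commute C B) :
    A * B * C * (A * B * C) = A * A * (B * B) * (C * C) := by
  simp only [mul_assoc, h1.left_comm, h2.left_comm, h3.left_comm]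

end Grp

/-- First points of the four pairs. -/
def lo : Fin 4 → Fin 8 := ![0, 2, 4, 6]
/-- Second points of the four pairs. -/
def hi : Fin 4 → Fin 8 := ![1, 3, 5, 7]
/-- The four pairs. -/
def P (a : Fin 4) : Perm (Fin 8) := swap (lo a) (hi a)
/-- Permutations of the pairs. -/
def lift (π : Perm (Fin 4)) : Perm (Fin 8) :=
  (finProdFinEquiv (m := 4) (n := 2)).permCongr (π.prodCongr (Equiv.refl (Fin 2)))

theorem lift_P : ∀ (π : Perm (Fin 4)) (a : Fin 4), lift π * P a * (lift π)⁻¹ = P (π a) := by decide +kernel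

theorem lift_sign : ∀ π : Perm (Fin 4), Perm.sign (lift π) = 1 := by decide +kernel

theorem P_comm : ∀ a b, P a * P b = P b * P a := by decide +kernel

theorem P_dt {a b : Fin 4} (h : a ≠ b) : Dt (P a * P b) := by
  obtain ⟨h1, h2, h3, h4, h5, h6⟩ := (by decide : ∀ a b : Fin 4, a ≠ b → lo a ≠ hi a ∧ lo a ≠ lo b ∧ lo a ≠ hi b ∧
    hi a ≠ lo b ∧ hi a ≠ hi b ∧ lo b ≠ hi b) a b h
  exact ⟨_, _, _, _, ⟨h1, h2, h3, h4, h5, h6⟩, rfl⟩

theorem PP_comm (a b c d : Fin 4) : Commute (P a * P b) (P c * P d) :=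
  Commute.mul_left (Commute.mul_right (P_comm a c) (P_comm a d)) (Commute.mul_right (P_comm b c) (P_comm b d))

theorem transport {R : Fin 4 → Fin 4 → Fin 4 → Fin 4 → Prop} (h : ∀ π : Perm (Fin 4), R (π 0) (π 1) (π 2) (π 3))
    (a b c d : Fin 4) (hn : [a, b, c, d].Nodup) : R a b c d := by
  obtain ⟨π, rfl, rfl, rfl, rfl⟩ := (by decide +kernel : ∀ a b c d : Fin 4, [a, b, c, d].Nodup →
    ∃ π : Perm (Fin 4), π 0 = a ∧ π 1 = b ∧ π 2 = c ∧ π 3 = d) a b c d hn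
  exact h π

theorem cj4 {H : Type*} [Group H] (q A B C D : H) (i j l m : ℕ) : q * (A ^ i * B ^ j * C ^ l * D ^ m) * q⁻¹ =
    (q * A * q⁻¹) ^ i * (q * B * q⁻¹) ^ j * (q * C * q⁻¹) ^ l * (q * D * q⁻¹) ^ m := by
  simp only [conj_pow]; group

variable {α : Type} [Fintype α] [DecidableEq α] {G : Type*} [Group G] [Finite G] {ι : alternatingGroup α →* G}
  {t g g' : G} {Y : Perm α → G} {e : Fin 8 ↪ α} {a b c d : Fin 4} {σ τ q : Perm (Fin 8)}

/-- The value of `Y` at a product of two pairs. -/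
noncomputable def x (Y : Perm α → G) (e : Fin 8 ↪ α) (a b : Fin 4) : G := Y (Perm.viaEmbeddingHom e (P a * P b))
/-- The image of a local permutation. -/
noncomputable def v (ι : alternatingGroup α →* G) (e : Fin 8 ↪ α) (q : Perm (Fin 8)) : G :=
  ev ι (Perm.viaEmbeddingHom e q)
/-- Acting as a local permutation. -/
def Ac (ι : alternatingGroup α →* G) (e : Fin 8 ↪ α) (g : G) (σ : Perm (Fin 8)) : Prop :=
  Act ι g (Perm.viaEmbeddingHom e σ)

theorem x_symm (a b : Fin 4) : x Y e a b = x Y e b a := by rw [x, P_comm, x]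

theorem dtP (h : a ≠ b) : Dt (Perm.viaEmbeddingHom e (P a * P b)) := via_dt e (P_dt h)

theorem Ac.mul (h : Ac ι e g σ) (h' : Ac ι e g' τ) : Ac ι e (g * g') (σ * τ) := by
  rw [Ac, map_mul]; exact Act.mul h h'

theorem Ac.one : Ac ι e 1 1 := by rw [Ac, map_one]; exact Act.one

theorem Ac.v (hq : q ∈ alternatingGroup (Fin 8)) : Ac ι e (v ι e q) q := act_ev ((via_mem e).2 hq)

theorem Ac.cj (h : Ac ι e g σ) (hq : q ∈ alternatingGroup (Fin 8)) :
    Ac ι e (AE.v ι e q * g * (AE.v ι e q)⁻¹) (q * σ * q⁻¹) := by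
  rw [Ac, map_mul, map_mul, map_inv]; exact Act.conj (Ac.v hq) h

theorem Ac.uniq (H : YG ι t Y) (h : Ac ι e g σ) (h' : Ac ι e g τ) : σ = τ :=
  Perm.viaEmbeddingHom_injective e (H.cf.cw.uniq h h')

theorem v_mul (hp : σ ∈ alternatingGroup (Fin 8)) (hq : τ ∈ alternatingGroup (Fin 8)) :
    v ι e σ * v ι e τ = v ι e (σ * τ) := by
  rw [v, v, v, map_mul, ev_mul ((via_mem e).2 hp) ((via_mem e).2 hq)]

theorem v_one : v ι e 1 = 1 := by rw [v, map_one, ev_one]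

theorem v_inj (H : YG ι t Y) (hp : σ ∈ alternatingGroup (Fin 8)) (hq : τ ∈ alternatingGroup (Fin 8))
    (h : v ι e σ = v ι e τ) : σ = τ := (Ac.v hp).uniq H (h ▸ Ac.v hq)

theorem vx (H : YG ι t Y) (h : a ≠ b) (h' : c ≠ d) : Commute (v ι e (P c * P d)) (x Y e a b) :=
  H.yt.comm (dtP h) (dtP h').mem ((PP_comm c d a b).map _).eq

theorem cjY (H : YG ι t Y) (hq : q ∈ alternatingGroup (Fin 8)) (h : a ≠ b) : v ι e q * x Y e a b * (v ι e q)⁻¹ =
    Y (Perm.viaEmbeddingHom e (q * P a * q⁻¹ * (q * P b * q⁻¹))) := by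
  rw [v, x, H.yt.eqv _ ((via_mem e).2 hq) _ (dtP h), ← map_mul, ← map_inv, ← map_mul]
  congr 2
  group

theorem lift_mem (π : Perm (Fin 4)) : lift π ∈ alternatingGroup (Fin 8) := Perm.mem_alternatingGroup.2 (lift_sign π)

theorem cjx (H : YG ι t Y) (π : Perm (Fin 4)) (h : a ≠ b) :
    v ι e (lift π) * x Y e a b * (v ι e (lift π))⁻¹ = x Y e (π a) (π b) := by
  rw [cjY H (lift_mem π) h, lift_P, lift_P, x]

theorem uq' (H : YG ι t Y) (h : a ≠ b) (hc : g * t = t * g) (h1 : Commute (v ι e (P a * P b)) g) :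
    g * x Y e a b * g⁻¹ = x Y e a b ∨ g * x Y e a b * g⁻¹ = x Y e a b * v ι e (P a * P b) := by
  obtain ⟨σ, hσ⟩ := H.cf.reg g hc
  have := H.uq hc hσ (dtP (e := e) h)
  rwa [(hσ.comm_iff H.cf.inj (dtP h).mem).1 h1.symm.eq, mul_inv_cancel_right] at this

theorem eq_v (H : YG ι t Y) (hc : g * t = t * g) (h2 : g * g = 1) (ha : Ac ι e g σ)
    (hσ : σ ∈ alternatingGroup (Fin 8)) (h : a ≠ b) (h1 : σ * (P a * P b) = P a * P b * σ)
    (h3 : Commute g (x Y e a b)) : g = v ι e σ :=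
  H.eq_ev hc ⟨1, by rw [pow_one, sq, h2]⟩ ha ((via_mem e).2 hσ) (dtP h) (by rw [← map_mul, h1, map_mul]) h3

theorem v3 (h1 : a ≠ b) (h2 : a ≠ c) (h3 : b ≠ c) :
    v ι e (P a * P b) * v ι e (P a * P c) * v ι e (P b * P c) = 1 := by
  rw [v_mul (P_dt h1).mem (P_dt h2).mem, v_mul (mul_mem (P_dt h1).mem (P_dt h2).mem) (P_dt h3).mem,
    (by decide +kernel : ∀ a b c, P a * P b * (P a * P c) * (P b * P c) = 1), v_one]

theorem y_t (H : YG ι t Y) (h1 : a ≠ b) (h2 : a ≠ c) (h3 : b ≠ c) :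
    x Y e a b * x Y e a c * x Y e b c * t = t * (x Y e a b * x Y e a c * x Y e b c) :=
  tri_t (H.yt.ph _ (dtP h1)) (H.yt.ph _ (dtP h2)) (H.yt.ph _ (dtP h3)) (vx H h2 h3) (vx H h1 h3) (vx H h1 h2)
    (v3 h1 h2 h3)

theorem x_sq3 (H : YG ι t Y) (h1 : a ≠ b) (h2 : a ≠ c) (h3 : b ≠ c) :
    x Y e a b * x Y e a b * (x Y e a c * x Y e a c) * (x Y e b c * x Y e b c) = 1 := by
  rcases H.yt.sq with h | h
  · rw [x, x, x, h _ (dtP h1), h _ (dtP h2), h _ (dtP h3), mul_one, mul_one]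
  · rw [x, x, x, h _ (dtP h1), h _ (dtP h2), h _ (dtP h3)]
    exact v3 h1 h2 h3

theorem x_sqc (H : YG ι t Y) (h1 : a ≠ b) (h2 : c ≠ d) : Commute (x Y e a b * x Y e a b) (x Y e c d) := by
  rcases H.yt.sq with h | h
  · rw [x, h _ (dtP h1)]; exact Commute.one_left _
  · rw [x, h _ (dtP h1)]; exact vx H h2 h1

theorem actE (H : YG ι t Y) (e : Fin 8 ↪ α) (hc : g * t = t * g)
    (hz : ∀ z, Commute z (x Y e 0 1) → Commute z (x Y e 0 2) → Commute z (x Y e 1 2) → Commute z g) :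
    ∃ i j l m : Fin 2, Ac ι e g (P 0 ^ i.1 * P 1 ^ j.1 * P 2 ^ l.1 * P 3 ^ m.1) ∧ (m = 1 → Fintype.card α = 8) := by
  obtain ⟨σ, hσ⟩ := H.cf.reg g hc
  obtain ⟨i, j, l, m, rfl, hm⟩ := cent_E e (σ := σ) fun q hq h1 h2 => by
    rw [dE_eq] at h1 h2
    refine (hσ.comm_iff H.cf.inj hq).1 (hz _ (H.yt.comm (dtP (by decide)) hq h1) (H.yt.comm (dtP (by decide)) hq h2)
      (H.yt.comm (dtP (by decide)) hq ?_)).symm.eq
    rw [(by decide +kernel : P 1 * P 2 = dt 0 1 2 3 * dt 0 1 4 5), map_mul]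
    exact Commute.mul_right h1 h2
  refine ⟨i, j, l, m, ?_, hm⟩
  simp only [sE_eq, ← map_pow, ← map_mul] at hσ
  exact hσ

/-- The commutator of two of the elements. -/
noncomputable def kk (Y : Perm α → G) (e : Fin 8 ↪ α) (a b c : Fin 4) : G :=
  (x Y e a b)⁻¹ * x Y e a c * x Y e a b * (x Y e a c)⁻¹

theorem kk_t (H : YG ι t Y) (h1 : a ≠ b) (h2 : a ≠ c) : kk Y e a b c * t = t * kk Y e a b c :=
  H.yt.cm_t (dtP h1) (dtP h2) ((PP_comm a b a c).map _).eq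

theorem kk_c {z : G} (h1 : Commute z (x Y e a b)) (h2 : Commute z (x Y e a c)) : Commute z (kk Y e a b c) :=
  ((h1.inv_right.mul_right h2).mul_right h1).mul_right h2.inv_right

theorem kk_cen (H : YG ι t Y) (h1 : a ≠ b) (h2 : a ≠ c) (h3 : b ≠ c) : kk Y e a b c * kk Y e a b c = 1 ∧
    Commute (kk Y e a b c) (x Y e a b) ∧ Commute (kk Y e a b c) (x Y e a c) ∧
    x Y e a c * x Y e a b = kk Y e a b c * x Y e a b * x Y e a c ∧ kk Y e a c b = kk Y e a b c :=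
  cen_k rfl (x_sqc H h1 h2) (x_sqc H h2 h1) (uq' H h1 (kk_t H h1 h2) (kk_c (vx H h1 h1) (vx H h2 h1)))
    (uq' H h2 (kk_t H h1 h2) (kk_c (vx H h1 h2) (vx H h2 h2)))
    (fun h => (P_dt h1).iv.2 (v_inj H (P_dt h1).mem (one_mem _) (h.trans v_one.symm)))
    (fun h => (P_dt h2).iv.2 (v_inj H (P_dt h2).mem (one_mem _) (h.trans v_one.symm)))
    fun h => (by decide +kernel : ∀ a b c, b ≠ c → P a * P b ≠ P a * P c) a b c h3
      (v_inj H (P_dt h1).mem (P_dt h2).mem h)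

theorem fin1 : ∀ i j l m : Fin 2,
    P 0 ^ i.1 * P 1 ^ j.1 * P 2 ^ l.1 * P 3 ^ m.1 = P 0 ^ i.1 * P 2 ^ j.1 * P 1 ^ l.1 * P 3 ^ m.1 →
    (1 = P 1 ^ i.1 * P 0 ^ j.1 * P 2 ^ l.1 * P 3 ^ m.1 * 1 * (P 0 ^ i.1 * P 1 ^ j.1 * P 2 ^ l.1 * P 3 ^ m.1) *
      (P 2 ^ i.1 * P 0 ^ j.1 * P 1 ^ l.1 * P 3 ^ m.1) ∨
    1 = P 1 ^ i.1 * P 0 ^ j.1 * P 2 ^ l.1 * P 3 ^ m.1 * (P 0 * P 2) *
      (P 0 ^ i.1 * P 1 ^ j.1 * P 2 ^ l.1 * P 3 ^ m.1) * (P 2 ^ i.1 * P 0 ^ j.1 * P 1 ^ l.1 * P 3 ^ m.1)) →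
    i = 0 ∧ l = j ∧ m = 0 := by decide +kernel

theorem ec0 (H : YG ι t Y) (e : Fin 8 ↪ α) : Commute (x Y e 0 1) (x Y e 0 2) := by
  obtain ⟨i, j, l, m, h0, -⟩ := actE H e (kk_t H (a := 0) (b := 1) (c := 2) (by decide) (by decide))
    fun z h1 h2 _ => kk_c h1 h2
  have hk : ∀ a b c d : Fin 4, [a, b, c, d].Nodup →
      Ac ι e (kk Y e a b c) (P a ^ i.1 * P b ^ j.1 * P c ^ l.1 * P d ^ m.1) := transport fun π => by
    have := h0.cj (lift_mem π)
    rw [cj4, lift_P, lift_P, lift_P, lift_P] at this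
    convert this using 1
    rw [kk, kk, ← cjx H π (by decide), ← cjx H π (by decide)]
    group
  obtain ⟨a1, a2, a3, a4, a5⟩ := kk_cen (e := e) H (a := 0) (b := 1) (c := 2) (by decide) (by decide) (by decide)
  obtain ⟨-, b2, -, b4, -⟩ := kk_cen (e := e) H (a := 1) (b := 0) (c := 2) (by decide) (by decide) (by decide)
  obtain ⟨-, c2, c3, c4, -⟩ := kk_cen (e := e) H (a := 2) (b := 0) (c := 1) (by decide) (by decide) (by decide)
  obtain ⟨-, -, -, d4, -⟩ := kk_cen (e := e) H (a := 0) (b := 1) (c := 3) (by decide) (by decide) (by decide)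
  rw [x_symm 1 0] at b2 b4
  rw [x_symm 2 0] at c2 c4
  rw [x_symm 2 1] at c3 c4
  have e1 := h0.uniq H (a5 ▸ hk 0 2 1 3 (by decide))
  obtain ⟨i', j', l', m', hy, -⟩ := actE H e (y_t H (a := 0) (b := 1) (c := 2) (by decide) (by decide) (by decide))
    fun z h1 h2 h3 => (h1.mul_right h2).mul_right h3
  have hy2 := hy.mul hy
  rw [(by decide +kernel : ∀ i j l m : Fin 2, P 0 ^ i.1 * P 1 ^ j.1 * P 2 ^ l.1 * P 3 ^ m.1 *
    (P 0 ^ i.1 * P 1 ^ j.1 * P 2 ^ l.1 * P 3 ^ m.1) = 1)] at hy2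
  have key : ∀ β : Perm (Fin 8), β = 1 ∨ β = P 0 * P 2 →
      (kk Y e 1 0 2)⁻¹ * x Y e 0 2 * (kk Y e 1 0 2)⁻¹⁻¹ = x Y e 0 2 * v ι e β → i = 0 ∧ l = j ∧ m = 0 := by
    intro β hβ h
    have f : β ∈ alternatingGroup (Fin 8) ∧ Commute (v ι e β) (x Y e 0 1) ∧ Commute (v ι e β) (x Y e 0 2) := by
      rcases hβ with rfl | rfl
      · rw [v_one]; exact ⟨one_mem _, Commute.one_left _, Commute.one_left _⟩
      · exact ⟨(P_dt (by decide)).mem, vx H (by decide) (by decide), vx H (by decide) (by decide)⟩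
    rw [y_sq a4 b4 c4 a2 b2 h f.2.1 f.2.2 c2 c3 (x_sq3 H (by decide) (by decide) (by decide))] at hy2
    have e2 := hy2.uniq H ((((hk 1 0 2 3 (by decide)).mul (Ac.v f.1)).mul h0).mul (hk 2 0 1 3 (by decide)))
    refine fin1 i j l m e1 ?_
    rcases hβ with rfl | rfl
    exacts [Or.inl e2, Or.inr e2]
  obtain ⟨rfl, rfl, rfl⟩ : i = 0 ∧ l = j ∧ m = 0 := by
    rcases uq' (e := e) H (a := 0) (b := 2) (g := (kk Y e 1 0 2)⁻¹) (by decide)
      (Commute.inv_left (kk_t H (by decide) (by decide))).eq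
      (kk_c (vx H (by decide) (by decide)) (vx H (by decide) (by decide))).inv_right with h | h
    · exact key 1 (Or.inl rfl) (by rw [h, v_one, mul_one])
    · exact key _ (Or.inr rfl) h
  have hv : ∀ c d : Fin 4, [0, 1, c, d].Nodup → kk Y e 0 1 c = v ι e ((P 1 * P c) ^ l.1) := fun c d hn => by
    have n : 0 ≠ c ∧ 1 ≠ c := by revert c d; decide
    obtain ⟨f1, f2, -⟩ := kk_cen (e := e) H (a := 0) (b := 1) (by decide) n.1 n.2
    have := hk 0 1 c d hn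
    rw [(by decide +kernel : ∀ (c d : Fin 4) (l : Fin 2), P 0 ^ (0 : Fin 2).1 * P 1 ^ l.1 * P c ^ l.1 *
      P d ^ (0 : Fin 2).1 = (P 1 * P c) ^ l.1)] at this
    exact eq_v H (kk_t H (by decide) n.1) f1 this (pow_mem (P_dt n.2).mem _) (by decide)
      ((PP_comm 1 c 0 1).pow_left _).eq f2
  rw [hv 2 3 (by decide)] at a4
  rw [hv 3 2 (by decide)] at d4
  fin_cases l
  · change _ = v ι e 1 * _ * _ at a4
    rw [v_one, one_mul] at a4
    exact a4.symm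
  · exfalso
    change _ = v ι e ((P 1 * P 2) ^ 1) * _ * _ at a4
    change _ = v ι e ((P 1 * P 3) ^ 1) * _ * _ at d4
    rw [pow_one] at a4 d4
    have dc : Commute (x Y e 0 1) (x Y e 2 3) := by
      have := H.dc e
      rwa [dE_eq, dE_eq] at this
    have e3 : x Y e 0 2 * x Y e 0 3 * x Y e 2 3 * x Y e 0 1 * (x Y e 0 2 * x Y e 0 3 * x Y e 2 3)⁻¹ =
        v ι e (P 1 * P 3 * (P 1 * P 2)) * x Y e 0 1 := by
      calc _ = x Y e 0 2 * (x Y e 0 3 * x Y e 0 1) * (x Y e 0 3)⁻¹ * (x Y e 0 2)⁻¹ := by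
            rw [mul_assoc _ (x Y e 2 3), ← dc.eq]; group
        _ = x Y e 0 2 * v ι e (P 1 * P 3) * x Y e 0 1 * (x Y e 0 2)⁻¹ := by rw [d4]; group
        _ = v ι e (P 1 * P 3) * (x Y e 0 2 * x Y e 0 1) * (x Y e 0 2)⁻¹ := by
            rw [← (vx H (by decide) (by decide)).eq]; group
        _ = _ := by rw [a4, ← v_mul (P_dt (by decide)).mem (P_dt (by decide)).mem]; group
    have hm : P 1 * P 3 * (P 1 * P 2) ∈ alternatingGroup (Fin 8) :=
      mul_mem (P_dt (by decide)).mem (P_dt (by decide)).mem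
    rcases uq' (e := e) H (a := 0) (b := 1) (by decide)
      (y_t H (a := 0) (b := 2) (c := 3) (by decide) (by decide) (by decide))
      (((vx H (by decide) (by decide)).mul_right (vx H (by decide) (by decide))).mul_right
        (vx H (by decide) (by decide))) with h | h
    · rw [e3, mul_eq_right, ← v_one (ι := ι) (e := e)] at h
      exact absurd (v_inj H hm (one_mem _) h) (by decide +kernel)
    · rw [e3, ← (vx H (by decide) (by decide)).eq, mul_left_inj] at h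
      exact absurd (v_inj H hm (P_dt (by decide)).mem h) (by decide +kernel)

theorem xc (H : YG ι t Y) (e : Fin 8 ↪ α) (h : a ≠ b) (h' : c ≠ d) : Commute (x Y e a b) (x Y e c d) := by
  have tr : ∀ (π : Perm (Fin 4)) {a b c d : Fin 4}, a ≠ b → c ≠ d → Commute (x Y e a b) (x Y e c d) →
      Commute (x Y e (π a) (π b)) (x Y e (π c) (π d)) := fun π a b c d h h' k => by
    rw [← cjx H π h, ← cjx H π h']
    exact k.conj _
  have dc : Commute (x Y e 0 1) (x Y e 2 3) := by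
    have := H.dc e
    rwa [dE_eq, dE_eq] at this
  obtain ⟨π, e1, e2⟩ := (by decide +kernel : ∀ a b c d : Fin 4, a ≠ b → c ≠ d → ∃ π : Perm (Fin 4),
    (π 0 = a ∧ π 1 = b ∨ π 0 = b ∧ π 1 = a) ∧ ((π 0 = c ∧ π 1 = d) ∨ (π 0 = c ∧ π 2 = d ∨ π 0 = d ∧ π 2 = c) ∨
      (π 2 = c ∧ π 3 = d))) a b c d h h'
  have f1 : x Y e a b = x Y e (π 0) (π 1) := by
    rcases e1 with ⟨rfl, rfl⟩ | ⟨rfl, rfl⟩
    exacts [rfl, x_symm _ _]
  rw [f1]
  rcases e2 with ⟨rfl, rfl⟩ | (⟨rfl, rfl⟩ | ⟨rfl, rfl⟩) | ⟨rfl, rfl⟩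
  · exact Commute.refl _
  · exact tr π (by decide) (by decide) (ec0 H e)
  · rw [x_symm (π 2)]
    exact tr π (by decide) (by decide) (ec0 H e)
  · exact tr π (by decide) (by decide) dc

theorem y_sq1 (H : YG ι t Y) (h1 : a ≠ b) (h2 : a ≠ c) (h3 : b ≠ c) :
    x Y e a b * x Y e a c * x Y e b c * (x Y e a b * x Y e a c * x Y e b c) = 1 := by
  rw [sq3 (xc H e h2 h1) (xc H e h3 h1) (xc H e h3 h2), x_sq3 H h1 h2 h3]

theorem triL (H : YG ι t Y) (e : Fin 8 ↪ α) : ∃ i m : Fin 2, (m = 1 → Fintype.card α = 8) ∧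
    ∀ a b c d : Fin 4, [a, b, c, d].Nodup →
      Ac ι e (x Y e a b * x Y e a c * x Y e b c) ((P a * P b * P c) ^ i.1 * P d ^ m.1) := by
  obtain ⟨i, j, l, m, h0, hm⟩ := actE H e (y_t H (a := 0) (b := 1) (c := 2) (by decide) (by decide) (by decide))
    fun z h1 h2 h3 => (h1.mul_right h2).mul_right h3
  have hk : ∀ a b c d : Fin 4, [a, b, c, d].Nodup → Ac ι e (x Y e a b * x Y e a c * x Y e b c)
      (P a ^ i.1 * P b ^ j.1 * P c ^ l.1 * P d ^ m.1) := transport fun π => by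
    have := h0.cj (lift_mem π)
    rw [cj4, lift_P, lift_P, lift_P, lift_P] at this
    convert this using 1
    rw [← cjx H π (by decide), ← cjx H π (by decide), ← cjx H π (by decide)]
    group
  have h1 := hk 1 2 0 3 (by decide)
  rw [x_symm 1 0, x_symm 2 0, (xc H e (by decide) (by decide)).eq, mul_assoc,
    (xc H e (a := 1) (by decide) (by decide)).eq, ← mul_assoc] at h1
  obtain ⟨rfl, rfl⟩ := (by decide +kernel : ∀ i j l m : Fin 2, P 0 ^ i.1 * P 1 ^ j.1 * P 2 ^ l.1 * P 3 ^ m.1 =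
    P 1 ^ i.1 * P 2 ^ j.1 * P 0 ^ l.1 * P 3 ^ m.1 → j = i ∧ l = i) i j l m (h0.uniq H h1)
  refine ⟨l, m, hm, fun a b c d hn => ?_⟩
  rw [(Commute.mul_left (P_comm a c) (P_comm b c)).mul_pow, Commute.mul_pow (P_comm a b)]
  exact hk a b c d hn

theorem PP_mem (a b : Fin 4) : P a * P b ∈ alternatingGroup (Fin 8) :=
  Perm.mem_alternatingGroup.2 ((by decide +kernel : ∀ a b, Perm.sign (P a * P b) = 1) a b)

theorem four (H : YG ι t Y) {i m : Fin 2} (h : ∀ a b c d : Fin 4, [a, b, c, d].Nodup →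
      Ac ι e (x Y e a b * x Y e a c * x Y e b c) ((P a * P b * P c) ^ i.1 * P d ^ m.1)) :
    ((∀ p, Dt p → Y p * Y p = 1) → i = m) ∧ ((∀ p, Dt p → Y p * Y p = ev ι p) → i ≠ m) := by
  have h1 := (((h 0 1 2 3 (by decide)).mul (h 0 1 3 2 (by decide))).mul (h 0 2 3 1 (by decide))).mul
    (h 1 2 3 0 (by decide))
  have e1 : x Y e 0 1 * x Y e 0 2 * x Y e 1 2 * (x Y e 0 1 * x Y e 0 3 * x Y e 1 3) *
      (x Y e 0 2 * x Y e 0 3 * x Y e 2 3) * (x Y e 1 2 * x Y e 1 3 * x Y e 2 3) =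
      x Y e 0 1 * x Y e 0 1 * (x Y e 0 2 * x Y e 0 2) * (x Y e 0 3 * x Y e 0 3) * (x Y e 1 2 * x Y e 1 2) *
      (x Y e 1 3 * x Y e 1 3) * (x Y e 2 3 * x Y e 2 3) := by
    have c := fun a b c d (h : a ≠ b) (h' : c ≠ d) => (xc H e h h').left_comm
    simp only [mul_assoc, c 0 2 0 1 (by decide) (by decide), c 1 2 0 1 (by decide) (by decide),
      c 1 2 0 2 (by decide) (by decide), c 1 2 0 3 (by decide) (by decide), c 1 3 0 2 (by decide) (by decide),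
      c 1 3 0 3 (by decide) (by decide), c 0 3 0 2 (by decide) (by decide), c 1 3 1 2 (by decide) (by decide),
      c 2 3 1 2 (by decide) (by decide), c 2 3 1 3 (by decide) (by decide)]
  rw [e1] at h1
  simp only [x] at h1
  refine ⟨fun hs => ?_, fun hs => ?_⟩
  · rw [hs _ (dtP (by decide)), hs _ (dtP (by decide)), hs _ (dtP (by decide)), hs _ (dtP (by decide)),
      hs _ (dtP (by decide)), hs _ (dtP (by decide))] at h1
    simp only [mul_one] at h1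
    have := h1.uniq H Ac.one
    clear h h1
    revert i m
    decide +kernel
  · rw [hs _ (dtP (by decide)), hs _ (dtP (by decide)), hs _ (dtP (by decide)), hs _ (dtP (by decide)),
      hs _ (dtP (by decide)), hs _ (dtP (by decide))] at h1
    have := h1.uniq H ((((((Ac.v (PP_mem 0 1)).mul (Ac.v (PP_mem 0 2))).mul (Ac.v (PP_mem 0 3))).mul
      (Ac.v (PP_mem 1 2))).mul (Ac.v (PP_mem 1 3))).mul (Ac.v (PP_mem 2 3)))
    clear h h1
    revert i m
    decide +kernel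

theorem gw0 (H : YG ι t Y) (e : Fin 8 ↪ α) : x Y e 0 1 * x Y e 2 3 = x Y e 0 2 * x Y e 1 3 := by
  obtain ⟨i, m, -, h⟩ := triL H e
  have c := fun a b c d (h : a ≠ b) (h' : c ≠ d) => xc H e h h'
  have h1 := (h 0 1 2 3 (by decide)).mul (h 1 2 3 0 (by decide))
  have c1 : Commute (x Y e 0 1 * x Y e 0 2 * x Y e 1 2) (x Y e 1 2 * x Y e 1 3 * x Y e 2 3) := by
    refine Commute.mul_left (Commute.mul_left ?_ ?_) ?_ <;> refine Commute.mul_right (Commute.mul_right ?_ ?_) ?_ <;>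
      exact c _ _ _ _ (by decide) (by decide)
  have h2 := eq_v (a := 0) (b := 1) H (Commute.mul_left (y_t H (by decide) (by decide) (by decide))
    (y_t H (by decide) (by decide) (by decide))).eq (by
      rw [c1.symm.mul_mul_mul_comm, y_sq1 H (by decide) (by decide) (by decide),
        y_sq1 H (by decide) (by decide) (by decide), mul_one]) h1
    (Perm.mem_alternatingGroup.2 ((by decide +kernel : ∀ i m : Fin 2, Perm.sign ((P 0 * P 1 * P 2) ^ i.1 * P 3 ^ m.1 *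
      ((P 1 * P 2 * P 3) ^ i.1 * P 0 ^ m.1)) = 1) i m)) (by decide)
    ((by decide +kernel : ∀ i m : Fin 2, (P 0 * P 1 * P 2) ^ i.1 * P 3 ^ m.1 * ((P 1 * P 2 * P 3) ^ i.1 * P 0 ^ m.1) *
      (P 0 * P 1) = P 0 * P 1 * ((P 0 * P 1 * P 2) ^ i.1 * P 3 ^ m.1 * ((P 1 * P 2 * P 3) ^ i.1 * P 0 ^ m.1))) i m) (by
      refine Commute.mul_left ?_ ?_ <;> refine Commute.mul_left (Commute.mul_left ?_ ?_) ?_ <;>
        exact c _ _ _ _ (by decide) (by decide))
  have e1 : x Y e 0 1 * x Y e 0 2 * x Y e 1 2 * (x Y e 1 2 * x Y e 1 3 * x Y e 2 3) =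
      x Y e 0 1 * x Y e 2 3 * (x Y e 0 2 * x Y e 1 3 * (x Y e 1 2 * x Y e 1 2)) := by
    simp only [mul_assoc, (c 1 2 1 3 (by decide) (by decide)).left_comm, (c 1 2 2 3 (by decide) (by decide)).eq,
      (c 1 2 2 3 (by decide) (by decide)).left_comm, (c 1 3 2 3 (by decide) (by decide)).left_comm,
      (c 0 2 2 3 (by decide) (by decide)).left_comm]
  have e2 : x Y e 0 2 * x Y e 1 3 * (x Y e 0 2 * x Y e 1 3 * (x Y e 1 2 * x Y e 1 2)) =
      x Y e 0 2 * x Y e 0 2 * (x Y e 1 3 * x Y e 1 3) * (x Y e 1 2 * x Y e 1 2) := by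
    simp only [mul_assoc, (c 1 3 0 2 (by decide) (by decide)).left_comm]
  rw [e1] at h2
  refine mul_right_cancel (h2.trans (e2.trans ?_).symm)
  simp only [x]
  rcases H.yt.sq with hs | hs
  · obtain rfl := (four H h).1 hs
    rw [hs _ (dtP (by decide)), hs _ (dtP (by decide)), hs _ (dtP (by decide)), mul_one, mul_one,
      (by decide +kernel : ∀ i : Fin 2, (P 0 * P 1 * P 2) ^ i.1 * P 3 ^ i.1 *
        ((P 1 * P 2 * P 3) ^ i.1 * P 0 ^ i.1) = 1), v_one]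
  · rw [hs _ (dtP (by decide)), hs _ (dtP (by decide)), hs _ (dtP (by decide)),
      (by decide +kernel : ∀ i m : Fin 2, i ≠ m → (P 0 * P 1 * P 2) ^ i.1 * P 3 ^ m.1 *
        ((P 1 * P 2 * P 3) ^ i.1 * P 0 ^ m.1) = P 0 * P 2 * (P 1 * P 3) * (P 1 * P 2)) i m ((four H h).2 hs),
      ← v_mul (mul_mem (PP_mem _ _) (PP_mem _ _)) (PP_mem _ _), ← v_mul (PP_mem _ _) (PP_mem _ _)]
    rfl

theorem ea0 (H : YG ι t Y) (h1 : ∀ p, Dt p → Y p * Y p = 1) (e : Fin 8 ↪ α) :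
    x Y e 0 1 * x Y e 0 2 * x Y e 1 2 = 1 ∨
      (Fintype.card α = 8 ∧ x Y e 0 1 * x Y e 0 2 * x Y e 1 2 = v ι e (P 0 * P 1 * (P 2 * P 3))) := by
  obtain ⟨i, m, hm, h⟩ := triL H e
  obtain rfl := (four H h).1 h1
  have h2 := eq_v (a := 0) (b := 1) H (y_t H (by decide) (by decide) (by decide))
    (y_sq1 H (by decide) (by decide) (by decide)) (h 0 1 2 3 (by decide))
    (Perm.mem_alternatingGroup.2 ((by decide +kernel : ∀ i : Fin 2,
      Perm.sign ((P 0 * P 1 * P 2) ^ i.1 * P 3 ^ i.1) = 1) i)) (by decide)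
    ((by decide +kernel : ∀ i : Fin 2, (P 0 * P 1 * P 2) ^ i.1 * P 3 ^ i.1 * (P 0 * P 1) =
      P 0 * P 1 * ((P 0 * P 1 * P 2) ^ i.1 * P 3 ^ i.1)) i) (by
      refine Commute.mul_left (Commute.mul_left ?_ ?_) ?_ <;> exact xc H e (by decide) (by decide))
  rw [h2]
  fin_cases i
  · exact Or.inl v_one
  · exact Or.inr ⟨hm rfl, congrArg _ (by decide +kernel)⟩

end AE

variable {α β γ : Type} [Fintype α] [DecidableEq α] [Fintype β] [DecidableEq β] [Fintype γ]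
  [DecidableEq γ] {G : Type*} [Group G] [Finite G] {ι κ l : alternatingGroup α →* G}
  {ψ : Perm β →* G} {X P M L : Subgroup G} {t s u g o : G} {p q σ τ π : Perm α} {k j : ℕ}

variable {Y Z : Perm α → G} {a b c d x y : α} {e : Fin 8 ↪ α}

theorem YG.ec (h : YG ι t Y) : EC Y := fun e => by
  rw [dE_eq, dE_eq]
  exact AE.ec0 h e

theorem YG.tri (h : YG ι t Y) (e : Fin 8 ↪ α) : ∃ i m : Fin 2, (m = 1 → Fintype.card α = 8) ∧
    ∀ ν : Perm (Fin 8), Act ι (Y (dE e (ν 0) (ν 1) (ν 2) (ν 3)) * Y (dE e (ν 0) (ν 1) (ν 4) (ν 5)) *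
      Y (dE e (ν 2) (ν 3) (ν 4) (ν 5)))
      ((sE e (ν 0) (ν 1) * sE e (ν 2) (ν 3) * sE e (ν 4) (ν 5)) ^ i.1 * sE e (ν 6) (ν 7) ^ m.1) := by
  obtain ⟨i, m, hm, H⟩ := AE.triL h e
  refine ⟨i, m, hm, fun ν => ?_⟩
  obtain ⟨q, hq, hP⟩ : ∃ q ∈ alternatingGroup (Fin 8), ∀ a, q * AE.P a * q⁻¹ = swap (ν (AE.lo a)) (ν (AE.hi a)) := by
    rcases Int.units_eq_one_or (Perm.sign ν) with h1 | h1
    · exact ⟨ν, Perm.mem_alternatingGroup.2 h1, fun a => (swap_apply_apply ν _ _).symm⟩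
    · refine ⟨ν * AE.P 3, Perm.mem_alternatingGroup.2 (by rw [Perm.sign_mul, h1]; decide), fun a => ?_⟩
      rw [mul_assoc ν, AE.P_comm, swap_apply_apply, AE.P]
      group
  have := (H 0 1 2 3 (by decide)).cj hq
  have e1 : ∀ (r A B C : G), r * (A * B * C) * r⁻¹ = r * A * r⁻¹ * (r * B * r⁻¹) * (r * C * r⁻¹) := fun _ _ _ _ => by
    group
  have e2 : ∀ A B C D : Perm (Fin 8), q * ((A * B * C) ^ i.1 * D ^ m.1) * q⁻¹ =
      (q * A * q⁻¹ * (q * B * q⁻¹) * (q * C * q⁻¹)) ^ i.1 * (q * D * q⁻¹) ^ m.1 := fun A B C D => by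
    rw [show q * A * q⁻¹ * (q * B * q⁻¹) * (q * C * q⁻¹) = q * (A * B * C) * q⁻¹ by group, conj_pow, conj_pow]
    group
  rw [e1, e2, AE.cjY h hq (by decide), AE.cjY h hq (by decide), AE.cjY h hq (by decide), hP, hP, hP, hP] at this
  simp only [dE_eq, sE_eq, ← map_mul, ← map_pow]
  exact this

theorem YG.gw (h : YG ι t Y) : GW Y := fun e => by
  rw [dE_eq, dE_eq, dE_eq, dE_eq]
  exact AE.gw0 h e

theorem YG.ea (h : YG ι t Y) (h1 : ∀ p, Dt p → Y p * Y p = 1) :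
    EA0 Y ∨ (Fintype.card α = 8 ∧ EA1 ι Y) := by
  have H : ∀ e : Fin 8 ↪ α, Y (dE e 0 1 2 3) * Y (dE e 0 1 4 5) * Y (dE e 2 3 4 5) = 1 ∨ (Fintype.card α = 8 ∧
      Y (dE e 0 1 2 3) * Y (dE e 0 1 4 5) * Y (dE e 2 3 4 5) = ev ι (dE e 0 1 2 3 * dE e 4 5 6 7)) := fun e => by
    simp only [dE_eq, ← map_mul]
    exact AE.ea0 h h1 e
  refine or_iff_not_imp_left.2 fun h0 => ?_
  obtain ⟨e₀, h0⟩ := not_forall.1 h0
  refine ⟨((H e₀).resolve_left h0).1, fun e => ((H e).resolve_left fun h2 => h0 ?_).2⟩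
  obtain ⟨π, hπ, h3, -⟩ := trans8 e e₀
  have e2 : ∀ i j k l : Fin 8, D4 i j k l → i < 6 → j < 6 → k < 6 → l < 6 →
      Y (dE e₀ i j k l) = ev ι π * Y (dE e i j k l) * (ev ι π)⁻¹ := fun i j k l h4 hi hj hk hl => by
    rw [h.yt.eqv π hπ _ (dE_dt e h4), dE, dE, dt_conj, h3 i (by omega) (by omega), h3 j (by omega) (by omega),
      h3 k (by omega) (by omega), h3 l (by omega) (by omega)]
  rw [e2 0 1 2 3 (by constructor <;> decide) (by decide) (by decide) (by decide) (by decide),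
    e2 0 1 4 5 (by constructor <;> decide) (by decide) (by decide) (by decide) (by decide),
    e2 2 3 4 5 (by constructor <;> decide) (by decide) (by decide) (by decide) (by decide)]
  calc _ = ev ι π * (Y (dE e 0 1 2 3) * Y (dE e 0 1 4 5) * Y (dE e 2 3 4 5)) * (ev ι π)⁻¹ := by group
    _ = 1 := by rw [h2, mul_one, mul_inv_cancel]

end Cfsg.Agent.SAq
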