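import Mathlib
import Cfsg.Agent.SAq.AU

/-! Pairs with product of order 4 (H5). See `stubs/Cfsg/Agent/SAq/PLAN3.md`. -/

set_option autoImplicit false
set_option linter.unusedSectionVars false

namespace Cfsg.Agent.SAq

open Cfsg Cfsg.Agent.GT Cfsg.Agent.Loc.Mss Cfsg.Agent.Sym Cfsg.Agent.Loc.SO Cfsg.Agent.SAn Subgroup Equiv
open Cfsg.Agent.StdB (C1 mem_C1)
open scoped commutatorElement

variable {α β γ : Type} [Fintype α] [DecidableEq α] [Fintype β] [DecidableEq β] [Fintype γ]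
  [DecidableEq γ] {G : Type*} [Group G] [Finite G] {ι κ l : alternatingGroup α →* G}
  {ψ : Perm β →* G} {X P M L : Subgroup G} {t s u g o : G} {p q σ τ π : Perm α} {k j : ℕ}

variable {Y Z : Perm α → G} {a b c d x y : α} {e : Fin 8 ↪ α}

namespace ATH

section Abs

variable {H : Type*} [Group H]

theorem r2 {x y z w : H} (h : x * y = z * w) (r : H) : x * (y * r) = z * (w * r) := by
  rw [← mul_assoc, h, mul_assoc]

theorem r3 {x y z w v : H} (h : x * y = z * w * v) (r : H) : x * (y * r) = z * (w * (v * r)) := by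
  rw [← mul_assoc, h, mul_assoc, mul_assoc]

theorem abs1 {A B V a b n t : H} (At : A * t = t * a * A) (Bt : B * t = t * b * B)
    (Vt : V * t = t * n * V) (Aa : A * a = a * A) (Ab : A * b = b * V * A) (An : A * n = n * A)
    (Ba : B * a = a * V * B) (Bb : B * b = b * B) (Bn : B * n = n * B) (Va : V * a = a * V)
    (Vb : V * b = b * V) (Vn : V * n = n * V) (VA : V * A = A * V) (VB : V * B = B * V)
    (VV : V * V = 1) (hh : a * b * a * b * n = 1) :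
    Commute ((A * B) ^ 2 * V) t ∧ Commute ((A * B) ^ 2 * V) a ∧ Commute ((A * B) ^ 2 * V) b ∧
      Commute ((A * B) ^ 2 * V) V := by
  have hh' : ∀ r, a * (b * (a * (b * (n * r)))) = r := fun r => by
    simp only [← mul_assoc]
    rw [hh, one_mul]
  rw [mul_assoc] at Vt
  refine ⟨?_, ?_, ?_, ?_⟩ <;>
    simp only [Commute, SemiconjBy, pow_two, mul_assoc, Vt, Va, Vb, r3 At, r3 Bt, r2 Aa, r3 Ab, r2 An,
      r3 Ba, r2 Bb, r2 Bn, r2 Va, r2 Vb, r2 Vn, r2 VA, r2 VB, VV, hh', mul_one, VB]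

theorem abs2 {A B B' : H} (BB : B * B = 1) (BB' : B' * B' = 1) (h : Commute A (B * B')) :
    (A * B') ^ 2 = (A * B) ^ 2 := by
  have e : B' = B * (B * B') := by rw [← mul_assoc, BB, one_mul]
  have e2 : B * B' * (B * (B * B')) = B := by rw [← e, mul_assoc, BB', mul_one]
  calc (A * B') ^ 2 = A * B * (B * B' * A) * (B * (B * B')) := by
        nth_rewrite 1 [e]
        simp only [pow_two, mul_assoc]
    _ = A * B * A * (B * B' * (B * (B * B'))) := by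
        rw [← h.eq]
        simp only [mul_assoc]
    _ = _ := by rw [e2]; simp only [pow_two, mul_assoc]

theorem flip {A b V W : H} (AA : A * A = 1) (bb : b * b = 1) (h : b * A * b⁻¹ = W) (hW : W = A * V)
    (VV : V * V = 1) : A * b = b * V * A := by
  have h1 : b * A = A * V * b := by rw [← hW, ← h, inv_mul_cancel_right]
  have hb : b⁻¹ = b := inv_eq_of_mul_eq_one_right bb
  have hA : A⁻¹ = A := inv_eq_of_mul_eq_one_right AA
  have hV : V⁻¹ = V := inv_eq_of_mul_eq_one_right VV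
  have h2 := congrArg (·⁻¹) h1
  simp only [mul_inv_rev, hb, hA, hV] at h2
  rw [h2, mul_assoc]

end Abs

instance {i j k l : Fin 8} : Decidable (D4 i j k l) :=
  decidable_of_iff (i ≠ j ∧ i ≠ k ∧ i ≠ l ∧ j ≠ k ∧ j ≠ l ∧ k ≠ l)
    ⟨fun h => ⟨h.1, h.2.1, h.2.2.1, h.2.2.2.1, h.2.2.2.2.1, h.2.2.2.2.2⟩,
      fun h => ⟨h.ab, h.ac, h.ad, h.bc, h.bd, h.cd⟩⟩

instance {i j k l x : Fin 8} : Decidable (SAn.Out i j k l x) :=
  decidable_of_iff (x ≠ i ∧ x ≠ j ∧ x ≠ k ∧ x ≠ l)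
    ⟨fun h => ⟨h.1, h.2.1, h.2.2.1, h.2.2.2⟩, fun h => ⟨h.a, h.b, h.c, h.d⟩⟩

theorem dtD (h : D4 a b c d) : Dt (dt a b c d) := ⟨_, _, _, _, h, rfl⟩

theorem six (hz : Zt ι t Z) (h0 : EA0 Z) (h : D4 a b c d) (hx : SAn.Out a b c d x)
    (hy : SAn.Out a b c d y) (hxy : x ≠ y) : Commute (Z (dt a b c d)) (Z (dt a b x y)) ∧
      Z (dt c d x y) = Z (dt a b x y) * Z (dt a b c d) := by
  obtain ⟨e, rfl, rfl, rfl, rfl, rfl, rfl⟩ := ext6 hz.yt.eight h hx hy hxy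
  refine ⟨hz.ec e, ?_⟩
  have h1 := h0 e
  have s1 := hz.sq _ (dE_dt e (i := 0) (j := 1) (k := 2) (l := 3) (by decide))
  have s2 := hz.sq _ (dE_dt e (i := 0) (j := 1) (k := 4) (l := 5) (by decide))
  rw [← eq_inv_iff_mul_eq_one, eq_inv_iff_mul_eq_one, ← inv_eq_iff_mul_eq_one, mul_inv_rev,
    inv_eq_of_mul_eq_one_right s1, inv_eq_of_mul_eq_one_right s2] at h1
  exact h1.symm

theorem evsq (hp : Dt p) : ev ι p * ev ι p = 1 := by
  rw [← ev_mul hp.mem hp.mem, hp.iv.1, ev_one]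

theorem zt (hz : Zt ι t Z) (hp : Dt p) : Z p * t = t * ev ι p * Z p := by
  rw [← hz.yt.ph p hp, inv_mul_cancel_right]

theorem evcomm (hp : p ∈ alternatingGroup α) (hq : q ∈ alternatingGroup α) (h : p * q = q * p) :
    Commute (ev ι p) (ev ι q) := by
  rw [Commute, SemiconjBy, ← ev_mul hp hq, ← ev_mul hq hp, h]

section Eight

variable {ι : alternatingGroup (Fin 8) →* G} {Z : Perm (Fin 8) → G}

theorem Ba (hz : Zt ι t Z) (h0 : EA0 Z) {x y : Fin 8} (hx : SAn.Out 0 2 1 3 x)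
    (hy : SAn.Out 0 2 1 3 y) (hxy : x ≠ y)
    (h : dt 0 1 2 3 * dt 0 2 x y * (dt 0 1 2 3)⁻¹ = dt 1 3 x y) (hD : D4 0 2 x y) :
    Z (dt 0 2 x y) * ev ι (dt 0 1 2 3) = ev ι (dt 0 1 2 3) * Z (dt 0 2 1 3) * Z (dt 0 2 x y) := by
  have da : Dt (dt (0 : Fin 8) 1 2 3) := dtD (by decide)
  have dv : Dt (dt (0 : Fin 8) 2 1 3) := dtD (by decide)
  obtain ⟨-, h2⟩ := six hz h0 (by decide) hx hy hxy
  refine flip (hz.sq _ (dtD hD)) (evsq da) (hz.yt.eqv _ da.mem _ (dtD hD)) (by rw [h, h2])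
    (hz.sq _ dv)

theorem cB (hz : Zt ι t Z) (h0 : EA0 Z) {x y x' y' : Fin 8} (hx : SAn.Out 0 2 1 3 x)
    (hy : SAn.Out 0 2 1 3 y) (hxy : x ≠ y)
    (h : dt 0 1 2 3 * dt 0 2 x y * (dt 0 1 2 3)⁻¹ = dt 1 3 x y) (hD : D4 0 2 x y)
    (hv : dt 0 2 1 3 * dt 0 2 x y = dt 0 2 x y * dt 0 2 1 3)
    (hr : cyc3 1 3 7 * dt 0 2 x y = dt 0 2 x y * cyc3 1 3 7)
    (hx' : SAn.Out 0 2 1 3 x') (hy' : SAn.Out 0 2 1 3 y') (hxy' : x' ≠ y')
    (h' : dt 0 1 2 3 * dt 0 2 x' y' * (dt 0 1 2 3)⁻¹ = dt 1 3 x' y') (hD' : D4 0 2 x' y')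
    (hv' : dt 0 2 1 3 * dt 0 2 x' y' = dt 0 2 x' y' * dt 0 2 1 3)
    (hr' : cyc3 1 3 7 * dt 0 2 x' y' = dt 0 2 x' y' * cyc3 1 3 7) :
    (Z (dt 0 1 2 3) * Z (dt 0 2 x' y')) ^ 2 = (Z (dt 0 1 2 3) * Z (dt 0 2 x y)) ^ 2 := by
  have da : Dt (dt (0 : Fin 8) 1 2 3) := dtD (by decide)
  have dv : Dt (dt (0 : Fin 8) 2 1 3) := dtD (by decide)
  have mr : cyc3 (1 : Fin 8) 3 7 ∈ alternatingGroup (Fin 8) :=
    cyc3_mem_alternatingGroup (by decide) (by decide)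
  have b1 := Ba hz h0 hx hy hxy h hD
  have b2 := Ba hz h0 hx' hy' hxy' h' hD'
  have c1 := (six hz h0 (by decide) hx hy hxy).1
  have c2 := (six hz h0 (by decide) hx' hy' hxy').1
  refine abs2 (hz.sq _ (dtD hD)) (hz.sq _ (dtD hD')) ?_
  set m := Z (dt 0 2 x y) * Z (dt 0 2 x' y') with hm
  have ma : dt 0 1 2 3 ∈ pre ι (centralizer {m}) := ⟨da.mem, mem_centralizer_singleton_iff.2 (by
    rw [hm, mul_assoc, b2, ← mul_assoc, ← mul_assoc, ← mul_assoc, b1,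
      mul_assoc _ (Z (dt 0 2 x y)) (Z (dt 0 2 1 3)), ← c1.eq, ← mul_assoc,
      mul_assoc _ (Z (dt 0 2 1 3)) (Z (dt 0 2 1 3)), hz.sq _ dv, mul_one])⟩
  have mv : dt 0 2 1 3 ∈ pre ι (centralizer {m}) := ⟨dv.mem, mem_centralizer_singleton_iff.2
    ((hz.yt.comm (dtD hD) dv.mem hv).mul_right (hz.yt.comm (dtD hD') dv.mem hv')).eq⟩
  have mr' : cyc3 1 3 7 ∈ pre ι (centralizer {m}) := ⟨mr, mem_centralizer_singleton_iff.2
    ((hz.yt.comm (dtD hD) mr hr).mul_right (hz.yt.comm (dtD hD') mr hr')).eq⟩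
  have mq := mul_mem (mul_mem (mul_mem (mul_mem (mul_mem mr' ma) mv) mr') ma) mr'
  have e1 := hz.yt.eqv _ mq.1 _ dv
  rw [show cyc3 (1 : Fin 8) 3 7 * dt 0 1 2 3 * dt 0 2 1 3 * cyc3 1 3 7 * dt 0 1 2 3 * cyc3 1 3 7 *
    dt 0 2 1 3 * (cyc3 1 3 7 * dt 0 1 2 3 * dt 0 2 1 3 * cyc3 1 3 7 * dt 0 1 2 3 * cyc3 1 3 7)⁻¹ =
      dt 0 1 2 3 by decide +kernel] at e1
  have cq : Commute _ m := mem_centralizer_singleton_iff.1 mq.2
  rw [← e1]
  exact (cq.mul_left (c1.mul_right c2)).mul_left cq.inv_left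

theorem formal (hz : Zt ι t Z) (h0 : EA0 Z) {k : G}
    (hk : k = (Z (dt 0 1 2 3) * Z (dt 0 2 4 5)) ^ 2 * Z (dt 0 2 1 3)) :
    (Commute k t ∧ Commute k (ev ι (dt 0 1 2 3)) ∧ Commute k (ev ι (dt 0 2 4 5)) ∧
      Commute k (Z (dt 0 2 1 3))) ∧ Commute k (ev ι (cyc3 4 6 7)) ∧ Commute k (ev ι (cyc3 5 6 7)) := by
  have da : Dt (dt (0 : Fin 8) 1 2 3) := dtD (by decide)
  have dv : Dt (dt (0 : Fin 8) 2 1 3) := dtD (by decide)
  have db : Dt (dt (0 : Fin 8) 2 4 5) := dtD (by decide)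
  have vc := hz.yt.vc (0 : Fin 8) 1 2 3 (by decide)
  have va := hz.yt.va (0 : Fin 8) 1 2 3 (by decide)
  have key : ∀ c ∈ alternatingGroup (Fin 8), c * dt 0 1 2 3 * c⁻¹ = dt 0 1 2 3 →
      c * dt 0 2 1 3 * c⁻¹ = dt 0 2 1 3 →
      (Z (dt 0 1 2 3) * Z (c * dt 0 2 4 5 * c⁻¹)) ^ 2 = (Z (dt 0 1 2 3) * Z (dt 0 2 4 5)) ^ 2 →
      Commute k (ev ι c) := fun c hc h1 h2 h3 => by
    have e1 := hz.yt.eqv c hc _ da
    have e2 := hz.yt.eqv c hc _ dv
    have e3 := hz.yt.eqv c hc _ db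
    rw [h1] at e1
    rw [h2] at e2
    refine (mul_inv_eq_iff_eq_mul.1 ?_).symm
    calc ev ι c * k * (ev ι c)⁻¹ = (ev ι c * Z (dt 0 1 2 3) * (ev ι c)⁻¹ *
          (ev ι c * Z (dt 0 2 4 5) * (ev ι c)⁻¹)) ^ 2 * (ev ι c * Z (dt 0 2 1 3) * (ev ι c)⁻¹) := by
          rw [hk, pow_two, pow_two]; group
      _ = k := by rw [e1, e2, e3, h3, hk]
  refine ⟨?_, key _ (cyc3_mem_alternatingGroup (by decide) (by decide)) (by decide) (by decide) ?_,
    key _ (cyc3_mem_alternatingGroup (by decide) (by decide)) (by decide) (by decide) ?_⟩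
  · rw [hk]
    have hw : Z (dt 0 3 1 2) = Z (dt 0 1 2 3) * Z (dt 0 2 1 3) := by
      rw [← inv_eq_iff_mul_eq_one, mul_inv_rev, inv_eq_of_mul_eq_one_right (hz.sq _ da),
        inv_eq_of_mul_eq_one_right (hz.sq _ dv), ← vc.eq] at va
      exact va.symm
    refine abs1 (n := ev ι (dt 0 2 1 3)) (zt hz da) (zt hz db) (zt hz dv)
      (hz.yt.comm da da.mem rfl).symm.eq
      (flip (hz.sq _ da) (evsq db) (hz.yt.eqv _ db.mem _ da) ?_ (hz.sq _ dv))
      (hz.yt.comm da dv.mem (by decide)).symm.eq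
      (Ba hz h0 (by decide) (by decide) (by decide) (by decide) (by decide))
      (hz.yt.comm db db.mem rfl).symm.eq (hz.yt.comm db dv.mem (by decide)).symm.eq
      (hz.yt.comm dv da.mem (by decide)).symm.eq (hz.yt.comm dv db.mem (by decide)).symm.eq
      (hz.yt.comm dv dv.mem rfl).symm.eq vc.symm.eq
      (six hz h0 (by decide) (by decide) (by decide) (by decide)).1.eq (hz.sq _ dv) ?_
    · rw [← hw]
      exact congrArg _ (by decide)
    · rw [← ev_mul da.mem db.mem, ← ev_mul (mul_mem da.mem db.mem) da.mem,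
        ← ev_mul (mul_mem (mul_mem da.mem db.mem) da.mem) db.mem,
        ← ev_mul (mul_mem (mul_mem (mul_mem da.mem db.mem) da.mem) db.mem) dv.mem, ← ev_one (ι := ι)]
      exact congrArg _ (by decide)
  · rw [show cyc3 (4 : Fin 8) 6 7 * dt 0 2 4 5 * (cyc3 4 6 7)⁻¹ = dt 0 2 6 5 by decide]
    exact cB hz h0 (by decide) (by decide) (by decide) (by decide) (by decide) (by decide) (by decide)
      (by decide) (by decide) (by decide) (by decide) (by decide) (by decide) (by decide)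
  · rw [show cyc3 (5 : Fin 8) 6 7 * dt 0 2 4 5 * (cyc3 5 6 7)⁻¹ = dt 0 2 4 6 by decide]
    exact cB hz h0 (by decide) (by decide) (by decide) (by decide) (by decide) (by decide) (by decide)
      (by decide) (by decide) (by decide) (by decide) (by decide) (by decide) (by decide)

end Eight

theorem via_cyc (e : Fin 8 ↪ α) (i j k : Fin 8) :
    Perm.viaEmbeddingHom e (cyc3 i j k) = cyc3 (e i) (e j) (e k) := by
  rw [cyc3, map_mul, ← sE_eq, ← sE_eq]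
  rfl

theorem frame (hz : Zt ι t Z) (h0 : EA0 Z) (e : Fin 8 ↪ α) {k : G}
    (hk : k = (Z (dE e 0 1 2 3) * Z (dE e 0 2 4 5)) ^ 2 * Z (dE e 0 2 1 3)) :
    (Commute k t ∧ Commute k (ev ι (dE e 0 1 2 3)) ∧ Commute k (ev ι (dE e 0 2 4 5)) ∧
      Commute k (Z (dE e 0 2 1 3))) ∧ Commute k (ev ι (cyc3 (e 4) (e 6) (e 7))) ∧
      Commute k (ev ι (cyc3 (e 5) (e 6) (e 7))) := by
  have := formal (hz.res e (by simp)) (h0.res e) (k := k) (by simpa only [← dE_eq] using hk)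
  simpa only [ev_resE, ← dE_eq, via_cyc] using this

theorem reframe (e : Fin 8 ↪ α) (hx : ∀ i : Fin 8, i < 6 → e i ≠ x)
    (hy : ∀ i : Fin 8, i < 6 → e i ≠ y) (hxy : x ≠ y) :
    ∃ e' : Fin 8 ↪ α, (∀ i : Fin 8, i < 6 → e' i = e i) ∧ e' 6 = x ∧ e' 7 = y := by
  refine ⟨⟨fun i => if i < 6 then e i else if i = 6 then x else y, fun i j h => ?_⟩,
    fun i hi => if_pos hi, rfl, rfl⟩
  dsimp only at h
  split_ifs at h with h1 h2 h3 h4 h5 h6 h7
  · exact e.injective h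
  · exact absurd h (hx i h1)
  · exact absurd h (hy i h1)
  · exact absurd h.symm (hx j h5)
  · omega
  · exact absurd h hxy
  · exact absurd h.symm (hy j ‹_›)
  · exact absurd h.symm hxy
  · omega

end ATH

theorem YG.h5 (h : YG ι t Z) (hz : Zt ι t Z) (h0 : EA0 Z) (e : Fin 8 ↪ α) :
    (Z (dE e 0 1 2 3) * Z (dE e 0 2 4 5)) ^ 2 = Z (dE e 0 2 1 3) ∨
    (Z (dE e 0 1 2 3) * Z (dE e 0 2 4 5)) ^ 2 = Z (dE e 0 2 1 3) * ev ι (dE e 0 2 1 3) := by
  have da : Dt (dE e 0 1 2 3) := dE_dt e (by decide)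
  have dv : Dt (dE e 0 2 1 3) := dE_dt e (by decide)
  have db : Dt (dE e 0 2 4 5) := dE_dt e (by decide)
  have d4 : D4 (e 0) (e 1) (e 2) (e 3) := d4_emb e (by decide)
  obtain ⟨k, hk⟩ : ∃ k, k = (Z (dE e 0 1 2 3) * Z (dE e 0 2 4 5)) ^ 2 * Z (dE e 0 2 1 3) := ⟨_, rfl⟩
  obtain ⟨⟨kt, ka, kb, kv⟩, -⟩ := ATH.frame hz h0 e hk
  obtain ⟨σ, hσ⟩ := h.cf.reg k kt.eq
  have hσ' := cent_T e ((hσ.comm_iff h.cf.inj da.mem).1 ka.eq) ((hσ.comm_iff h.cf.inj db.mem).1 kb.eq)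
    fun x y hx hy hxy => by
      obtain ⟨e', h1, h2, h3⟩ := ATH.reframe e hx hy hxy
      have := (ATH.frame hz h0 e' (k := k) (by
        simp only [dE, h1 0 (by decide), h1 1 (by decide), h1 2 (by decide), h1 3 (by decide),
          h1 4 (by decide), h1 5 (by decide)]
        exact hk)).2
      rw [h1 4 (by decide), h1 5 (by decide), h2, h3] at this
      exact ⟨(hσ.comm_iff h.cf.inj (cyc3_mem_alternatingGroup (hx 4 (by decide)) hxy)).1 this.1.eq,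
        (hσ.comm_iff h.cf.inj (cyc3_mem_alternatingGroup (hx 5 (by decide)) hxy)).1 this.2.eq⟩
  have hm : σ ∈ alternatingGroup α := by
    rcases hσ' with rfl | rfl
    exacts [one_mem _, dv.mem]
  have sv : Commute (ev ι σ) (Z (dE e 0 2 1 3)) := hz.yt.comm dv hm (by
    rcases hσ' with rfl | rfl
    exacts [by rw [one_mul, mul_one], rfl])
  have sa : Commute (ev ι σ) (Z (dE e 0 1 2 3)) := hz.yt.comm da hm (by
    rcases hσ' with rfl | rfl
    exacts [by rw [one_mul, mul_one], d4.dt_comm.symm])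
  have ss : ev ι σ * ev ι σ = 1 := by
    rcases hσ' with rfl | rfl
    exacts [by rw [ev_one, one_mul], ATH.evsq dv]
  obtain ⟨k', e1, k't, k'a, -⟩ := h.cf.cw.even_aux kt.eq hσ hm
  obtain ⟨o, ho, e2⟩ := h.cf.ker' k't k'a
  have ov := h.od o ho _ dv
  have oa := h.od o ho _ da
  have os : Commute (ev ι σ) o := mem_cent.1 (act_one_iff.1 ho.2.1) _ (ev_mem σ)
  have VV := hz.sq _ dv
  rcases e2 with rfl | rfl
  swap
  · exfalso
    refine (hz.yt.ph' dv).2.2 ?_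
    have : t = o⁻¹ * k * (ev ι σ)⁻¹ := by rw [e1]; group
    rw [this]
    exact (ov.inv_left.mul_left kv).mul_left sv.inv_left
  have e3 : (Z (dE e 0 1 2 3) * Z (dE e 0 2 4 5)) ^ 2 = k' * ev ι σ * Z (dE e 0 2 1 3) := by
    rw [← e1, hk, mul_assoc, VV, mul_one]
  have cA : Commute ((Z (dE e 0 1 2 3) * Z (dE e 0 2 4 5)) ^ 2) (Z (dE e 0 1 2 3)) := by
    rw [e3]
    exact (oa.mul_left sa).mul_left (hz.yt.vc _ _ _ _ d4).symm
  have e4 : (Z (dE e 0 1 2 3) * Z (dE e 0 2 4 5)) ^ 2 * (Z (dE e 0 1 2 3) * Z (dE e 0 2 4 5)) ^ 2 = 1 := by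
    have AA := hz.sq _ da
    have BB := hz.sq _ db
    generalize Z (dE e 0 1 2 3) = A at *
    generalize Z (dE e 0 2 4 5) = B at *
    calc (A * B) ^ 2 * (A * B) ^ 2 = (A * B) ^ 2 * A * (B * A * B) := by
          simp only [pow_two, mul_assoc]
      _ = A * (A * (B * (A * (B * B) * A) * B)) := by
          rw [cA.eq]
          simp only [pow_two, mul_assoc]
      _ = 1 := by rw [BB, mul_one, AA, mul_one, BB, mul_one, AA]
  have e5 : k' * k' = 1 := by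
    rw [e3, (ov.mul_left sv).symm.mul_mul_mul_comm, VV, mul_one, os.mul_mul_mul_comm, ss, mul_one] at e4
    exact e4
  have e6 : k' = 1 := by
    have h2 : orderOf k' ∣ 2 := orderOf_dvd_of_pow_eq_one (by rw [pow_two, e5])
    rcases (Nat.dvd_prime Nat.prime_two).1 h2 with h3 | h3
    · exact orderOf_eq_one_iff.1 h3
    · have := ho.2.2
      rw [h3] at this
      exact absurd this (by decide)
  rw [e3, e6, one_mul, sv.eq]
  rcases hσ' with rfl | rfl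
  · left; rw [ev_one, mul_one]
  · right; rfl

end Cfsg.Agent.SAq
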