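import Mathlib
import Cfsg.Agent.SAq.Der
import Cfsg.Agent.SAq.Diag

/-! Types two and four. See `stubs/Cfsg/Agent/SAq/PLAN.md`. -/

set_option autoImplicit false
set_option linter.unusedSectionVars false

namespace Cfsg.Agent.SAq

open Cfsg Cfsg.Agent.GT Cfsg.Agent.Loc.Mss Cfsg.Agent.Sym Cfsg.Agent.Loc.SO Cfsg.Agent.SAn Subgroup Equiv
open Cfsg.Agent.StdB (C1 mem_C1)
open scoped commutatorElement

variable {α β γ : Type} [Fintype α] [DecidableEq α] [Fintype β] [DecidableEq β] [Fintype γ]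
  [DecidableEq γ] {G : Type*} [Group G] [Finite G] {ι κ l : alternatingGroup α →* G}
  {ψ : Perm β →* G} {X P M L : Subgroup G} {t s u g o : G} {p q σ τ π : Perm α} {k j : ℕ}

namespace Small1

/-- The even centralizer. -/
abbrev KK (τ : Perm α) : Subgroup (Perm α) := C1 τ ⊓ alternatingGroup α

theorem mv_comm (hc : σ * p = p * σ) {x : α} : p (σ x) = σ x ↔ p x = x := by
  have : p (σ x) = σ (p x) := by rw [← Perm.mul_apply, ← hc, Perm.mul_apply]
  rw [this, σ.injective.eq_iff]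

theorem comm_t (h' : Cf κ s) (ha : Act κ t τ) (c : KK τ) : ev κ c * t = t * ev κ c :=
  ((ha.comm_iff h'.inj c.2.2).2 (mem_C1.1 c.2.1).symm).symm

/-- The even centralizer of `τ` acts on the other component. -/
theorem exists_Phi (h : Cf ι t) (h' : Cf κ s) (ha : Act κ t τ) :
    ∃ Φ : KK τ →* Perm α, ∀ c : KK τ, Act ι (ev κ c) (Φ c) := by
  obtain ⟨F, hF⟩ := h.cw.exists_hom
  have hm : ∀ c : KK τ, (κ.comp (inclusion inf_le_right)) c ∈ C1 t := fun c => by
    have := comm_t h' ha c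
    rw [ev_of_mem c.2.2] at this
    exact mem_C1.2 this
  refine ⟨F.comp ((κ.comp (inclusion inf_le_right)).codRestrict (C1 t) hm), fun c => ?_⟩
  rw [ev_of_mem c.2.2]
  exact hF ⟨_, hm c⟩

theorem Phi_comm (h : Cf ι t) (hp : p ∈ alternatingGroup α) (h' : Cf κ (t * ev ι p))
    (ha : Act κ t τ) {Φ : KK τ →* Perm α} (hΦ : ∀ c : KK τ, Act ι (ev κ c) (Φ c)) (c : KK τ) :
    Φ c * p = p * Φ c := by
  refine ((hΦ c).comm_iff h.inj hp).1 ?_
  have e1 := comm_t h' ha c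
  have e2 := h'.cw.comm_ev (c : Perm α)
  rw [← mul_assoc, e1, mul_assoc, mul_assoc] at e2
  exact mul_left_cancel e2

theorem Phi_inj (h : Cf ι t) (h' : Cf κ s) (ha : Act κ t τ) {Φ : KK τ →* Perm α}
    (hΦ : ∀ c : KK τ, Act ι (ev κ c) (Φ c)) (h5 : 5 ≤ Fintype.card γ)
    (η : alternatingGroup γ →* KK τ) (hη : Function.Injective η) :
    Function.Injective (Φ.comp η) := by
  have e : ∀ b, ((κ.comp (inclusion inf_le_right)).comp η) b = ev κ (η b) := fun b => by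
    rw [ev_of_mem (η b).2.2]; rfl
  obtain ⟨f', h1, h2⟩ := h.cw.faithful h5 ((κ.comp (inclusion inf_le_right)).comp η)
    ((h'.inj.comp (inclusion_injective _)).comp hη) fun b => by rw [e]; exact comm_t h' ha _
  have : Φ.comp η = f' := MonoidHom.ext fun b => h.cw.uniq (hΦ (η b)) (e b ▸ h2 b)
  rw [this]; exact h1

/-- The elements acting trivially on the support of `p`. -/
def NN (Φ : KK τ →* Perm α) (p : Perm α) : Subgroup (Perm α) :=
  ((fixingSubgroup (Perm α) {x | p x ≠ x}).comap Φ).map (KK τ).subtype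

theorem mem_NN {Φ : KK τ →* Perm α} {c : KK τ} :
    (c : Perm α) ∈ NN Φ p ↔ ∀ x, p x ≠ x → Φ c x = x := by
  rw [NN, show (c : Perm α) = (KK τ).subtype c from rfl, mem_map_iff_mem (subtype_injective _),
    mem_comap, mem_fixingSubgroup_iff]
  rfl

theorem moves {Φ : KK τ →* Perm α} (hc : ∀ c, Φ c * p = p * Φ c) (hτ : τ ∈ KK τ)
    (e : Φ ⟨τ, hτ⟩ = p) (h1 : p ≠ 1) {D : Subgroup (Perm α)} (hD : D ≤ KK τ)
    (hm : τ ∈ ⁅D, KK τ⁆) : ∃ (d : Perm α) (hd : d ∈ D), ∃ x, p x ≠ x ∧ Φ ⟨d, hD hd⟩ x ≠ x := by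
  by_contra hn
  push Not at hn
  have hle : ⁅D, KK τ⁆ ≤ NN Φ p := commutator_le.2 fun d hd c hc' => by
    refine (mem_NN (c := ⁅(⟨d, hD hd⟩ : KK τ), ⟨c, hc'⟩⁆)).2 fun x hx => ?_
    have hy : p ((Φ ⟨c, hc'⟩)⁻¹ x) ≠ (Φ ⟨c, hc'⟩)⁻¹ x := by
      rw [← map_inv]; exact fun e' => hx ((mv_comm (hc _)).1 e')
    rw [map_commutatorElement, commutatorElement_def, Perm.mul_apply, Perm.mul_apply,
      Perm.mul_apply, Perm.inv_eq_iff_eq.2 (hn d hd _ hy).symm]
    simpa using hn d hd x hx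
  have h2 := (mem_NN (c := ⟨τ, hτ⟩)).1 (hle hm)
  rw [e] at h2
  exact h1 (Perm.ext fun x => by by_contra hx; exact hx (h2 x hx))

/-- The diagonal alternating group and its action. -/
theorem setup (h : Cf ι t) (hp : p ∈ alternatingGroup α) (h1 : p ≠ 1)
    (h' : Cf κ (t * ev ι p)) (hs : IsConj t (t * ev ι p)) (ha : Act κ t τ) (hj : Tp τ j)
    (h5 : 5 ≤ j) : ∃ (Φ : KK τ →* Perm α) (η : alternatingGroup (Fin j) →* KK τ),
      (∀ c : KK τ, Act ι (ev κ c) (Φ c)) ∧ Function.Injective η ∧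
      (∀ b x, τ x = x → (η b : Perm α) x = x) ∧
      (∀ b : alternatingGroup (Fin j), Dt (b : Perm (Fin j)) → Tp (τ * (η b : Perm α)) j) ∧
      ∃ b x, p x ≠ x ∧ Φ (η b) x ≠ x := by
  obtain ⟨hτ, e⟩ := h.even_pair hp h' hs ha
  obtain ⟨Φ, hΦ⟩ := exists_Phi h h' ha
  obtain ⟨δ, d1, d2, d3, d4⟩ := exists_diag hj
  have hK : τ ∈ KK τ := ⟨mem_C1.2 rfl, hτ⟩
  have hD : (alternatingGroup (Fin j)).map δ ≤ KK τ := by
    rintro _ ⟨r, -, rfl⟩; exact ⟨mem_C1.2 (d2 r).2.1, (d2 r).1⟩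
  obtain ⟨_, ⟨r, hr, rfl⟩, x, hx, hx'⟩ := moves (Phi_comm h hp h' ha hΦ) hK
    (h.cw.uniq (hΦ _) (by rw [e]; exact act_ev hp)) h1 hD (d4 (hj.even_iff.1 hτ) (by omega))
  exact ⟨Φ, (δ.comp (alternatingGroup (Fin j)).subtype).codRestrict (KK τ)
    fun b => ⟨mem_C1.2 (d2 b).2.1, (d2 b).1⟩, hΦ,
    fun a b hab => Subtype.ext (d1 (congrArg Subtype.val hab)), fun b => (d2 b).2.2,
    fun b hb => (d3 b hb).2, ⟨r, hr⟩, x, hx, hx'⟩

theorem qs_range (h5 : 5 ≤ Fintype.card γ) (f : alternatingGroup γ →* Perm α)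
    (hf : Function.Injective f) : IsQuasisimple f.range := by
  have := alternatingGroup.isSimpleGroup (α := γ) (by simpa using h5)
  refine (isQuasisimple_congr (MonoidHom.ofInjective hf)).1 (IsQuasisimple.of_isSimpleGroup ?_)
  rw [alternatingGroup.isMulCommutative_iff_card_le_three, Nat.card_eq_fintype_card]
  omega

/-- The diagonal group fixes the fixed points of `p`. -/
theorem fixes {Φ : KK τ →* Perm α} (hc : ∀ c, Φ c * p = p * Φ c) (hk : Tp p k) (hj : Tp τ k)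
    (h5 : 5 ≤ k) (hi : ∀ {n : ℕ}, 5 ≤ n → ∀ η : alternatingGroup (Fin n) →* KK τ,
      Function.Injective η → Function.Injective (Φ.comp η))
    (η : alternatingGroup (Fin k) →* KK τ) (hη : Function.Injective η)
    (hf : ∀ b x, τ x = x → (η b : Perm α) x = x) (hm : ∃ b x, p x ≠ x ∧ Φ (η b) x ≠ x)
    (b : alternatingGroup (Fin k)) (x : α) (hx : p x = x) : Φ (η b) x = x := by
  have hcard : τ.supportᶜ.card = p.supportᶜ.card := by
    rw [Finset.card_compl, Finset.card_compl, hk.2, hj.2]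
  by_cases h4 : p.supportᶜ.card ≤ 4
  · refine fix_of_orbit_le (qs_range (by simpa using h5) _ (hi h5 η hη)) h4 ?_ ⟨b, rfl⟩
    rintro _ ⟨c, rfl⟩
    rw [Finset.mem_compl, Perm.notMem_support]
    exact (mv_comm (hc _)).2 hx
  have hdis : ∀ r ∈ altOn τ.supportᶜ, ∀ q : Perm α, (∀ y, τ y = y → q y = y) → r * q = q * r := by
    intro r hr q hq
    refine Perm.Disjoint.commute fun y => ?_
    by_cases hy : τ y = y
    · exact Or.inr (hq y hy)
    · exact Or.inl ((mem_altOn.1 hr).2 y (by simpa using hy))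
  have hJ : altOn τ.supportᶜ ≤ KK τ := fun r hr =>
    ⟨mem_C1.2 (hdis r hr τ fun _ h => h), (mem_altOn.1 hr).1⟩
  have hcm : ∀ (r : KK τ), (r : Perm α) ∈ altOn τ.supportᶜ → ∀ c,
      Φ r * Φ (η c) = Φ (η c) * Φ r := fun r hr c => by
    rw [← map_mul, ← map_mul]
    exact congrArg Φ (Subtype.ext (hdis r hr _ (hf c)))
  have hN : altOn τ.supportᶜ ≤ NN Φ p := altOn_le fun a ha b hb c hc' ab ac bc => by
    have hr : cyc3 a b c ∈ altOn τ.supportᶜ := mem_altOn.2 ⟨cyc3_mem_alternatingGroup ab bc,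
      fun y hy => cyc3_apply_of_ne (fun e => hy (e ▸ ha)) (fun e => hy (e ▸ hb))
        fun e => hy (e ▸ hc')⟩
    refine (mem_NN (c := ⟨_, hJ hr⟩)).2 (triv_of_cent hk h5 (Φ.comp η) (fun b => hc _) hm (hc _)
      (hcm _ hr) ?_)
    refine Odd.of_dvd_nat (by decide : Odd 3) (orderOf_dvd_of_pow_eq_one ?_)
    rw [← map_pow, show (⟨_, hJ hr⟩ : KK τ) ^ 3 = 1 from Subtype.ext (cyc3_pow_three ab ac bc),
      map_one]
  have h5' : 5 ≤ τ.supportᶜ.card := by omega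
  let θ : alternatingGroup (Fin τ.supportᶜ.card) →* KK τ :=
    (inclusion hJ).comp (altOnEquiv τ.supportᶜ).symm.toMonoidHom
  have hθ : ∀ c, (θ c : Perm α) ∈ altOn τ.supportᶜ := fun c => ((altOnEquiv τ.supportᶜ).symm c).2
  have hH : altOn p.supportᶜ ≤ (Φ.comp θ).range := by
    refine altOn_le_of_card ?_ ?_
    · rintro _ ⟨c, rfl⟩ y hy
      exact mem_NN.1 (hN (hθ c)) y (by simpa using hy)
    · have : Nontrivial (Fin τ.supportᶜ.card) := Fin.nontrivial_iff_two_le.2 (by omega)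
      rw [← Nat.card_congr (MonoidHom.ofInjective (hi h5' θ ((inclusion_injective hJ).comp
        (altOnEquiv τ.supportᶜ).symm.injective))).toEquiv, two_mul_nat_card_alternatingGroup,
        Nat.card_perm, Nat.card_fin, hcard]
  refine cent_altOn (s := p.supportᶜ) (by omega) (mem_cent.2 fun r hr => ?_) x (by simpa using hx)
  obtain ⟨c, rfl⟩ := hH hr
  exact hcm _ (hθ c) b

end Small1

open Small1

/-- The diagonal alternating group of the other side moves the support. -/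
theorem Cf.type_le (h : Cf ι t) (hp : p ∈ alternatingGroup α) (hk : Tp p k) (h1 : p ≠ 1)
    (h' : Cf κ (t * ev ι p)) (hs : IsConj t (t * ev ι p)) (ha : Act κ t τ) (hj : Tp τ j)
    (h5 : 5 ≤ j) : j ≤ k := by
  obtain ⟨Φ, η, hΦ, hη, -, -, b, x, hx, hx'⟩ := setup h hp h1 h' hs ha hj h5
  have h5' : 5 ≤ Fintype.card (Fin j) := by simpa using h5
  rcases alt_cent h5' (Φ.comp η) (Phi_inj h h' ha hΦ h5' η hη) hk
    (fun b => Phi_comm h hp h' ha hΦ _) with h2 | h2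
  · simpa using h2
  · exact absurd (h2.2 b x hx) hx'

/-- The minimal even type is at most four. -/
theorem Cf.small (h : Cf ι t) (hk : Sg ι t k) : Sg ι t 2 ∨ Sg ι t 4 := by
  classical
  have hex : ∃ k, Sg ι t k := ⟨k, hk⟩
  have hm := Nat.find_spec hex
  have hmin : ∀ j, Sg ι t j → Nat.find hex ≤ j := fun j hj => Nat.find_min' hex hj
  generalize Nat.find hex = m at hm hmin
  by_contra hn
  obtain ⟨⟨i, hi⟩, m2, -⟩ := hm.even
  have n2 : m ≠ 2 := fun e => hn (Or.inl (e ▸ hm))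
  have n4 : m ≠ 4 := fun e => hn (Or.inr (e ▸ hm))
  have h5 : 5 ≤ m := by omega
  obtain ⟨p, hp, h1, hpm, hs⟩ := hm
  obtain ⟨κ, h'⟩ := h.emb hs
  have hts : t * (t * ev ι p) = t * ev ι p * t := by rw [mul_assoc, h.cw.comm_ev]
  obtain ⟨τ, ha⟩ := h'.reg t hts
  obtain ⟨j, hj⟩ := tp_exists (h'.cw.uniq (ha.mul ha) (h.iv.1 ▸ Act.one))
  obtain ⟨hτ, e⟩ := h.even_pair hp h' hs ha
  have hκ : Sg κ (t * ev ι p) j := h'.sg_of_even hs.symm hts
    (fun e' => h1 (ev_eq_one h.inj hp (left_eq_mul.1 e'))) ha hτ hj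
  have hmj := hmin j (hκ.transfer h'.cw h.cw hs.symm rfl)
  obtain rfl : j = m := le_antisymm (h.type_le hp hpm h1 h' hs ha hj (by omega)) hmj
  obtain ⟨Φ, η, hΦ, hη, hf, hd, hmv⟩ := setup h hp h1 h' hs ha hj h5
  have h5' : 5 ≤ Fintype.card (Fin j) := by simpa using h5
  have hc := Phi_comm h hp h' ha hΦ
  refine not_all_free hpm h5 (Φ.comp η) (fun b => hc _) fun b hb => ?_
  have hfix := fixes hc hpm hj h5
    (fun h5 η hη => Phi_inj h h' ha hΦ (by simpa using h5) η hη) η hη hf hmv b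
  have e1 : ∀ b, ((κ.comp (inclusion inf_le_right)).comp η) b = ev κ (η b) := fun b => by
    rw [ev_of_mem (η b).2.2]; rfl
  obtain ⟨r, hr, er⟩ := mem_range_iff.1 (h.alt_le h5' ((κ.comp (inclusion inf_le_right)).comp η)
    (fun b => by rw [e1]; exact comm_t h' ha _) ⟨b, rfl⟩)
  rw [e1] at er
  obtain rfl : Φ (η b) = r := h.cw.uniq (hΦ _) (er ▸ act_ev hr)
  have hbb : b * b = 1 := Subtype.ext hb.iv.1
  obtain ⟨n, hn'⟩ := tp_exists (p := Φ (η b)) (by rw [← map_mul, ← map_mul, hbb, map_one, map_one])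
  have hcj := hκ.all h'.cw (hd b hb)
  rw [ev_mul hτ (η b).2.2, e, ← er, ← mul_assoc, mul_assoc t (ev ι p) (ev ι p), ← ev_mul hp hp,
    hpm.1, ev_one, mul_one] at hcj
  have hle := hmin n ⟨_, hr, fun e' => hb.iv.2 (congrArg Subtype.val
    ((injective_iff_map_eq_one _).1 (Phi_inj h h' ha hΦ h5' η hη) b e')), hn', hs.trans hcj⟩
  have hsup : (Φ (η b)).support = p.support := Finset.eq_of_subset_of_card_le
    (fun x hx => Perm.mem_support.2 fun e' => Perm.mem_support.1 hx (hfix x e'))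
    (by rw [hn'.2, hpm.2]; omega)
  intro x hx
  exact Perm.mem_support.1 (hsup ▸ Perm.mem_support.2 hx)

end Cfsg.Agent.SAq
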