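import Mathlib
import Cfsg.Agent.SAq.APn
import Cfsg.Agent.SAq.AHat
import Cfsg.Agent.SAq.Typ

/-! Existence of the elements `Y p` (H1b, H1c). See `stubs/Cfsg/Agent/SAq/PLAN3.md`. -/

set_option autoImplicit false
set_option linter.unusedSectionVars false

namespace Cfsg.Agent.SAq

open Cfsg Cfsg.Agent.GT Cfsg.Agent.Loc.Mss Cfsg.Agent.Sym Cfsg.Agent.Loc.SO Cfsg.Agent.SAn Subgroup Equiv
open Cfsg.Agent.StdB (C1 mem_C1)
open scoped commutatorElement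

variable {α β γ : Type} [Fintype α] [DecidableEq α] [Fintype β] [DecidableEq β] [Fintype γ]
  [DecidableEq γ] {G : Type*} [Group G] [Finite G] {ι κ l : alternatingGroup α →* G}
  {ψ : Perm β →* G} {X P M L : Subgroup G} {t s u g o : G} {p q σ τ π : Perm α} {k j : ℕ}

variable {Y Z : Perm α → G} {a b c d x y : α} {e : Fin 8 ↪ α}

namespace AY

theorem memB : p ∈ altOn ({a, b, c, d} : Finset α)ᶜ ↔ p ∈ alternatingGroup α ∧ ∀ x ∈ ({a, b, c, d} : Finset α), p x = x := by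
  simp only [mem_altOn, Finset.mem_compl, not_not]

theorem fxB (h : p ∈ altOn ({a, b, c, d} : Finset α)ᶜ) : Fx a b c d p :=
  ⟨(memB.1 h).2 a (by simp), (memB.1 h).2 b (by simp), (memB.1 h).2 c (by simp), (memB.1 h).2 d (by simp)⟩

theorem cm (h4 : D4 a b c d) : cyc3 b c d ∈ alternatingGroup α := cyc3_mem_alternatingGroup h4.bc h4.cd

theorem cA (h4 : D4 a b c d) : cyc3 b c d * dt a b c d * (cyc3 b c d)⁻¹ = dt a c b d := by
  rw [← P0.Φ_cyc h4, ← P0.Φ1 h4, ← P0.Φ2 h4, ← map_inv, ← map_mul, ← map_mul]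
  exact congrArg _ (by decide)

theorem cV (h4 : D4 a b c d) : cyc3 b c d * dt a c b d * (cyc3 b c d)⁻¹ = dt a b c d * dt a c b d := by
  rw [← P0.Φ_cyc h4, ← P0.Φ1 h4, ← P0.Φ2 h4, ← map_inv, ← map_mul, ← map_mul, ← map_mul]
  exact congrArg _ (by decide)

theorem cc (h4 : D4 a b c d) : cyc3 a c d * cyc3 b c d = dt a c b d := by
  rw [← P0.Φ_cyc h4, ← P0.Φ2 h4, show cyc3 a c d = P0.Φ h4 (cyc3 0 2 3) by
    rw [cyc3, cyc3, map_mul, P0.Φ_swap, P0.Φ_swap]; rfl, ← map_mul]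
  exact congrArg _ (by decide)

theorem eA (ι : alternatingGroup α →* G) (h4 : D4 a b c d) :
    ev ι (cyc3 b c d) * ev ι (dt a b c d) * (ev ι (cyc3 b c d))⁻¹ = ev ι (dt a c b d) := by
  rw [← ev_conj (cm h4) h4.mem, cA h4]

theorem eV (ι : alternatingGroup α →* G) (h4 : D4 a b c d) :
    ev ι (cyc3 b c d) * ev ι (dt a c b d) * (ev ι (cyc3 b c d))⁻¹ = ev ι (dt a b c d) * ev ι (dt a c b d) := by
  rw [← ev_conj (cm h4) h4.acb.mem, cV h4, ev_mul h4.mem h4.acb.mem]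

theorem ev_sq (hp : p ∈ alternatingGroup α) (h : p * p = 1) : ev ι p * ev ι p = 1 := by rw [← ev_mul hp hp, h, ev_one]

theorem ev_comm (hp : p ∈ alternatingGroup α) (hq : q ∈ alternatingGroup α) (h : p * q = q * p) :
    ev ι p * ev ι q = ev ι q * ev ι p := by rw [← ev_mul hp hq, h, ev_mul hq hp]

theorem cB (h4 : D4 a b c d) (hp : p ∈ altOn ({a, b, c, d} : Finset α)) (hq : q ∈ altOn ({a, b, c, d} : Finset α)ᶜ) :
    ev ι p * ev ι q = ev ι q * ev ι p :=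
  ev_comm (mem_altOn.1 hp).1 (mem_altOn.1 hq).1 (h4.comm_of_fx (fxB hq) hp).symm

theorem cOn (h4 : D4 a b c d) : cyc3 b c d ∈ altOn ({a, b, c, d} : Finset α) :=
  mem_altOn.2 ⟨cm h4, fun _ hx => have o := P0.out_iff.2 hx; cyc3_apply_of_ne o.b o.c o.d⟩

theorem aV : dt a b c d ∈ V4 a b c d := subset_closure (.inl rfl)

theorem vV : dt a c b d ∈ V4 a b c d := subset_closure (.inr rfl)

theorem aW : ev ι (dt a b c d) ∈ W ι a b c d := subset_closure (.inl rfl)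

theorem vW : ev ι (dt a c b d) ∈ W ι a b c d := subset_closure (.inr rfl)

theorem cW (h1 : g * ev ι (dt a b c d) = ev ι (dt a b c d) * g) (h2 : g * ev ι (dt a c b d) = ev ι (dt a c b d) * g)
    {w : G} (hw : w ∈ W ι a b c d) : g * w = w * g :=
  (mem_centralizer_singleton_iff.1 ((closure_le (centralizer {g})).2 (by
    rintro _ (rfl | rfl)
    exacts [mem_centralizer_singleton_iff.2 h1.symm, mem_centralizer_singleton_iff.2 h2.symm]) hw)).symm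

/-- The elements that have to be centralized. -/
def S (ι : alternatingGroup α →* G) (t : G) (a b c d : α) (x : G) : Prop :=
  x ∈ W ι a b c d ∨ (∃ w ∈ altOn ({a, b, c, d} : Finset α)ᶜ, x = ev ι w) ∨ Od ι t x

/-- The group `M` of the plan. -/
def Mg (h : Cf ι t) (a b c d : α) : Subgroup G where
  carrier := {g | (∀ x, S ι t a b c d x → Commute g x) ∧ g * t * g⁻¹ * t ∈ W ι a b c d}
  one_mem' := ⟨fun _ _ => .one_left _, by rw [one_mul, inv_one, mul_one, h.iv.1]; exact one_mem _⟩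
  mul_mem' := fun {g k} hg hk => ⟨fun x hx => (hg.1 x hx).mul_left (hk.1 x hx), by
    have := mul_mem hk.2 hg.2
    rwa [← mul_assoc, ← mul_assoc, ← mul_assoc, ← (hg.1 _ (.inl hk.2)).eq, mul_assoc g, mul_assoc _ t t, h.iv.1, mul_one,
      show g * (k * t * k⁻¹) * g⁻¹ = g * k * t * (g * k)⁻¹ by group] at this⟩
  inv_mem' := fun {g} hg => ⟨fun x hx => (hg.1 x hx).inv_left, by
    have := inv_mem hg.2
    have e : g⁻¹ * t * g⁻¹⁻¹ * t = g⁻¹ * (g * t * g⁻¹ * t)⁻¹ * g⁻¹⁻¹ := by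
      simp only [mul_inv_rev, inv_eq_of_mul_eq_one_right h.iv.1, inv_inv]; group
    rwa [e, (hg.1 _ (.inl this)).inv_left.mul_inv_cancel]⟩

theorem mem_of (h : Cf ι t) (h1 : ∀ x, S ι t a b c d x → Commute g x) (h2 : Commute g t) : g ∈ Mg h a b c d :=
  ⟨h1, by rw [h2.mul_inv_cancel, h.iv.1]; exact one_mem _⟩

theorem t_mem (h : Cf ι t) : t ∈ Mg h a b c d := mem_of h (by
  rintro x (hx | ⟨w, -, rfl⟩ | hx)
  · obtain ⟨p, -, rfl⟩ := mem_range_iff.1 (W_le ι a b c d hx)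
    exact (h.cw.comm_ev p).symm
  · exact (h.cw.comm_ev w).symm
  · exact hx.1.symm) (.refl t)

theorem V_mem (h : Cf ι t) (h4 : D4 a b c d) (hp : p ∈ V4 a b c d) : ev ι p ∈ Mg h a b c d := mem_of h (by
  rintro x (hx | ⟨w, hw, rfl⟩ | hx)
  · obtain ⟨q, hq, rfl⟩ := (mem_W h4).1 hx
    refine ev_comm (h4.V4_le_alt hp) (h4.V4_le_alt hq) ?_
    rw [← inv_eq_of_mul_eq_one_right (h4.k4.2 _ (mul_mem hp hq)), mul_inv_rev, inv_eq_of_mul_eq_one_right (h4.k4.2 _ hp),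
      inv_eq_of_mul_eq_one_right (h4.k4.2 _ hq)]
  · exact cB h4 (h4.V4_le hp) hw
  · exact Der.od_comm hx (ev_mem p)) (h.cw.comm_ev p)

theorem conj_W (h4 : D4 a b c d) (hq : q ∈ alternatingGroup α)
    (he : ({q a, q b, q c, q d} : Finset α) = {a, b, c, d}) {w : G} :
    ev ι q * w * (ev ι q)⁻¹ ∈ W ι a b c d ↔ w ∈ W ι a b c d := by
  have := ((act_ev (ι := ι) hq).cj_W h4).trans (W_congr h4 (h4.map q) (h4.V4_eq (h4.map q) he))
  conv_lhs => rw [← this]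
  exact mem_map_iff_mem (f := (MulAut.conj (ev ι q)).toMonoidHom) (MulAut.conj _).injective

theorem conj_M (h : Cf ι t) (h4 : D4 a b c d) (hq : q ∈ alternatingGroup α)
    (he : ({q a, q b, q c, q d} : Finset α) = {a, b, c, d}) (hg : g ∈ Mg h a b c d) :
    ev ι q * g * (ev ι q)⁻¹ ∈ Mg h a b c d := by
  refine ⟨fun x hx => ?_, ?_⟩
  · have : S ι t a b c d ((ev ι q)⁻¹ * x * ev ι q) := by
      rcases hx with hx | ⟨w, hw, rfl⟩ | hx
      · exact .inl ((conj_W h4 hq he).1 (by rwa [show ev ι q * ((ev ι q)⁻¹ * x * ev ι q) * (ev ι q)⁻¹ = x by group]))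
      · refine .inr (.inl ⟨q⁻¹ * w * q⁻¹⁻¹, memB.2 ⟨conj_mem_alt (memB.1 hw).1 _, fun z hz => ?_⟩, by
          rw [ev_conj (inv_mem hq) (memB.1 hw).1, ev_inv hq, inv_inv]⟩)
        rw [inv_inv, Perm.mul_apply, Perm.mul_apply, (memB.1 hw).2 (q z) (by
          rw [← he]
          simp only [Finset.mem_insert, Finset.mem_singleton] at hz ⊢
          simpa using hz), Perm.inv_eq_iff_eq]
      · rw [mul_assoc, ← (Der.od_comm hx (ev_mem q)).eq, inv_mul_cancel_left]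
        exact .inr (.inr hx)
    have := Bas.conj_comm (hg.1 _ this).eq (ev ι q)
    rwa [show ev ι q * ((ev ι q)⁻¹ * x * ev ι q) * (ev ι q)⁻¹ = x by group] at this
  · have := (conj_W h4 hq he).2 hg.2
    have e : (ev ι q)⁻¹ * t = t * (ev ι q)⁻¹ := Commute.inv_left (h.cw.comm_ev q)
    rwa [show ev ι q * g * (ev ι q)⁻¹ * t * (ev ι q * g * (ev ι q)⁻¹)⁻¹ * t =
      ev ι q * g * ((ev ι q)⁻¹ * t) * ev ι q * g⁻¹ * ((ev ι q)⁻¹ * t) by group, e,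
      show ev ι q * g * (t * (ev ι q)⁻¹) * ev ι q * g⁻¹ * (t * (ev ι q)⁻¹) =
        ev ι q * (g * t * g⁻¹ * t) * (ev ι q)⁻¹ by group]

open Classical in
/-- The elements `Y p`. -/
noncomputable def Yz (ι : alternatingGroup α →* G) (ζ : G) (π p : Perm α) : G :=
  if h : ∃ q ∈ alternatingGroup α, q * π * q⁻¹ = p then ev ι h.choose * ζ * (ev ι h.choose)⁻¹ else 1

theorem Yz_eq {ζ : G} (h2 : ∀ q ∈ alternatingGroup α, q * π = π * q → ev ι q * ζ = ζ * ev ι q)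
    (hq : q ∈ alternatingGroup α) : Yz ι ζ π (q * π * q⁻¹) = ev ι q * ζ * (ev ι q)⁻¹ := by
  have h : ∃ r ∈ alternatingGroup α, r * π * r⁻¹ = q * π * q⁻¹ := ⟨q, hq, rfl⟩
  rw [Yz, dif_pos h]
  obtain ⟨hr, e⟩ := h.choose_spec
  generalize h.choose = r at hr e
  have := h2 _ (mul_mem (inv_mem hq) hr) (by
    rw [show q⁻¹ * r * π = q⁻¹ * (r * π * r⁻¹) * r by group, e]; group)
  rw [ev_mul (inv_mem hq) hr, ev_inv hq] at this
  rw [show ev ι r * ζ * (ev ι r)⁻¹ = ev ι q * ((ev ι q)⁻¹ * ev ι r * ζ) * (ev ι r)⁻¹ by group, this]; group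

end AY

open AY

/-- H1b: an element centralizing `V`, `A_{n-4}` and `O` that moves `t` inside `tV` -/
theorem Cf.exists_x0 (h : Cf ι t) (h1 : A1 ι t) : ∃ a b c d, D4 a b c d ∧ ∃ g,
    (∀ w ∈ V4 a b c d, g * ev ι w = ev ι w * g) ∧
    (∀ w ∈ altOn ({a, b, c, d} : Finset α)ᶜ, g * ev ι w = ev ι w * g) ∧
    (∀ o, Od ι t o → g * o = o * g) ∧ g * t ≠ t * g ∧ g * t * g⁻¹ * t ∈ W ι a b c d := by
  obtain ⟨a, b, c, d, h4, hs, κ, h', a', b', c', d', h4', ha, hv⟩ := h1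
  have e1 := (h.even_pair h4.mem h' hs ha).2
  have ct : Commute (ev ι (cyc3 b c d)) t := h.cw.comm_ev _
  have e2 : ev κ (dt a' c' b' d') = ev ι (dt a c b d) := by
    refine ((h'.cw.of_even (Typ.comm_s h h4.mem h4.acb.mem h4.dt_comm.symm) (ev_sq h4.acb.mem h4.acb.iv.1) hv
      h4'.acb.mem).resolve_right fun k => h'.conj_not_mem (s := t * ev ι (dt a b c d) * ev ι (dt a c b d))
        (isConj_iff.2 ⟨ev ι (cyc3 b c d) * ev ι (cyc3 b c d), ?_⟩) ?_).symm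
    · rw [mul_assoc t, ← eV ι h4, ← eA ι h4, ← mul_assoc _ t, (ct.mul_left ct).eq]; group
    · rw [k, ← mul_assoc, h'.iv.1, one_mul]; exact ev_mem _
  have f1 := eA κ h4'
  have f2 := eV κ h4'
  rw [e1, e2] at f1 f2
  have cs : Commute (ev κ (cyc3 b' c' d')) (t * ev ι (dt a b c d)) := h'.cw.comm_ev _
  have cB' : ∀ w ∈ altOn ({a, b, c, d} : Finset α)ᶜ, Commute (ev κ (cyc3 b' c' d')) (ev ι w) := fun w hw => by
    refine (mem_centralizer_singleton_iff.1 (altOn_le (K := pre ι (centralizer {ev κ (cyc3 b' c' d')}))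
      (fun x hx y hy z hz xy xz yz => ?_) hw).2).symm
    have hr : cyc3 x y z ∈ altOn ({a, b, c, d} : Finset α)ᶜ := mem_altOn.2 ⟨cyc3_mem_alternatingGroup xy yz,
      fun u hu => cyc3_apply_of_ne (fun k => hu (k ▸ hx)) (fun k => hu (k ▸ hy)) fun k => hu (k ▸ hz)⟩
    have hr' := (mem_altOn.1 hr).1
    obtain ⟨σ, hσ⟩ := h'.reg _ (Typ.comm_s h h4.mem hr' (h4.comm_of_fx (fxB hr) (h4.V4_le aV)))
    have s3 := hσ.pow_eq_one h'.inj h'.cw.four (j := 3) (by rw [← ev_pow hr', cyc3_pow_three xy xz yz, ev_one])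
    have fx := Typ.odd_fx h4' ((hσ.comm_iff h'.inj h4'.mem).1 (e1 ▸ (cB h4 (h4.V4_le aV) hr).symm)) (Typ.odd_of_three s3)
    exact ⟨hr', mem_centralizer_singleton_iff.2 ((hσ.comm_iff h'.inj (cm h4')).2 (h4'.comm_of_fx fx (cOn h4')))⟩
  have g1 := eA ι h4
  have g2 := eV ι h4
  have gt : (ev ι (cyc3 b c d))⁻¹ * ev κ (cyc3 b' c' d') * t * ((ev ι (cyc3 b c d))⁻¹ * ev κ (cyc3 b' c' d'))⁻¹ =
      t * ev ι (dt a c b d) := by
    have : ev κ (cyc3 b' c' d') * t * (ev κ (cyc3 b' c' d'))⁻¹ = t * (ev ι (dt a b c d) * ev ι (dt a c b d)) := by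
      rw [← mul_assoc t, ← cs.mul_inv_cancel, ← f1, conj_mul, mul_assoc t, ev_sq h4.mem h4.iv.1, mul_one]
    rw [show ∀ x y : G, x⁻¹ * y * t * (x⁻¹ * y)⁻¹ = x⁻¹ * (y * t * y⁻¹) * x from fun x y => by group, this, ← g2,
      ← mul_assoc, ct.inv_left.eq]
    group
  refine ⟨a, b, c, d, h4, (ev ι (cyc3 b c d))⁻¹ * ev κ (cyc3 b' c' d'), fun w hw => cW ?_ ?_ ((mem_W h4).2 ⟨w, hw, rfl⟩),
    fun w hw => (Commute.inv_left (cB h4 (cOn h4) hw)).mul_left (cB' w hw), fun o ho =>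
      (Der.od_comm ho (ev_mem _)).inv_left.mul_left (Der.od_comm (h.od_even h4.mem h4.iv.2 h' hs ha
        (tp_two.2 ⟨_, _, _, _, h4', rfl⟩) (by have := h.eight; omega) ho) (ev_mem _)), fun k => ?_, ?_⟩
  · rw [mul_assoc, mul_inv_eq_iff_eq_mul.1 f1, ← g1]; group
  · rw [mul_assoc, mul_inv_eq_iff_eq_mul.1 f2, ← g2]; group
  · rw [k, mul_inv_cancel_right, left_eq_mul] at gt
    exact h4.acb.iv.2 (ev_eq_one h.inj h4.acb.mem gt)
  · rw [gt, mul_assoc, h.cw.comm_ev, ← mul_assoc, h.iv.1, one_mul]; exact vW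

/-- H1c -/
theorem Cf.yg_of_zeta (h : Cf ι t) (h4 : D4 a b c d) {ζ : G} (h1 : ζ * t * ζ⁻¹ = t * ev ι (dt a b c d))
    (h2 : ∀ q ∈ alternatingGroup α, q * dt a b c d = dt a b c d * q → ev ι q * ζ = ζ * ev ι q)
    (h3 : ∀ o, Od ι t o → ζ * o = o * ζ) (h5 : ζ * ζ = 1 ∨ ζ * ζ = ev ι (dt a b c d))
    (h6 : Commute ζ (ev ι (cyc3 b c d) * ζ * (ev ι (cyc3 b c d))⁻¹))
    (h7 : ζ * (ev ι (cyc3 b c d) * ζ * (ev ι (cyc3 b c d))⁻¹) *
      (ev ι (cyc3 b c d) * ev ι (cyc3 b c d) * ζ * (ev ι (cyc3 b c d) * ev ι (cyc3 b c d))⁻¹) = 1) :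
    ∃ Y, YG ι t Y := by
  have tr : ∀ p, Dt p → ∃ q ∈ alternatingGroup α, q * dt a b c d * q⁻¹ = p := fun p hp =>
    Dt.trans h.cw.five ⟨a, b, c, d, h4, rfl⟩ hp
  have tr4 : ∀ a' b' c' d', D4 a' b' c' d' → ∃ x : G, Yz ι ζ (dt a b c d) (dt a' b' c' d') = x * ζ * x⁻¹ ∧
      Yz ι ζ (dt a b c d) (dt a' c' b' d') = x * (ev ι (cyc3 b c d) * ζ * (ev ι (cyc3 b c d))⁻¹) * x⁻¹ ∧
      Yz ι ζ (dt a b c d) (dt a' d' b' c') =
        x * (ev ι (cyc3 b c d) * ev ι (cyc3 b c d) * ζ * (ev ι (cyc3 b c d) * ev ι (cyc3 b c d))⁻¹) * x⁻¹ := by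
    intro a' b' c' d' h4'
    obtain ⟨π, hπ, rfl, rfl, rfl, rfl⟩ := trans4 (h.eight.trans' (by norm_num)) h4 h4'
    refine ⟨ev ι π, by rw [← dt_conj, Yz_eq h2 hπ], ?_, ?_⟩
    · rw [← dt_conj, ← cA h4, show π * (cyc3 b c d * dt a b c d * (cyc3 b c d)⁻¹) * π⁻¹ =
        π * cyc3 b c d * dt a b c d * (π * cyc3 b c d)⁻¹ by group, Yz_eq h2 (mul_mem hπ (cm h4)), ev_mul hπ (cm h4)]
      group
    · rw [← dt_conj, ← h4.dt_mul, ← cV h4, ← cA h4,
        show π * (cyc3 b c d * (cyc3 b c d * dt a b c d * (cyc3 b c d)⁻¹) * (cyc3 b c d)⁻¹) * π⁻¹ =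
        π * (cyc3 b c d * cyc3 b c d) * dt a b c d * (π * (cyc3 b c d * cyc3 b c d))⁻¹ by group,
        Yz_eq h2 (mul_mem hπ (mul_mem (cm h4) (cm h4))), ev_mul hπ (mul_mem (cm h4) (cm h4)), ev_mul (cm h4) (cm h4)]
      group
  refine ⟨Yz ι ζ (dt a b c d), h, ⟨h.eight, h.inj, h.iv.1, h.cw.comm_ev, fun p hp => ?_, fun r hr p hp => ?_,
    h5.imp (fun k p hp => ?_) fun k p hp => ?_, fun a' b' c' d' h4' => ?_, fun a' b' c' d' h4' => ?_⟩,
    fun o ho p hp => ?_⟩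
  iterate 4 obtain ⟨q, hq, rfl⟩ := tr p hp; rotate_left
  iterate 2 obtain ⟨x, e1, e2, e3⟩ := tr4 _ _ _ _ h4'; rotate_left
  obtain ⟨q, hq, rfl⟩ := tr p hp; rotate_left
  · have e : (ev ι q)⁻¹ * t = t * (ev ι q)⁻¹ := Commute.inv_left (h.cw.comm_ev q)
    rw [Yz_eq h2 hq, ev_conj hq h4.mem, show ev ι q * ζ * (ev ι q)⁻¹ * t * (ev ι q * ζ * (ev ι q)⁻¹)⁻¹ =
      ev ι q * ζ * ((ev ι q)⁻¹ * t) * ev ι q * ζ⁻¹ * (ev ι q)⁻¹ by group, e,
      show ev ι q * ζ * (t * (ev ι q)⁻¹) * ev ι q * ζ⁻¹ * (ev ι q)⁻¹ = ev ι q * (ζ * t * ζ⁻¹) * (ev ι q)⁻¹ by group, h1,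
      ← mul_assoc, h.cw.comm_ev q]
    group
  · rw [show r * (q * dt a b c d * q⁻¹) * r⁻¹ = r * q * dt a b c d * (r * q)⁻¹ by group, Yz_eq h2 hq,
      Yz_eq h2 (mul_mem hr hq), ev_mul hr hq]
    group
  · rw [Yz_eq h2 hq, conj_mul, k, mul_one, mul_inv_cancel]
  · rw [Yz_eq h2 hq, conj_mul, k, ev_conj hq h4.mem]
  · rw [e1, e2]; exact Bas.conj_comm h6 x
  · rw [e1, e2, e3, conj_mul, conj_mul, h7, mul_one, mul_inv_cancel]
  · have := (Der.od_comm ho (ev_mem q)).symm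
    rw [Yz_eq h2 hq]
    exact (this.mul_right (h3 o ho).symm).mul_right this.inv_right

theorem Cf.exists_yg (h : Cf ι t) (h1 : A1 ι t) : ∃ Y, YG ι t Y := by
  obtain ⟨a, b, c, d, h4, g, g1, g2, g3, g4, g5⟩ := h.exists_x0 h1
  obtain ⟨x, y, hx, hy, xy⟩ := exists_out2 (h.eight.trans' (by norm_num)) a b c d
  have j4 : D4 a b x y := ⟨h4.ab, hx.a.symm, hy.a.symm, hx.b.symm, hy.b.symm, xy⟩
  have ja : dt a b x y a = b := by rw [dt, Perm.mul_apply, swap_apply_of_ne_of_ne j4.ac j4.ad, swap_apply_left]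
  have jb : dt a b x y b = a := by rw [dt, Perm.mul_apply, swap_apply_of_ne_of_ne j4.bc j4.bd, swap_apply_right]
  have jc : dt a b x y c = c := by
    rw [dt, Perm.mul_apply, swap_apply_of_ne_of_ne hx.c.symm hy.c.symm, swap_apply_of_ne_of_ne h4.ac.symm h4.bc.symm]
  have jd : dt a b x y d = d := by
    rw [dt, Perm.mul_apply, swap_apply_of_ne_of_ne hx.d.symm hy.d.symm, swap_apply_of_ne_of_ne h4.ad.symm h4.bd.symm]
  have jA : dt a b x y * dt a b c d = dt a b c d * dt a b x y := by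
    rw [← mul_inv_eq_iff_eq_mul, dt_conj, ja, jb, jc, jd, dt_bac]
  have H : Hat (Mg h a b c d) t (ev ι (dt a b c d)) (ev ι (dt a c b d)) (ev ι (cyc3 b c d)) (ev ι (dt a b x y)) :=
    { tt := h.iv.1
      aa := ev_sq h4.mem h4.iv.1
      vv := ev_sq h4.acb.mem h4.acb.iv.1
      jj := ev_sq j4.mem j4.iv.1
      ccc := by rw [← ev_pow (cm h4), cyc3_pow_three h4.bc h4.bd h4.cd, ev_one]
      a1 := fun k => h4.iv.2 (ev_eq_one h.inj h4.mem k)
      tM := t_mem h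
      aM := V_mem h h4 aV
      vM := V_mem h h4 vV
      ca := eA ι h4
      cv := eV ι h4
      ct := h.cw.comm_ev _
      ja := ev_comm j4.mem h4.mem jA
      jv := by
        rw [← ev_conj j4.mem h4.acb.mem, ← ev_mul h4.mem h4.acb.mem, dt_conj, ja, jb, jc, jd, h4.dt_mul,
          h4.acb.abdc.acb.abdc.dt_cdab]
      jt := h.cw.comm_ev _
      jc := by
        rw [← ev_conj j4.mem (cm h4), ← ev_mul (conj_mem_alt (cm h4) _) (cm h4), conj_cyc3, jb, jc, jd, cc h4]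
        exact vW
      cM := fun g hg => conj_M h h4 (cm h4) (by
        rw [cyc3_apply_of_ne h4.ab h4.ac h4.ad, cyc3_apply_fst h4.bc h4.bd, cyc3_apply_snd h4.bd h4.cd, cyc3_apply_thd]
        ext; simp only [Finset.mem_insert, Finset.mem_singleton]; tauto) hg
      jM := fun g hg => conj_M h h4 j4.mem (by rw [ja, jb, jc, jd, Finset.insert_comm]) hg
      cen := fun g hg => ⟨hg.1 _ (.inl aW), hg.1 _ (.inl vW)⟩
      ph := fun g hg => hg.2
      tV := fun k => h.cw.not_mem (W_le ι a b c d k)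
      ker := fun g hg gt => by
        obtain ⟨σ, hσ⟩ := h.reg g gt
        have hV := cent_VB h.eight h4 ((hσ.comm_iff h.inj h4.mem).1 (hg.1 _ (.inl aW)))
          ((hσ.comm_iff h.inj h4.acb.mem).1 (hg.1 _ (.inl vW))) fun w hw =>
            ((hσ.comm_iff h.inj (memB.1 hw).1).1 (hg.1 _ (.inr (.inl ⟨w, hw, rfl⟩)))).symm
        obtain ⟨k, rfl, kt, ka, -⟩ := h.cw.even_aux gt hσ (h4.V4_le_alt hV)
        have kM := (mul_mem_cancel_right (V_mem h h4 hV)).1 hg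
        obtain ⟨o, ho, e⟩ := h.ker' kt ka
        refine ⟨o, ?_, ho.2.2, fun x hx => (hx.1 o (.inr (.inr ho))).symm, ev ι σ, (mem_W h4).2 ⟨σ, hV, rfl⟩,
          e.imp (fun e => by rw [e]) fun e => by rw [e, mul_assoc, mul_assoc, h.cw.comm_ev]⟩
        rcases e with rfl | rfl
        exacts [kM, (mul_mem_cancel_right (t_mem h)).1 kM]
      ex := ⟨g, ⟨by
        rintro x (hx | ⟨w, hw, rfl⟩ | hx)
        exacts [cW (g1 _ aV) (g1 _ vV) hx, g2 w hw, g3 x hx], g5⟩, g4⟩ }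
  obtain ⟨ζ, hζ, z1, z2, z3, z4, z5⟩ := H.core
  refine h.yg_of_zeta h4 z1 (fun q hq hc => mem_centralizer_singleton_iff.1 ?_) (fun o ho => hζ.1 o (.inr (.inr ho)))
    z3 z4 z5
  refine ((sup_le (sup_le (fun w hw => ⟨h4.V4_le_alt hw, ?_⟩) fun w hw => ⟨(memB.1 hw).1, ?_⟩)
    (zpowers_le.2 ⟨j4.mem, mem_centralizer_singleton_iff.2 z2⟩) : _ ≤ pre ι (centralizer {ζ}))
      (cent_gen h4 hx hy xy hq hc)).2
  · exact mem_centralizer_singleton_iff.2 (hζ.1 _ (.inl ((mem_W h4).2 ⟨w, hw, rfl⟩))).symm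
  · exact mem_centralizer_singleton_iff.2 (hζ.1 _ (.inr (.inl ⟨w, hw, rfl⟩))).symm

end Cfsg.Agent.SAq
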