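import Mathlib
import Cfsg.Agent.SAq.LG

/-! The Steinberg relations. See `stubs/Cfsg/Agent/SAq/PLAN4.md`. -/

set_option autoImplicit false
set_option linter.unusedSectionVars false

namespace Cfsg.Agent.SAq

open Cfsg Cfsg.Agent.GT Cfsg.Agent.Loc.Mss Cfsg.Agent.Sym Cfsg.Agent.Loc.SO Cfsg.Agent.SAn Subgroup Equiv
open Cfsg.Agent.StdB (C1 mem_C1)
open scoped commutatorElement

universe u

variable {α : Type} [Fintype α] [DecidableEq α] {G : Type u} [Group G] [Finite G]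
  {ι : alternatingGroup α →* G} {ι8 : alternatingGroup (Fin 8) →* G} {X : Subgroup G} {t g v : G}
  {Z : Perm α → G} {Z8 : Perm (Fin 8) → G} {E p q r : Perm α}
  {K : Type} [Field K] [CharP K 2] [Finite K]

namespace LA

theorem rt_self : ∀ i, rt i i = 1 := by decide +kernel

theorem rt_sq : ∀ i j, rt i j * rt i j = 1 := by decide +kernel

theorem rt_mem (i j : Fin 4) : rt i j ∈ alternatingGroup (Fin 8) := by
  by_cases h : i = j
  · rw [h, rt_self]; exact one_mem _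
  · obtain ⟨p, q, hs⟩ := sp_rt h
    exact hs.mem.1

theorem rt_cm : ∀ i j k l, j ≠ k → i ≠ l → rt i j * rt k l = rt k l * rt i j := by decide +kernel

theorem rt_sw : ∀ a b, a ≠ b → ∀ i j,
    rt a b * rt b a * rt a b * rt i j = rt (swap a b i) (swap a b j) * (rt a b * rt b a * rt a b) := by
  decide +kernel

theorem ex3 : ∀ i j k : Fin 4, i ≠ j → j ≠ k → i ≠ k → ∃ π : Perm (Fin 4), π 0 = i ∧ π 2 = j ∧ π 3 = k := by
  decide +kernel

theorem ex4 : ∀ i j k l : Fin 4, i ≠ j → k ≠ l → j ≠ k → i ≠ l → i ≠ k → j ≠ l →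
    ∃ π : Perm (Fin 4), π 0 = i ∧ π 1 = j ∧ π 2 = k ∧ π 3 = l := by
  decide +kernel

theorem t2 : ∀ a : ZMod 2, a = 0 ∨ a = 1 := by decide

theorem pva {x : G} (h : x * x = 1) (a b : ZMod 2) : x ^ (a + b).val = x ^ a.val * x ^ b.val := by
  rcases t2 a with rfl | rfl <;> rcases t2 b with rfl | rfl
  · simp
  · simp
  · simp
  · rw [show (1 + 1 : ZMod 2).val = 0 from rfl, show (1 : ZMod 2).val = 1 from rfl, pow_zero, pow_one, h]

theorem cl {x y z : G} (h : Commute x ⁅y, z⁆) : ⁅x * y, z⁆ = ⁅y, z⁆ * ⁅x, z⁆ := by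
  rw [← mul_inv_cancel_right ⁅y, z⁆ x, ← h.eq]
  simp only [commutatorElement_def]
  group

theorem cr {x y z : G} (h : Commute y ⁅x, z⁆) : ⁅x, y * z⁆ = ⁅x, y⁆ * ⁅x, z⁆ := by
  rw [← mul_inv_cancel_right ⁅x, z⁆ y, ← h.eq]
  simp only [commutatorElement_def]
  group

theorem bil {A B C D P Q : G} (ac : ⁅A, C⁆ = P) (ad : ⁅A, D⁆ = Q) (bc : ⁅B, C⁆ = Q) (bd : ⁅B, D⁆ = P * Q)
    (ap : Commute A P) (aq : Commute A Q) (cp : Commute C P) (cq : Commute C Q) (qq : Q * Q = 1)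
    (pq : Commute P Q) (pp : P * P = 1) (a b c d : ZMod 2) :
    ⁅A ^ a.val * B ^ b.val, C ^ c.val * D ^ d.val⁆ = P ^ (a * c + 1 * b * d).val * Q ^ (a * d + b * c + 1 * b * d).val := by
  have h1 : ⁅A, C * D⁆ = P * Q := by rw [cr (ad ▸ cq), ac, ad]
  have h2 : ⁅B, C * D⁆ = P := by rw [cr (bd ▸ cp.mul_right cq), bc, bd, pq.eq, ← mul_assoc, qq, one_mul]
  have h3 : ⁅A * B, C⁆ = P * Q := by rw [cl (bc ▸ aq), bc, ac, pq.eq]
  have h4 : ⁅A * B, D⁆ = P := by rw [cl (bd ▸ ap.mul_right aq), bd, ad, mul_assoc, qq, mul_one]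
  have h5 : ⁅A * B, C * D⁆ = Q := by rw [cl (h2 ▸ ap), h2, h1, ← mul_assoc, pp, one_mul]
  have v1 : (1 : ZMod 2).val = 1 := rfl
  have v2 : (1 + 1 : ZMod 2) = 0 := rfl
  rcases t2 a with rfl | rfl <;> rcases t2 b with rfl | rfl <;> rcases t2 c with rfl | rfl <;>
    rcases t2 d with rfl | rfl <;>
    simp only [mul_zero, zero_mul, mul_one, one_mul, add_zero, zero_add, v2, v1, ZMod.val_zero, pow_zero, pow_one,
      commutatorElement_one_left, commutatorElement_one_right, ac, ad, bc, bd, h1, h2, h3, h4, h5]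

end LA

open LA

theorem rt_weyl (π : Perm (Fin 4)) : ∃ w ∈ alternatingGroup (Fin 8), ∀ i j, w * rt i j * w⁻¹ = rt (π i) (π j) := by
  induction π using Perm.swap_induction_on with
  | one => exact ⟨1, one_mem _, fun i j => by simp⟩
  | swap_mul f a b hab ih =>
    obtain ⟨w, hw, h⟩ := ih
    refine ⟨rt a b * rt b a * rt a b * w, mul_mem (mul_mem (mul_mem (rt_mem _ _) (rt_mem _ _)) (rt_mem _ _)) hw,
      fun i j => ?_⟩
    rw [Perm.mul_apply, Perm.mul_apply, ← mul_inv_cancel_right (rt (swap a b (f i)) (swap a b (f j)))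
      (rt a b * rt b a * rt a b), ← rt_sw a b hab, ← h]
    group

namespace LA

variable (h : Zt ι8 t Z8)
include h

theorem gconj {w : Perm (Fin 8)} (hw : w ∈ alternatingGroup (Fin 8)) {i j : Fin 4} (hij : i ≠ j) :
    ev ι8 w * Gm Z8 (rt i j) * (ev ι8 w)⁻¹ = Gm Z8 (w * rt i j * w⁻¹) := by
  obtain ⟨p, q, hs⟩ := sp_rt hij
  exact h.gm_eqv hs hw

theorem weyl (π : Perm (Fin 4)) : ∃ W : G, (∀ i j, W * ev ι8 (rt i j) * W⁻¹ = ev ι8 (rt (π i) (π j))) ∧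
    ∀ i j, i ≠ j → W * Gm Z8 (rt i j) * W⁻¹ = Gm Z8 (rt (π i) (π j)) := by
  obtain ⟨w, hw, k⟩ := rt_weyl π
  exact ⟨ev ι8 w, fun i j => by rw [← ev_conj hw (rt_mem _ _), k], fun i j hij => by rw [gconj h hw hij, k]⟩

theorem gsq {i j : Fin 4} (hij : i ≠ j) : Gm Z8 (rt i j) * Gm Z8 (rt i j) = 1 := by
  obtain ⟨p, q, hs⟩ := sp_rt hij
  exact h.gm_sq hs

omit h in
theorem xsq (i j : Fin 4) : ev ι8 (rt i j) * ev ι8 (rt i j) = 1 := by
  rw [← ev_mul (rt_mem _ _) (rt_mem _ _), rt_sq, ev_one]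

omit h in
theorem xx {i j k l : Fin 4} (h1 : j ≠ k) (h2 : i ≠ l) : Commute (ev ι8 (rt i j)) (ev ι8 (rt k l)) := by
  rw [Commute, SemiconjBy, ← ev_mul (rt_mem _ _) (rt_mem _ _), rt_cm _ _ _ _ h1 h2, ev_mul (rt_mem _ _) (rt_mem _ _)]

theorem xg {i j k l : Fin 4} (h1 : j ≠ k) (h2 : i ≠ l) (h3 : k ≠ l) : Commute (ev ι8 (rt i j)) (Gm Z8 (rt k l)) := by
  have := gconj h (rt_mem i j) h3
  rw [rt_cm _ _ _ _ h1 h2, mul_inv_cancel_right] at this
  exact mul_inv_eq_iff_eq_mul.1 this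

theorem row0 : Commute (Gm Z8 (rt 0 2)) (Gm Z8 (rt 0 3)) ∧
    ev ι8 (rt 2 3) * Gm Z8 (rt 0 2) * (ev ι8 (rt 2 3))⁻¹ = Gm Z8 (rt 0 2) * Gm Z8 (rt 0 3) := by
  let e : Fin 8 ↪ Fin 8 := ⟨![0, 1, 2, 3, 4, 6, 5, 7], by decide⟩
  have k := h.gm_add e
  rw [show dE e 0 1 2 3 * dE e 4 5 6 7 = rt 0 2 by decide +kernel,
    show dE e 0 2 1 3 * dE e 4 6 5 7 = rt 0 3 by decide +kernel,
    show dE e 0 3 1 2 * dE e 4 7 5 6 = rt 2 3 * rt 0 2 * (rt 2 3)⁻¹ by decide +kernel] at k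
  exact ⟨k.1, by rw [gconj h (rt_mem _ _) (by decide), k.2]⟩

theorem col0 : Commute (Gm Z8 (rt 0 3)) (Gm Z8 (rt 2 3)) ∧
    ev ι8 (rt 0 2) * Gm Z8 (rt 2 3) * (ev ι8 (rt 0 2))⁻¹ = Gm Z8 (rt 0 3) * Gm Z8 (rt 2 3) := by
  let e : Fin 8 ↪ Fin 8 := ⟨![0, 2, 5, 4, 1, 3, 6, 7], by decide⟩
  have k := h.gm_add e
  rw [show dE e 0 1 2 3 * dE e 4 5 6 7 = rt 0 3 by decide +kernel,
    show dE e 0 2 1 3 * dE e 4 6 5 7 = rt 2 3 by decide +kernel,
    show dE e 0 3 1 2 * dE e 4 7 5 6 = rt 0 2 * rt 2 3 * (rt 0 2)⁻¹ by decide +kernel] at k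
  exact ⟨k.1, by rw [gconj h (rt_mem _ _) (by decide), k.2]⟩

theorem dis0 : Commute (Gm Z8 (rt 0 1)) (Gm Z8 (rt 2 3)) ∧ Gm Z8 (rt 0 1) * Gm Z8 (rt 2 3) = Z8 (dt 0 2 4 5) := by
  let e : Fin 8 ↪ Fin 8 := ⟨![0, 4, 5, 2, 1, 6, 3, 7], by decide⟩
  have k := h.gm_V e
  rwa [show dE e 0 1 2 3 * dE e 4 5 6 7 = rt 0 1 by decide +kernel,
    show dE e 0 2 1 3 * dE e 4 5 6 7 = rt 2 3 by decide +kernel,
    show dE e 0 3 1 2 = dt 0 2 4 5 by decide +kernel] at k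

theorem dis1 : Gm Z8 (rt 0 2) * Gm Z8 (rt 1 3) = Z8 (dt 0 2 1 3) := by
  let e : Fin 8 ↪ Fin 8 := ⟨![0, 1, 3, 2, 4, 6, 5, 7], by decide⟩
  have k := (h.gm_V e).2
  rwa [show dE e 0 1 2 3 * dE e 4 5 6 7 = rt 0 2 by decide +kernel,
    show dE e 0 2 1 3 * dE e 4 5 6 7 = rt 1 3 by decide +kernel,
    show dE e 0 3 1 2 = dt 0 2 1 3 by decide +kernel] at k

omit h in
theorem cmc {a b : G} (W : G) (k : Commute a b) : Commute (W * a * W⁻¹) (W * b * W⁻¹) := by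
  rw [Commute, SemiconjBy, conj_mul, conj_mul, k.eq]

theorem gg {i j k l : Fin 4} (h1 : j ≠ k) (h2 : i ≠ l) (h3 : i ≠ j) (h4 : k ≠ l) :
    Commute (Gm Z8 (rt i j)) (Gm Z8 (rt k l)) := by
  by_cases e1 : i = k <;> by_cases e2 : j = l
  · rw [e1, e2]
  · subst e1
    obtain ⟨π, rfl, rfl, rfl⟩ := ex3 i j l h3 e2 h2
    obtain ⟨W, -, w⟩ := weyl h π
    rw [← w 0 2 (by decide), ← w 0 3 (by decide)]
    exact cmc W (row0 h).1
  · subst e2
    obtain ⟨π, rfl, rfl, rfl⟩ := ex3 i k j e1 h4 h3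
    obtain ⟨W, -, w⟩ := weyl h π
    rw [← w 0 3 (by decide), ← w 2 3 (by decide)]
    exact cmc W (col0 h).1
  · obtain ⟨π, rfl, rfl, rfl, rfl⟩ := ex4 i j k l h3 h4 h1 h2 e1 e2
    obtain ⟨W, -, w⟩ := weyl h π
    rw [← w 0 1 (by decide), ← w 2 3 (by decide)]
    exact cmc W (dis0 h).1

theorem d1 {i j k : Fin 4} (h1 : i ≠ j) (h2 : j ≠ k) (h3 : i ≠ k) :
    ev ι8 (rt i j) * Gm Z8 (rt j k) * (ev ι8 (rt i j))⁻¹ = Gm Z8 (rt i k) * Gm Z8 (rt j k) := by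
  obtain ⟨π, rfl, rfl, rfl⟩ := ex3 i j k h1 h2 h3
  obtain ⟨W, w0, w⟩ := weyl h π
  rw [← w 0 3 (by decide), ← w 2 3 (by decide), ← w0, conj_mul (a := Gm Z8 _), ← (col0 h).2]
  group

theorem d2 {i j k : Fin 4} (h1 : i ≠ j) (h2 : j ≠ k) (h3 : i ≠ k) :
    ev ι8 (rt j k) * Gm Z8 (rt i j) * (ev ι8 (rt j k))⁻¹ = Gm Z8 (rt i j) * Gm Z8 (rt i k) := by
  obtain ⟨π, rfl, rfl, rfl⟩ := ex3 i j k h1 h2 h3
  obtain ⟨W, w0, w⟩ := weyl h π
  rw [← w 0 3 (by decide), ← w 0 2 (by decide), ← w0, conj_mul (a := Gm Z8 _), ← (row0 h).2]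
  group

theorem fx {i j k l : Fin 4} (h1 : j ≠ k) (h2 : i ≠ l) (h3 : k ≠ l) :
    ev ι8 (rt i j) * Gm Z8 (rt k l) * (ev ι8 (rt i j))⁻¹ = Gm Z8 (rt k l) := by
  rw [(xg h h1 h2 h3).eq, mul_inv_cancel_right]

theorem zvb : Z8 (dt 1 3 4 5) =
    Gm Z8 (rt 0 1) * Gm Z8 (rt 0 2) * (Gm Z8 (rt 1 3) * (Gm Z8 (rt 0 3) * Gm Z8 (rt 2 3))) := by
  have k := h.yt.eqv _ (mul_mem (mul_mem (rt_mem 0 2) (rt_mem 0 3)) (rt_mem 1 2)) (dt 0 2 4 5)
    ⟨0, 2, 4, 5, ⟨by decide, by decide, by decide, by decide, by decide, by decide⟩, rfl⟩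
  rw [show rt 0 2 * rt 0 3 * rt 1 2 * dt 0 2 4 5 * (rt 0 2 * rt 0 3 * rt 1 2)⁻¹ = dt 1 3 4 5 by decide +kernel,
    ev_mul (mul_mem (rt_mem _ _) (rt_mem _ _)) (rt_mem _ _), ev_mul (rt_mem _ _) (rt_mem _ _), ← (dis0 h).2] at k
  have c : ∀ x y z a b : G, x * y * z * (a * b) * (x * y * z)⁻¹ =
      x * (y * (z * a * z⁻¹ * (z * b * z⁻¹)) * y⁻¹) * x⁻¹ := fun _ _ _ _ _ => by group
  have c' : ∀ x a b d f : G, x * (a * b * (d * f)) * x⁻¹ =
      x * a * x⁻¹ * (x * b * x⁻¹) * (x * d * x⁻¹ * (x * f * x⁻¹)) := fun _ _ _ _ _ => by group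
  rw [← k, c, d2 h (i := 0) (j := 1) (k := 2) (by decide) (by decide) (by decide),
    d1 h (i := 1) (j := 2) (k := 3) (by decide) (by decide) (by decide), c' (ev ι8 (rt 0 3)),
    fx h (i := 0) (j := 3) (k := 0) (l := 1) (by decide) (by decide) (by decide),
    fx h (i := 0) (j := 3) (k := 0) (l := 2) (by decide) (by decide) (by decide),
    fx h (i := 0) (j := 3) (k := 1) (l := 3) (by decide) (by decide) (by decide),
    fx h (i := 0) (j := 3) (k := 2) (l := 3) (by decide) (by decide) (by decide), c',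
    fx h (i := 0) (j := 2) (k := 0) (l := 1) (by decide) (by decide) (by decide),
    fx h (i := 0) (j := 2) (k := 0) (l := 2) (by decide) (by decide) (by decide),
    fx h (i := 0) (j := 2) (k := 1) (l := 3) (by decide) (by decide) (by decide),
    d1 h (i := 0) (j := 2) (k := 3) (by decide) (by decide) (by decide)]

end LA

theorem Zt.la2 (h : Zt ι8 t Z8) (h1 : EA1 ι8 Z8) :
    (Gm Z8 (rt 0 2) * Gm Z8 (rt 2 3)) ^ 2 = ev ι8 (rt 0 3) * Gm Z8 (rt 0 3) := by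
  let e : Fin 8 ↪ Fin 8 := ⟨![0, 2, 1, 3, 4, 5, 6, 7], by decide⟩
  have k := h1 e
  rw [show dE e 0 1 2 3 * dE e 4 5 6 7 = rt 0 3 by decide +kernel, show dE e 0 1 2 3 = dt 0 2 1 3 from rfl,
    show dE e 0 1 4 5 = dt 0 2 4 5 from rfl, show dE e 2 3 4 5 = dt 1 3 4 5 from rfl, ← dis1 h, ← (dis0 h).2,
    zvb h] at k
  have s1 := gsq h (show (0 : Fin 4) ≠ 1 by decide)
  have s2 := gsq h (show (1 : Fin 4) ≠ 3 by decide)
  have s3 := gsq h (show (0 : Fin 4) ≠ 3 by decide)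
  have c1 := (dis0 h).1
  have c2 : Commute (Gm Z8 (rt 1 3)) (Gm Z8 (rt 2 3)) := gg h (by decide) (by decide) (by decide) (by decide)
  have c3 : Commute (Gm Z8 (rt 1 3)) (Gm Z8 (rt 0 2)) := gg h (by decide) (by decide) (by decide) (by decide)
  have c4 := (col0 h).1
  generalize Gm Z8 (rt 0 1) = a at *
  generalize Gm Z8 (rt 0 2) = b at *
  generalize Gm Z8 (rt 0 3) = c at *
  generalize Gm Z8 (rt 1 3) = d at *
  generalize Gm Z8 (rt 2 3) = f at *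
  rw [← k]
  symm
  calc b * d * (a * f) * (a * b * (d * (c * f))) * c = b * d * (a * f * a) * b * d * (c * f * c) := by group
    _ = b * (d * (f * b)) * d * f := by
      rw [c1.eq, c4.eq, mul_assoc f a a, s1, mul_assoc f c c, s3]; group
    _ = b * f * b * (d * d) * f := by rw [(c2.mul_right c3).eq]; group
    _ = _ := by rw [s2, pow_two]; group

theorem Zt.str (h : Zt ι8 t Z8) (h1 : EA1 ι8 Z8) : SLm.StR (n := 3) (yr ι8 Z8) := by
  refine ⟨fun i a => if_pos rfl, fun i j a b => ?_, fun {i j k l} h2 h3 a b => ?_, fun {i j k} h2 h3 h4 a b => ?_⟩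
  · unfold yr
    split_ifs with e
    · rw [mul_one]
    · rw [QuadraticAlgebra.re_add, QuadraticAlgebra.im_add, pva (xsq i j), pva (gsq h e),
        ((xg h (Ne.symm e) e e).pow_pow _ _).mul_mul_mul_comm]
  · unfold yr
    split_ifs with e1 e2 e2
    · exact Commute.refl _
    · exact Commute.one_left _
    · exact Commute.one_right _
    · exact (((xx h2 h3).pow_pow _ _).mul_right ((xg h h2 h3 e2).pow_pow _ _)).mul_left
        (((xg h h3.symm h2.symm e1).symm.pow_pow _ _).mul_right ((gg h h2 h3 e1 e2).pow_pow _ _))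
  · have k0 : ⁅yr ι8 Z8 0 2 a, yr ι8 Z8 2 3 b⁆ = yr ι8 Z8 0 3 (a * b) := by
      simp only [yr, if_neg (show (0 : Fin 4) ≠ 2 by decide), if_neg (show (2 : Fin 4) ≠ 3 by decide),
        if_neg (show (0 : Fin 4) ≠ 3 by decide), QuadraticAlgebra.re_mul, QuadraticAlgebra.im_mul]
      refine bil ?_ ?_ ?_ ?_ (xx (by decide) (by decide)) (xg h (by decide) (by decide) (by decide))
        (xx (by decide) (by decide)) (xg h (by decide) (by decide) (by decide)) (gsq h (by decide))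
        (xg h (by decide) (by decide) (by decide)) (xsq _ _) _ _ _ _
      · rw [commutatorElement_def, ← ev_conj (rt_mem _ _) (rt_mem _ _), ← ev_inv (rt_mem _ _),
          ← ev_mul (mul_mem (mul_mem (rt_mem _ _) (rt_mem _ _)) (inv_mem (rt_mem _ _))) (inv_mem (rt_mem _ _))]
        exact congrArg _ (by decide +kernel)
      · rw [commutatorElement_def, (col0 h).2, mul_inv_cancel_right]
      · rw [← commutatorElement_inv, commutatorElement_def, (row0 h).2, (row0 h).1.eq, mul_inv_cancel_right,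
          inv_eq_of_mul_eq_one_right (gsq h (by decide))]
      · rw [← h.la2 h1, commutatorElement_def, inv_eq_of_mul_eq_one_right (gsq h (by decide)),
          inv_eq_of_mul_eq_one_right (gsq h (by decide)), pow_two]
        group
    obtain ⟨π, rfl, rfl, rfl⟩ := ex3 i j k h2 h3 h4
    obtain ⟨W, w0, w⟩ := weyl h π
    have k1 : ∀ i j : Fin 4, i ≠ j → ∀ c, yr ι8 Z8 (π i) (π j) c = W * yr ι8 Z8 i j c * W⁻¹ := fun i j e c => by
      rw [yr, yr, if_neg e, if_neg (π.injective.ne e), ← w0, ← w i j e, conj_pow, conj_pow, conj_mul]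
    rw [k1 0 2 (by decide), k1 2 3 (by decide), k1 0 3 (by decide), ← k0, conjugate_commutatorElement]

end Cfsg.Agent.SAq
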