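import Mathlib
import Cfsg.Agent.SAq.LA
import Cfsg.Agent.SAn.PermA
import Cfsg.Agent.SLm.St
import Cfsg.Agent.SLm.FE0

/-! The subgroup `L₄(4)`. See `stubs/Cfsg/Agent/SAq/PLAN4.md`. -/

set_option autoImplicit false
set_option linter.unusedSectionVars false

namespace Cfsg.Agent.SAq

open Cfsg Cfsg.Agent.GT Cfsg.Agent.Loc.Mss Cfsg.Agent.Sym Cfsg.Agent.Loc.SO Cfsg.Agent.SAn Subgroup Equiv
open Cfsg.Agent.StdB (C1 mem_C1)
open scoped commutatorElement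

universe u

variable {α : Type} [Fintype α] [DecidableEq α] {G : Type u} [Group G] [Finite G]
  {ι : alternatingGroup α →* G} {ι8 : alternatingGroup (Fin 8) →* G} {X : Subgroup G} {t g v : G}
  {Z : Perm α → G} {Z8 : Perm (Fin 8) → G} {E p q r : Perm α}
  {K : Type} [Field K] [CharP K 2] [Finite K]

namespace LB

theorem rt_self : ∀ i, rt i i = 1 := by decide +kernel

theorem rt_mem (i j : Fin 4) : rt i j ∈ alternatingGroup (Fin 8) := by
  by_cases e : i = j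
  · rw [e, rt_self]; exact one_mem _
  · obtain ⟨p, q, h⟩ := sp_rt e
    exact h.mem.1

end LB

open LB

theorem rt_gen : closure {p : Perm (Fin 8) | ∃ i j, p = rt i j} = alternatingGroup (Fin 8) := by
  refine le_antisymm ((closure_le _).2 (by rintro _ ⟨i, j, rfl⟩; exact rt_mem i j)) ?_
  have m : ∀ i j, rt i j ∈ closure {p : Perm (Fin 8) | ∃ i j, p = rt i j} := fun i j => subset_closure ⟨i, j, rfl⟩
  generalize closure {p : Perm (Fin 8) | ∃ i j, p = rt i j} = H at m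
  have e : cyc3 0 1 2 = rt 0 1 * rt 1 0 * rt 3 2 * rt 2 3 := by decide +kernel
  obtain ⟨r1, r2⟩ := PA.rel (A0 := H) (a := 0) (b := 1) (c := 2) (by decide) (by decide) (by decide)
    (e ▸ mul_mem (mul_mem (mul_mem (m ..) (m ..)) (m ..)) (m ..))
  have r3 : Rel3 H 0 3 := r1.trans (PA.mvr r2 (m 0 2) (by decide +kernel) (by decide +kernel))
  have r7 : Rel3 H 0 7 := r2.trans (PA.mvr r1 (m 2 0) (by decide +kernel) (by decide +kernel)).symm
  have r4 : Rel3 H 0 4 := r7.trans (PA.mvr r3 (m 0 1) (by decide +kernel) (by decide +kernel)).symm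
  have r5 : Rel3 H 0 5 := r4.trans (PA.mvr r2 (m 0 1) (by decide +kernel) (by decide +kernel))
  have r6 : Rel3 H 0 6 := r4.trans (PA.mvr r1 (m 0 1) (by decide +kernel) (by decide +kernel))
  refine PA.full (x := 0) fun y => ?_
  fin_cases y
  exacts [.inl rfl, r1, r2, r3, r4, r5, r6, r7]

namespace LB

theorem y_one (i j : Fin 4) : yr ι8 Z8 i j 1 = ev ι8 (rt i j) := by
  by_cases e : i = j
  · rw [yr, if_pos e, e, rt_self, ev_one]
  · rw [yr, if_neg e]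
    exact (congrArg _ (pow_zero _)).trans ((mul_one _).trans (pow_one _))

theorem y_om {i j : Fin 4} (e : i ≠ j) : yr ι8 Z8 i j ⟨0, 1⟩ = Gm Z8 (rt i j) := by
  simp [yr, e, ZMod.val_one]

/-- the group generated by the root elements -/
def LL (ι : alternatingGroup (Fin 8) →* G) (Z : Perm (Fin 8) → G) : Subgroup G :=
  closure {g | ∃ i j a, g = yr ι Z i j a}

theorem y_mem (i j a) : yr ι8 Z8 i j a ∈ LL ι8 Z8 := subset_closure ⟨i, j, a, rfl⟩

theorem A_le : ι8.range ≤ LL ι8 Z8 := fun a ha => by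
  obtain ⟨p, hp, rfl⟩ := mem_range_iff.1 ha
  have : alternatingGroup (Fin 8) ≤ pre ι8 (LL ι8 Z8) := by
    rw [← rt_gen, closure_le]
    rintro _ ⟨i, j, rfl⟩
    exact ⟨rt_mem i j, y_one (ι8 := ι8) (Z8 := Z8) i j ▸ y_mem _ _ _⟩
  exact (this hp).2

theorem Z_mem (hz : Zt ι8 t Z8) {p : Perm (Fin 8)} (hp : Dt p) : Z8 p ∈ LL ι8 Z8 := by
  have h := (hz.gm_V (swap 2 3 * swap 5 6 : Perm (Fin 8)).toEmbedding).2
  have d : Dt (dE (swap 2 3 * swap 5 6 : Perm (Fin 8)).toEmbedding 0 3 1 2) := dE_dt _ (by constructor <;> decide)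
  rw [show dE (swap 2 3 * swap 5 6 : Perm (Fin 8)).toEmbedding 0 1 2 3 *
      dE (swap 2 3 * swap 5 6 : Perm (Fin 8)).toEmbedding 4 5 6 7 = rt 0 2 by decide +kernel,
    show dE (swap 2 3 * swap 5 6 : Perm (Fin 8)).toEmbedding 0 2 1 3 *
      dE (swap 2 3 * swap 5 6 : Perm (Fin 8)).toEmbedding 4 5 6 7 = rt 1 3 by decide +kernel,
    ← y_om (ι8 := ι8) (by decide), ← y_om (ι8 := ι8) (by decide)] at h
  obtain ⟨π, hπ, rfl⟩ := Dt.trans (by simp) d hp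
  rw [← hz.yt.eqv π hπ _ d, ← h]
  exact mul_mem (mul_mem (A_le (ev_mem _)) (mul_mem (y_mem _ _ _) (y_mem _ _ _))) (inv_mem (A_le (ev_mem _)))

theorem gen (hz : Zt ι8 t Z8) (h1 : ι8.range ≤ X) (h2 : ∀ p, Dt p → Z8 p ∈ X) : LL ι8 Z8 ≤ X := by
  refine (closure_le _).2 ?_
  rintro _ ⟨i, j, a, rfl⟩
  by_cases e : i = j
  · rw [yr, if_pos e]; exact one_mem _
  obtain ⟨p, q, h⟩ := sp_rt e
  rw [yr, if_neg e, hz.gm_eq h]
  exact mul_mem (pow_mem (h1 (ev_mem _)) _) (pow_mem (mul_mem (h2 p h.dp) (h2 q h.dq)) _)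

theorem C_le (h : YG ι8 t Z8) (hz : Zt ι8 t Z8) : C1 t ≤ 𝐍[LL ι8 Z8] := fun g hg => by
  have gt : g * t = t * g := mem_C1.1 hg
  obtain ⟨σ, hσ⟩ := h.cf.reg g gt
  refine mem_norm_of_cj_le (map_le_iff_le_comap.2 (gen hz (fun a ha => ?_) fun p hp => ?_))
  · exact A_le (conj_mem_of_norm hσ.norm ha)
  · change g * Z8 p * g⁻¹ ∈ LL ι8 Z8
    rcases h.uq gt hσ hp with k | k <;> rw [k]
    · exact Z_mem hz (hp.conj σ)
    · exact mul_mem (Z_mem hz (hp.conj σ)) (A_le (ev_mem _))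

theorem third : ∀ i j : Fin 4, ∃ p, p ≠ i ∧ p ≠ j := by decide

theorem le_normal (hs : SLm.StR (n := 3) (yr ι8 Z8)) (hX : X.Normal) (hL : ι8.range ≤ X) : LL ι8 Z8 ≤ X := by
  refine (closure_le _).2 ?_
  rintro _ ⟨i, j, k, rfl⟩
  by_cases e : i = j
  · rw [e, hs.self]; exact one_mem _
  obtain ⟨p, p1, p2⟩ := third i j
  have h : yr ι8 Z8 p j 1 ∈ X := y_one (ι8 := ι8) (Z8 := Z8) p j ▸ hL (ev_mem _)
  rw [← mul_one k, ← hs.c3 (Ne.symm p1) p2 e]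
  exact mul_mem (hX.conj_mem _ h _) (inv_mem h)

theorem fd (hz : Zt ι8 t Z8) (hs : SLm.StR (n := 3) (yr ι8 Z8)) (i j : Fin 4) (a : SLm.Kq (1 : ZMod 2)) :
    t * yr ι8 Z8 i j a * t⁻¹ = yr ι8 Z8 i j (star a) := by
  rw [SLm.FE0.star_eq, hs.add]
  by_cases e : i = j
  · simp [yr, e]
  obtain ⟨p, q, h⟩ := sp_rt e
  have c1 : Commute (ev ι8 (rt i j)) (Gm Z8 (rt i j)) := by
    have := hz.gm_eqv h h.mem.1
    rw [mul_inv_cancel_right] at this
    exact mul_inv_eq_iff_eq_mul.1 this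
  have c2 : t * ev ι8 (rt i j) * t⁻¹ = ev ι8 (rt i j) := by rw [← hz.yt.tc, mul_inv_cancel_right]
  simp only [yr, if_neg e]
  rw [← conj_mul, ← conj_pow, ← conj_pow, c2, (hz.gm_ph h).2, c1.mul_pow]
  simp only [QuadraticAlgebra.algebraMap_re, QuadraticAlgebra.algebraMap_im, ZMod.val_zero, pow_zero, mul_one,
    ← mul_assoc, ← pow_add, add_comm]

theorem tA (hz : Zt ι8 t Z8) (a : G) (ha : a ∈ ι8.range) (h2 : a * a = 1) : IsConj t (a * t) := by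
  obtain ⟨p, hp, rfl⟩ := mem_range_iff.1 ha
  rw [← ev_mul hp hp] at h2
  obtain ⟨k, hk⟩ := tp_exists (ev_eq_one hz.yt.inj (mul_mem hp hp) h2)
  have h1 := hk.le
  have h3 := Nat.even_iff.1 (hk.even_iff.1 hp)
  rw [Fintype.card_fin] at h1
  rw [hz.yt.tc]
  obtain rfl | rfl | rfl : k = 0 ∨ k = 2 ∨ k = 4 := by omega
  · rw [tp_zero.1 hk, ev_one, mul_one]
  · exact isConj_iff.2 ⟨_, hz.yt.ph p (tp_two.1 hk)⟩
  · obtain ⟨q, r, h⟩ := sp_of_tp hk
    exact isConj_iff.2 ⟨_, (hz.gm_ph h).1⟩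

end LB

theorem YG.l4 (h : YG ι8 t Z8) (hz : Zt ι8 t Z8) (h1 : EA1 ι8 Z8) :
    ∃ (K : Type) (_ : Field K) (_ : CharP K 2) (_ : Finite K), Nonempty (L4 ι8 t K) := by
  have : Fact (∀ r : ZMod 2, r ^ 2 ≠ 1 + 1 * r) := ⟨by decide⟩
  have hc : Nat.card (SLm.Kq (1 : ZMod 2)) = 4 := by
    rw [Nat.card_congr (QuadraticAlgebra.equivProd (1 : ZMod 2) 1), Nat.card_prod, Nat.card_zmod]
  have hs := hz.str h1
  obtain ⟨f, hf⟩ := SLm.StR.exists_fr (F := SLm.Kq (1 : ZMod 2)) (n := 3) (by norm_num) (fun e => by omega) hs (by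
    rw [y_one]
    obtain ⟨p, q, k⟩ := sp_rt (i := 0) (j := SLm.lst 3) (by decide)
    exact fun e => k.mem.2.2 (ev_eq_one hz.yt.inj k.mem.1 e))
  have hL : f.L = LL ι8 Z8 := by rw [← f.gen, hf]; rfl
  refine ⟨SLm.Kq (1 : ZMod 2), inferInstance, inferInstance, inferInstance, ⟨⟨f, starRingAut,
    QuadraticAlgebra.omega, ?_, ?_, hc, fun i j a => by rw [hf, fd hz hs]; rfl, hL ▸ C_le h hz, hL ▸ A_le,
    fun X hX k => hL ▸ le_normal hs hX k, tA hz⟩⟩⟩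
  · ext a : 1
    exact star_star a
  · change _ + Star.star _ = _
    ext <;> simp <;> rfl

end Cfsg.Agent.SAq
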