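import Mathlib
import Cfsg.Agent.SAq.LC
import Cfsg.Agent.SLm.FE2
import Cfsg.Agent.S1769

/-! Identification of `L₄(4)` (port of `SLm/FE2`). See `stubs/Cfsg/Agent/SAq/PLAN4.md`. -/

set_option autoImplicit false
set_option linter.unusedSectionVars false

namespace Cfsg.Agent.SAq

open Cfsg Cfsg.Agent.GT Cfsg.Agent.Loc.Mss Cfsg.Agent.Sym Cfsg.Agent.Loc.SO Cfsg.Agent.SAn Subgroup Equiv
open Cfsg.Agent.StdB (C1 mem_C1)
open scoped commutatorElement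

universe u

variable {α : Type} [Fintype α] [DecidableEq α] {G : Type u} [Group G] [Finite G]
  {ι : alternatingGroup α →* G} {ι8 : alternatingGroup (Fin 8) →* G} {X : Subgroup G} {t g v : G}
  {Z : Perm α → G} {Z8 : Perm (Fin 8) → G} {E p q r : Perm α}
  {K : Type} [Field K] [CharP K 2] [Finite K]

open Cfsg.Agent.Cl.Aut (C2 c2gen)

namespace LD

variable (d : L4 ι t K)

theorem θL {g : G} (h : g ∈ d.f.L) : d.f.θ g = 1 := SLm.Fr.θ_In (mem_sup_left h)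

theorem syl_of (h : Cf ι t) (h8 : Fintype.card α = 8) {M P : Subgroup G} (k : Syl 2 P (𝐍[d.f.L] ⊓ M)) (ht : t ∈ P) : Syl 2 P M :=
  Syl.of_norm k.pg (k.le.trans inf_le_right) fun _ hP h1 h2 h3 =>
    k.ge_of_le hP h1 (le_inf (fun _ hp => d.uf h h8 (k.le (conj_mem_of_norm (h3 hp) ht)).1) h2)

theorem t_notMem (h : Cf ι t) (h8 : Fintype.card α = 8) {S : Subgroup G} (hS : Syl 2 S 𝐍[d.f.L]) (ht : t ∈ S) : t ∉ ⁅(⊤ : Subgroup G), (⊤ : Subgroup G)⁆ := fun hd => by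
  let ψ : 𝐍[d.f.L] →* RingAut K := MonoidHom.mk' (fun g => (d.f.θ g).1) fun a b => by
    rw [coe_mul, SLm.Fr.θ_mul a.2 b.2, Prod.fst_mul]
  have hA : ∀ {g}, g ∈ ψ.ker.map (𝐍[d.f.L]).subtype ↔ g ∈ 𝐍[d.f.L] ∧ (d.f.θ g).1 = 1 :=
    ⟨by rintro ⟨g, hg, rfl⟩; exact ⟨g.2, hg⟩, fun h => ⟨⟨_, h.1⟩, h.2, rfl⟩⟩
  have := Cl.Aut.isCyclic_ringAut (F := K)
  obtain ⟨⟨_, e, he, rfl⟩, hg⟩ := IsCyclic.exists_generator (α := (S.subgroupOf 𝐍[d.f.L]).map ψ)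
  obtain ⟨g, -, h1, -⟩ := StdB.transfer_cyc (E := ⊥) (A := ψ.ker.map (𝐍[d.f.L]).subtype) (syl_of d h h8 (by rwa [inf_top_eq]) ht)
    (fun s hs => mem_norm_of_cj_le (cj_le_iff.2 fun a ha => hA.2 ⟨mul_mem (mul_mem (hS.le hs) (hA.1 ha).1) (inv_mem (hS.le hs)), by
      rw [SLm.Fr.θ_conj (hA.1 ha).1 (hS.le hs), (hA.1 ha).2]⟩)) he (fun s hs => by
      obtain ⟨k, hk⟩ := hg ⟨_, ⟨s, hS.le hs⟩, hs, rfl⟩
      have hk' : ψ e ^ k = ψ ⟨s, hS.le hs⟩ := congrArg Subtype.val hk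
      rw [← mul_inv_cancel_right s (e.1 ^ k)⁻¹]
      refine mul_mem (mem_sup_left ⟨⟨s, hS.le hs⟩ * (e ^ k)⁻¹, ?_, rfl⟩) (mem_sup_right (inv_mem (inv_mem (zpow_mem_zpowers _ _))))
      rw [SetLike.mem_coe, MonoidHom.mem_ker, map_mul, map_inv, map_zpow, hk', mul_inv_cancel]) hd h.iv.1 IsPGroup.of_bot bot_le
  have h2 := (hA.1 h1).2
  rw [SLm.Fr.θ_conj (hS.le ht) (d.uf h h8 (hA.1 h1).1), d.θt] at h2
  exact d.σ_ne h2

theorem card_R : 16 ≤ Nat.card (d.f.R 0) := by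
  rw [SLm.Fr.card_R, d.card]
  norm_num

theorem exists_even (h8 : Fintype.card α = 8) (σ : Perm α) :
    ∃ p ∈ alternatingGroup α, p * σ * (p * σ) = 1 := by
  by_cases h : σ ∈ alternatingGroup α
  · exact ⟨σ⁻¹, inv_mem h, by simp⟩
  · have : Nontrivial α := Fintype.one_lt_card_iff_nontrivial.1 (by omega)
    obtain ⟨x, y, hxy⟩ := exists_pair_ne α
    refine ⟨swap x y * σ⁻¹, ?_, by simp⟩
    rw [Perm.mem_alternatingGroup] at h ⊢
    rw [map_mul, Perm.sign_swap hxy, Perm.sign_inv, (Int.units_eq_one_or _).resolve_left h]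
    rfl

theorem inf_eq (h : Cf ι t) (h8 : Fintype.card α = 8) [X.Normal] [IsSimpleGroup X] (hL : ι.range ≤ X) : Syl 2 d.f.U X := by
  obtain ⟨S, hS, hU, ht, -, h0⟩ := d.exists_S h
  have hLX := d.le X inferInstance hL
  have hUX := d.f.U_le.trans hLX
  have htX : t ∉ X := fun hm => t_notMem d h h8 hS ht (by
    rcases (inferInstance : (⁅(⊤ : Subgroup G), (⊤ : Subgroup G)⁆.subgroupOf X).Normal).eq_bot_or_eq_top with e | e
    · have : (⟨d.f.z, hLX d.f.z_mem⟩ : X) ∈ ⁅(⊤ : Subgroup G), (⊤ : Subgroup G)⁆.subgroupOf X :=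
        commutator_mono le_top le_top (SLm.Fr.x_mem_der (f := d.f) 0 (SLm.lst 3) 1)
      rw [e, mem_bot] at this
      exact absurd (congrArg Subtype.val this) SLm.Fr.z_ne
    · exact subgroupOf_eq_top.1 e hm)
  have h5 := (syl_of d h h8 (M := ⊤) (by rwa [inf_top_eq]) ht).inf (M := X) le_top le_normalizer_of_normal
  refine le_antisymm (fun s hs => by_contra fun hsU => ?_) (le_inf hU hUX) ▸ h5
  have σσ : (d.σ, (1 : C2)) * (d.σ, 1) = 1 := Prod.ext d.σ2 (mul_one 1)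
  have A : ∀ y ∈ S ⊓ X, (d.f.θ y).2 = 1 → y ∈ d.f.U := fun y hy e => by
    obtain ⟨k, hk⟩ := pg_iff.1 hS.pg y hy.1
    refine h0 y hy.1 ?_
    induction k generalizing y with
    | zero => rw [pow_zero, pow_one] at hk; exact θL d (hk ▸ one_mem _)
    | succ k ih =>
      have m := SLm.Fr.θ_mul (hS.le hy.1) (hS.le hy.1)
      have h1 := ih (y * y) (mul_mem hy hy) (by rw [m, Prod.snd_mul, e, mul_one]) (by rwa [← pow_two, ← pow_mul, ← pow_succ'])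
      refine Prod.ext (by_contra fun h2 => htX ((X.mul_mem_cancel_left hy.2).1 (hUX (h0 _ (mul_mem hy.1 ht) ?_)))) e
      rw [SLm.Fr.θ_mul (hS.le hy.1) (hS.le ht), d.θt, ← σσ]
      congr 1
      exact Prod.ext (SLm.Fr.ringAut_inv_unique (congrArg Prod.fst (m.symm.trans h1)) d.σ2 h2 d.σ_ne) e
  have hs2 : (d.f.θ s).2 = c2gen := (Cl.Aut.c2_cases _).resolve_left fun e => hsU (A s hs e)
  have hi : d.f.U.relIndex (S ⊓ X) = 2 := relIndex_eq_two_iff.2 ⟨s, hs, fun b hb => by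
    rcases Cl.Aut.c2_cases (d.f.θ b).2 with e | e
    · exact .inr ⟨A b hb e, fun h => hsU ((mul_mem_cancel_left (A b hb e)).1 h)⟩
    · exact .inl ⟨A _ (mul_mem hb hs) (by rw [SLm.Fr.θ_mul (hS.le hb.1) (hS.le hs.1), Prod.snd_mul, e, hs2]; decide),
        fun h => Cl.Aut.c2gen_ne_one (by rw [← e, θL d (d.f.U_le h), Prod.snd_one])⟩⟩
  have hst : s * t * s⁻¹ ∈ S := S.mul_mem (S.mul_mem hs.1 ht) (S.inv_mem hs.1)
  have e1 : s * t * s⁻¹ * t * t = s * t * s⁻¹ := by rw [mul_assoc, h.iv.1, mul_one]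
  obtain ⟨w, hw, e2⟩ := d.fd.free h.iv.1 d.hη (h0 _ (mul_mem hst ht) (by
    rw [SLm.Fr.θ_mul (hS.le hst) (hS.le ht), SLm.Fr.θ_conj (hS.le ht) (hS.le hs.1), d.θt, σσ]))
    (by rw [e1, conj_mul, h.iv.1, mul_one, mul_inv_cancel])
  have hs' : w⁻¹ * s ∈ S ⊓ X := mul_mem (inv_mem ⟨hU hw, hUX hw⟩) hs
  have hC : w⁻¹ * s ∈ C1 t := mem_C1.2 (by
    rw [e1] at e2
    calc w⁻¹ * s * t = w⁻¹ * (s * t * s⁻¹) * s := by group
      _ = _ := by rw [e2]; group)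
  have hθ : (d.f.θ (w⁻¹ * s)).2 = c2gen := by
    rw [SLm.Fr.θ_mul (hS.le (hU (inv_mem hw))) (hS.le hs.1), θL d (d.f.U_le (inv_mem hw)), one_mul, hs2]
  generalize w⁻¹ * s = s' at hs' hC hθ
  obtain ⟨σ, hσ⟩ := h.reg s' (mem_C1.1 hC)
  obtain ⟨p, hp, hpσ⟩ := exists_even h8 σ
  have h1 : Act ι (ev ι p * s' * (ev ι p * s')) 1 := hpσ ▸ ((act_ev hp).mul hσ).mul ((act_ev hp).mul hσ)
  have hl := ev_mem (ι := ι) p
  have hlC : ev ι p ∈ C1 t := mem_C1.2 (h.cw.comm_ev p)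
  generalize ev ι p = l at h1 hl hlC
  obtain ⟨m, hm, a, e3⟩ := Bas.exists_odd_pow (l * s')
  have hlH : l ∈ 𝐍[d.f.L] := le_normalizer (d.A_le hl)
  have k1 : (l * s') ^ m ∈ C1 t := pow_mem (mul_mem hlC hC) _
  have k2 : (l * s') ^ m ∈ X := pow_mem (mul_mem (hL hl) hs'.2) _
  have k3 : (d.f.θ ((l * s') ^ m)).2 = c2gen := by
    obtain ⟨j, hj⟩ := hm
    rw [SLm.Fr.θ_pow (mul_mem hlH (hS.le hs'.1)), SLm.Fr.θ_mul hlH (hS.le hs'.1), θL d (d.A_le hl), one_mul, Prod.pow_snd, hθ, hj,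
      pow_succ, pow_mul, show c2gen ^ 2 = 1 by decide, one_pow, one_mul]
  have k4 : (l * s') ^ m * (l * s') ^ m = 1 :=
    (h.ker _ (mem_C1.1 (mul_mem k1 k1)) (by
      have := h1.pow m
      rwa [one_pow, (Commute.refl _).mul_pow] at this) ⟨a, by
      rw [(Commute.refl _).mul_pow, e3, one_mul]⟩).resolve_right fun e => htX (e ▸ mul_mem k2 k2)
  generalize (l * s') ^ m = s2 at k1 k2 k3 k4
  obtain ⟨Y, -, hn, h2, -⟩ := StdB.transfer_two h5 hi k2 k4 fun g _ hg => by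
    obtain ⟨k, hk, l, -, e⟩ := SLm.Fr.invNF (d.f.U_le hg) (by rw [conj_mul, k4, mul_one, mul_inv_cancel])
    obtain ⟨P, hP, hP'⟩ := Syl.exists_ge (StdB.pg_zpowers h.iv.1) (L := 𝐍[d.f.L] ⊓ (⊤ ⊓ C1 (d.f.uk k hk)))
      (zpowers_le.2 ⟨hS.le ht, mem_top _, mem_C1.2 (d.fd.der d.hη k hk).1.eq.symm⟩)
    obtain ⟨g', -, e4, h3⟩ := StdB.extremal (syl_of d h h8 hP' (hP (mem_zpowers _))) (mem_top (l⁻¹ * g)) (u := s2)
      (by rw [show l⁻¹ * g * s2 * (l⁻¹ * g)⁻¹ = l⁻¹ * (g * s2 * g⁻¹) * l by group, e]; group)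
      (StdB.pg_zpowers h.iv.1) (zpowers_le.2 ⟨mem_top _, mem_C1.2 (mem_C1.1 k1).symm⟩)
    have h4 := SLm.Fr.θ_conj (d.C_le k1) (d.uf h h8 (hP'.le (h3 (conj_mem_cj (mem_zpowers _)))).1)
    rw [e4, θL d (d.f.uk_mem ..)] at h4
    exact Cl.Aut.c2gen_ne_one (by rw [← k3, ← h4, Prod.snd_one])
  have : (Y.subgroupOf X).Normal := ⟨fun a ha g => conj_mem_of_norm (A := Y) (hn g.2) ha⟩
  rcases this.eq_bot_or_eq_top with e | e <;> rw [relIndex, e] at h2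
  · have := (card_R d).trans (card_le_of_le ((d.f.R_le 0).trans hLX))
    rw [index_bot] at h2
    omega
  · simp at h2

end LD

theorem L4.psl (d : L4 ι t K) (h : Cf ι t) (h8 : Fintype.card α = 8) [X.Normal] [IsSimpleGroup X]
    (hA : ι.range ≤ X) : Nonempty (X ≃* Matrix.ProjectiveSpecialLinearGroup (Fin 4) K) := by
  have h := LD.inf_eq d h h8 hA
  obtain ⟨P, hP, -⟩ := h.exists_sylow
  let f : SLm.Fr (Matrix.ProjectiveSpecialLinearGroup (SLm.Ix 3) K) 3 K :=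
    ⟨QuotientGroup.mk' _, (QuotientGroup.ker_mk' _).le, d.f.h2, d.f.h4⟩
  obtain ⟨P', hP'⟩ := (show Syl 2 f.U ⊤ from
    (show f.L = ⊤ from MonoidHom.range_eq_top.2 (QuotientGroup.mk'_surjective _)) ▸ f.syl).exists_sylow_top
  obtain ⟨e⟩ := d.f.nonempty_U
  obtain ⟨e'⟩ := f.nonempty_U
  have hR := (d.f.R_le 0).trans (d.le X inferInstance hA)
  have := Fintype.ofFinite K
  refine S1769.result (fun h3 => ?_) 2 le_rfl (Nat.card_eq_fintype_card.symm.trans d.card) (3 + 1) (by norm_num) P P'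
    ⟨(MulEquiv.subgroupCongr hP).trans ((subgroupOfEquivOfLe h.le).trans (e.trans (e'.symm.trans (MulEquiv.subgroupCongr hP'.symm))))⟩
  have h1 := h3 ((d.f.R 0).subgroupOf X) ⟨⟨fun a b => Subtype.ext (Subtype.ext (mem_cent.1 (SLm.BasB.R_ab 0 b.2) _ a.2))⟩⟩
    fun a ha => Subtype.ext (by rw [coe_pow, pow_two]; exact SLm.Fr.R_sq ha)
  rw [Nat.card_congr (subgroupOfEquivOfLe hR).toEquiv] at h1
  have := LD.card_R d
  omega

end Cfsg.Agent.SAq
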