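import Mathlib
import Cfsg.Agent.SAq.Defs
import Cfsg.Agent.SAn.TopA
import Cfsg.Agent.GT.PComponents
import Cfsg.Agent.Blk.ZStar
import Cfsg.Agent.KFI.Defs
import Cfsg.Agent.S0205

/-! The B-property and the Z*-theorem. See `stubs/Cfsg/Agent/SAq/PLAN.md`. -/

set_option autoImplicit false
set_option linter.unusedSectionVars false

namespace Cfsg.Agent.SAq

open Cfsg Cfsg.Agent.GT Cfsg.Agent.Loc.Mss Cfsg.Agent.Sym Cfsg.Agent.Loc.SO Cfsg.Agent.SAn Subgroup Equiv
open Cfsg.Agent.StdB (C1 mem_C1)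
open scoped commutatorElement

namespace BP

variable {A B : Type*} [Group A] [Group B]

/-- An isomorphism restricts to centralizers. -/
def cEquiv (e : A ≃* B) (s : A) : C1 s ≃* C1 (e s) where
  toFun x := ⟨e x, by rw [mem_C1, ← map_mul, mem_C1.1 x.2, map_mul]⟩
  invFun y := ⟨e.symm y, by
    rw [mem_C1]
    apply e.injective
    rw [map_mul, map_mul, e.apply_symm_apply, mem_C1.1 y.2]⟩
  left_inv x := Subtype.ext (e.symm_apply_apply x)
  right_inv y := Subtype.ext (e.apply_symm_apply y)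
  map_mul' x y := Subtype.ext (map_mul e (x : A) y)

theorem hasB_equiv (e : A ≃* B) (h : HasBProperty A) : HasBProperty B := by
  intro t ht
  obtain ⟨s, rfl⟩ := e.surjective t
  have hs : orderOf s = 2 := by rw [← ht, MulEquiv.orderOf_eq]
  have h1 := h s hs
  rw [← map_pLayer_equiv (p := 2) (cEquiv e s), oddCore, ← map_pPrimeCore_equiv (p := 2) (cEquiv e s),
    ← map_commutator, oddCore, ← map_pPrimeCore_equiv (p := 2) e]
  rintro _ ⟨_, ⟨x, hx, rfl⟩, rfl⟩
  exact ⟨x, h1 ⟨x, hx, rfl⟩, rfl⟩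

theorem hasB_of_surj (h : HasStrongBProperty A) (H : Subgroup A) {f : H →* B}
    (hf : Function.Surjective f) : HasBProperty B :=
  hasB_equiv (QuotientGroup.quotientKerEquivOfSurjective f hf) (h H f.ker)

theorem eq_bot_of_perfect [Finite A] {P : Subgroup A} (hp : ⁅P, P⁆ = P) (ho : Odd (Nat.card P)) : P = ⊥ := by
  have hs : Group.IsSolvable P := S0205.result ho
  by_contra hne
  have := (Subgroup.nontrivial_iff_ne_bot P).2 hne
  have h1 : commutator P < ⊤ := Group.IsSolvable.commutator_lt_top_of_nontrivial P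
  apply h1.ne
  apply map_injective P.subtype_injective
  rw [commutator_def, map_commutator, ← MonoidHom.range_eq_map, range_subtype, hp]

/-- The main step inside the centralizer. -/
theorem cent_aux [Finite A] {L : Subgroup A} (hB : ⁅pLayer 2 A, oddCore A⁆ = ⊥) (hp : ⁅L, L⁆ = L)
    (hq : IsQuasisimple (L.map (QuotientGroup.mk' (oddCore A)))) [hn : (L ⊔ oddCore A).Normal] :
    L ≤ 𝐂[oddCore A] ∧ L.Normal := by
  have hk : (QuotientGroup.mk' (oddCore A)).ker = oddCore A := QuotientGroup.ker_mk' _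
  have h0 : (L ⊔ oddCore A).map (QuotientGroup.mk' (oddCore A)) = L.map (QuotientGroup.mk' (oddCore A)) := by
    rw [Subgroup.map_sup, (Subgroup.map_eq_bot_iff _).2 hk.ge, sup_bot_eq]
  have h1 : (L.map (QuotientGroup.mk' (oddCore A))).Normal :=
    h0 ▸ hn.map _ (QuotientGroup.mk'_surjective _)
  obtain ⟨K, hK, e⟩ := IsComponent.exists_isPComponent (G := A) Nat.prime_two ⟨h1.isSubnormal, hq⟩
  have h2 : K ⊔ oddCore A = L ⊔ oddCore A := by
    have := congrArg (comap (QuotientGroup.mk' (oddCore A))) e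
    rwa [comap_map_eq, comap_map_eq, hk] at this
  have hKn : K.Normal := by
    rw [← normalizer_eq_top_iff, eq_top_iff]
    refine le_trans ?_ (hK.normalizer_sup_le Nat.prime_two)
    change ⊤ ≤ normalizer ((K ⊔ oddCore A : Subgroup A) : Set A)
    rw [h2, normalizer_eq_top_iff.2 hn]
  have hKC : K ≤ 𝐂[oddCore A] := commutator_eq_bot_iff_le_centralizer.1
    (eq_bot_iff.2 ((commutator_mono hK.le_pLayer le_rfl).trans hB.le))
  have hLK : L ≤ K := by
    have h3 : L.map (QuotientGroup.mk' K) ≤ (oddCore A).map (QuotientGroup.mk' K) := by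
      refine (map_mono (le_sup_left.trans h2.ge)).trans ?_
      rw [Subgroup.map_sup, (Subgroup.map_eq_bot_iff K).2 (QuotientGroup.ker_mk' K).ge, bot_sup_eq]
    have h4 : L.map (QuotientGroup.mk' K) = ⊥ := eq_bot_of_perfect (by rw [← map_commutator, hp])
      ((odd_card_oddCore.of_dvd_nat (card_map_dvd _ _)).of_dvd_nat (card_dvd_of_le h3))
    rwa [Subgroup.map_eq_bot_iff, QuotientGroup.ker_mk'] at h4
  have hLC : L ≤ 𝐂[oddCore A] := hLK.trans hKC
  have h5 : L ⊔ oddCore A ≤ normalizer (L : Set A) :=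
    sup_le le_normalizer ((le_centralizer_iff.1 hLC).trans (centralizer_le_normalizer _))
  have h6 : L.IsSubnormal :=
    IsSubnormal.step L (L ⊔ oddCore A) le_sup_left hn.isSubnormal
      ((normal_subgroupOf_iff_le_normalizer le_sup_left).2 h5)
  exact ⟨hLC, hK.eq_of_le_sup h6 hLK (le_sup_left.trans h2.le) ▸ hKn⟩

end BP

variable {α β γ : Type} [Fintype α] [DecidableEq α] [Fintype β] [DecidableEq β] [Fintype γ]
  [DecidableEq γ] {G : Type*} [Group G] [Finite G] {ι κ l : alternatingGroup α →* G}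
  {ψ : Perm β →* G} {X P M L : Subgroup G} {t s u g o : G} {p q σ τ π : Perm α} {k j : ℕ}

theorem hasB_of_strong (h : HasStrongBProperty G) : HasBProperty G :=
  BP.hasB_of_surj h ⊤ (f := (⊤ : Subgroup G).subtype) fun x => ⟨⟨x, mem_top x⟩, rfl⟩

theorem strong_sub (h : HasStrongBProperty G) (H : Subgroup G) : HasStrongBProperty H := by
  intro K N _
  exact BP.hasB_of_surj h (K.map H.subtype)
    (f := (QuotientGroup.mk' N).comp (K.equivMapOfInjective H.subtype H.subtype_injective).symm.toMonoidHom)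
    ((QuotientGroup.mk'_surjective N).comp (MulEquiv.surjective _))

theorem strong_quot (h : HasStrongBProperty G) (N : Subgroup G) [N.Normal] :
    HasStrongBProperty (G ⧸ N) := by
  intro K N' _
  exact BP.hasB_of_surj h (K.comap (QuotientGroup.mk' N))
    (f := (QuotientGroup.mk' N').comp ((QuotientGroup.mk' N).subgroupComap K))
    ((QuotientGroup.mk'_surjective N').comp
      (MonoidHom.subgroupComap_surjective_of_surjective _ _ (QuotientGroup.mk'_surjective N)))

/-- If `L O(C(y))` is normal in `C(y)`, the perfect core of `L O(C(y))` centralizes `O(C(y))`. -/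
theorem cent_of_B {y : G} {O : Subgroup G} (hB : HasBProperty G) (hO : oddCore G = ⊥) (hy : Iv y)
    (hL : L ≤ C1 y) (hp : ⁅L, L⁆ = L) (hOc : O = (oddCore (C1 y)).map (C1 y).subtype)
    (hq : IsQuasisimple ((L.subgroupOf (C1 y)).map (QuotientGroup.mk' (oddCore (C1 y)))))
    (hn : C1 y ≤ 𝐍[L ⊔ O]) : L ≤ 𝐂[O] ∧ C1 y ≤ 𝐍[L] := by
  have hy2 : orderOf y = 2 := orderOf_eq_prime (by rw [pow_two, hy.1]) hy.2
  have h1 : ⁅pLayer 2 (C1 y), oddCore (C1 y)⁆ = ⊥ := by
    have := hB y hy2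
    rwa [hO, le_bot_iff, map_eq_bot_iff_of_injective _ (C1 y).subtype_injective] at this
  have hm : (L.subgroupOf (C1 y)).map (C1 y).subtype = L := map_subgroupOf_eq_of_le hL
  have h2 : ⁅L.subgroupOf (C1 y), L.subgroupOf (C1 y)⁆ = L.subgroupOf (C1 y) := by
    apply map_injective (C1 y).subtype_injective
    rw [map_commutator, hm, hp]
  have h3 : L ⊔ O ≤ C1 y := sup_le hL (hOc ▸ map_subtype_le _)
  have h4 : (L ⊔ O).subgroupOf (C1 y) = L.subgroupOf (C1 y) ⊔ oddCore (C1 y) := by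
    apply map_injective (C1 y).subtype_injective
    rw [map_subgroupOf_eq_of_le h3, Subgroup.map_sup, hm, hOc]
  have h5 : (L.subgroupOf (C1 y) ⊔ oddCore (C1 y)).Normal :=
    h4 ▸ (normal_subgroupOf_iff_le_normalizer h3).2 hn
  obtain ⟨h6, h7⟩ := BP.cent_aux h1 h2 hq
  refine ⟨fun a ha => ?_, (normal_subgroupOf_iff_le_normalizer hL).1 h7⟩
  rw [hOc]
  rintro _ ⟨b, hb, rfl⟩
  exact congrArg Subtype.val (h6 (show (⟨a, hL ha⟩ : C1 y) ∈ L.subgroupOf (C1 y) from ha) b hb)

/-- The Z*-theorem modulo a central involution. -/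
theorem zstar_mod {y : G} (hy : y * y = 1) (hu : u * y = y * u) (h2 : u * u ∈ zpowers y)
    (hi : ∀ g, g * y = y * g → ⁅g * u * g⁻¹, u⁆ ∈ zpowers y → g * u * g⁻¹ * u⁻¹ ∈ zpowers y)
    (hg : g * y = y * g) : ∃ o ∈ (oddCore (C1 y)).map (C1 y).subtype,
      (o * g) * u * (o * g)⁻¹ * u⁻¹ ∈ zpowers y := by
  let Y : Subgroup (C1 y) := (zpowers y).subgroupOf (C1 y)
  have hY : Y ≤ center (C1 y) := fun a ha => by
    obtain ⟨n, hn⟩ := mem_zpowers_iff.1 (mem_subgroupOf.1 ha)
    rw [mem_center_iff]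
    intro b
    apply Subtype.ext
    change (b : G) * a = a * b
    rw [← hn]
    exact (Commute.zpow_right (mem_C1.1 b.2) n).eq
  have : Y.Normal := ⟨fun a ha b => by rwa [mem_center_iff.1 (hY ha) b, mul_inv_cancel_right]⟩
  let f := QuotientGroup.mk' Y
  have hf : ∀ a : C1 y, f a = 1 ↔ (a : G) ∈ zpowers y := fun a => QuotientGroup.eq_one_iff a
  let u' : C1 y := ⟨u, mem_C1.2 hu⟩
  let g' : C1 y := ⟨g, mem_C1.2 hg⟩
  have hs : f u' * f u' = 1 := by rw [← map_mul]; exact (hf _).2 h2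
  have ht : f g' * f u' * (f g')⁻¹ * (f g' * f u' * (f g')⁻¹) = 1 := by
    rw [conj_mul, hs, mul_one, mul_inv_cancel]
  have hO : f g' * f u' * (f g')⁻¹ * f u' ∈ oddCore (C1 y ⧸ Y) := by
    by_cases h1 : f u' = 1
    · rw [h1, mul_one, mul_one, mul_inv_cancel]; exact one_mem _
    have hz : IsIsolatedInvolution (f u') := by
      refine ⟨orderOf_eq_prime (by rw [pow_two, hs]) h1, fun b hb => ?_⟩
      obtain ⟨c, rfl⟩ := QuotientGroup.mk'_surjective Y b
      have h3 : f ⁅c * u' * c⁻¹, u'⁆ = 1 := by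
        rw [map_commutatorElement, map_mul, map_mul, map_inv, commutatorElement_eq_one_iff_commute]
        exact hb.symm
      have h4 := (hf (c * u' * c⁻¹ * u'⁻¹)).2 (hi c (mem_C1.1 c.2) ((hf _).1 h3))
      rwa [map_mul, map_mul, map_mul, map_inv, map_inv, mul_inv_eq_one] at h4
    have h5 := inv_mem (hz.commutator_mem_oddCore (f g'))
    have h6 : (f u')⁻¹ = f u' := inv_eq_of_mul_eq_one_right hs
    rwa [show (f u' * f g' * (f u')⁻¹ * (f g')⁻¹)⁻¹ = f g' * f u' * (f g')⁻¹ * (f u')⁻¹ by group, h6] at h5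
  obtain ⟨j, hj, e⟩ := conj_of_odd ht hs (odd_card_oddCore.of_dvd_nat (orderOf_dvd_natCard _ hO))
  obtain ⟨o, ho, rfl⟩ := KFI.oddCore_le_map (QuotientGroup.mk'_surjective Y)
    ((QuotientGroup.ker_mk' Y).le.trans hY) ((zpowers_le.2 hO) hj)
  refine ⟨o, ⟨o, ho, rfl⟩, (hf (o * g' * u' * (o * g')⁻¹ * u'⁻¹)).1 ?_⟩
  rw [map_mul, map_mul, map_mul, map_inv, map_inv, map_mul, mul_inv_eq_one]
  exact Eq.trans (by simp only [f]; group) e

end Cfsg.Agent.SAq
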