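import Mathlib
import Cfsg.Agent.SAq.Bas

/-! No even neighbours. See `stubs/Cfsg/Agent/SAq/PLAN.md`. -/

set_option autoImplicit false
set_option linter.unusedSectionVars false

namespace Cfsg.Agent.SAq

open Cfsg Cfsg.Agent.GT Cfsg.Agent.Loc.Mss Cfsg.Agent.Sym Cfsg.Agent.Loc.SO Cfsg.Agent.SAn Subgroup Equiv
open Cfsg.Agent.StdB (C1 mem_C1)
open scoped commutatorElement

variable {α β γ : Type} [Fintype α] [DecidableEq α] [Fintype β] [DecidableEq β] [Fintype γ]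
  [DecidableEq γ] {G : Type*} [Group G] [Finite G] {ι κ l : alternatingGroup α →* G}
  {ψ : Perm β →* G} {X P M L : Subgroup G} {t s u g o : G} {p q σ τ π : Perm α} {k j : ℕ}

namespace Odd3

theorem mem (hq : q ∈ alternatingGroup α) (hp : σ⁻¹ * q * σ * q⁻¹ = p) : p ∈ alternatingGroup α :=
  hp ▸ mul_mem (conj_mem_alt hq σ⁻¹) (inv_mem hq)

theorem conj (ha : Act ι u σ) (hq : q ∈ alternatingGroup α) (hp : σ⁻¹ * q * σ * q⁻¹ = p) :
    ev ι q * u * (ev ι q)⁻¹ = u * ev ι p := by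
  rw [← hp, ← inv_inv σ, inv_inv σ⁻¹, ev_mul (conj_mem_alt hq σ⁻¹) (inv_mem hq), ← ha.inv q hq, ev_inv hq]
  group

theorem nb (h : Cw ι t) (ha : Act ι u σ) (hq : q ∈ alternatingGroup α) (hp : σ⁻¹ * q * σ * q⁻¹ = p)
    (h1 : p ≠ 1) (hc : σ * p = p * σ) :
    IsConj u (u * ev ι p) ∧ u * ev ι p * u = u * (u * ev ι p) ∧ u * ev ι p ≠ u :=
  ⟨isConj_iff.2 ⟨_, conj ha hq hp⟩, by rw [mul_assoc, (ha.comm_iff h.inj (mem hq hp)).2 hc],
    fun e => h1 (ev_eq_one h.inj (mem hq hp) (mul_eq_left.1 e))⟩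

theorem odd (h : Cw κ u) (he : Ev0 κ u) (hs : IsConj u s) (hc : s * u = u * s) (hne : s ≠ u) :
    ∃ τ ∉ alternatingGroup α, Act κ s τ :=
  let ⟨τ, hτ⟩ := h.reg s hc
  ⟨τ, fun e => hne (he s τ hs hc hτ e), hτ⟩

theorem mul_odd (h : σ ∉ alternatingGroup α) (h' : τ ∉ alternatingGroup α) : σ * τ ∈ alternatingGroup α := by
  rw [Perm.mem_alternatingGroup] at h h' ⊢
  rw [map_mul, (Int.units_eq_one_or _).resolve_left h, (Int.units_eq_one_or _).resolve_left h']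
  rfl

theorem conjΦ (f : β ↪ α) {ν : Perm β} (hν : ∀ i, σ (f i) = f (ν i)) (μ : Perm β) :
    σ⁻¹ * Perm.viaEmbeddingHom f μ * σ = Perm.viaEmbeddingHom f (ν⁻¹ * μ * ν) := by
  ext x
  rw [Perm.mul_apply, Perm.mul_apply, Perm.inv_eq_iff_eq, Perm.viaEmbeddingHom_apply, Perm.viaEmbeddingHom_apply]
  by_cases hx : x ∈ Set.range f
  · obtain ⟨i, rfl⟩ := hx
    simp [hν, Perm.viaEmbedding_apply]
  · rw [Perm.viaEmbedding_apply_of_notMem _ _ _ hx, Perm.viaEmbedding_apply_of_notMem]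
    rintro ⟨i, e⟩
    exact hx ⟨ν⁻¹ i, σ.injective (by simpa [hν] using e)⟩

theorem memΦ (f : β ↪ α) {μ : Perm β} (h : μ ∈ alternatingGroup β) :
    Perm.viaEmbeddingHom f μ ∈ alternatingGroup α := by
  classical
  rw [Perm.mem_alternatingGroup, Perm.viaEmbeddingHom_apply, Perm.viaEmbedding, Perm.sign_extendDomain]
  exact h

/-- `ν` and its conjugate under `a` are different and commute. -/
abbrev Gd (ν a : Perm β) : Prop :=
  ν⁻¹ * a * ν * a⁻¹ ≠ 1 ∧ ν⁻¹ * (ν⁻¹ * a * ν * a⁻¹) * ν = ν⁻¹ * a * ν * a⁻¹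

theorem three (h : Cw ι t) (he : Ev0 ι t) (hs : IsConj t u) (ha : Act ι u σ) (f : β ↪ α) {ν a b : Perm β}
    (hν : ∀ i, σ (f i) = f (ν i)) (h1 : a ∈ alternatingGroup β) (h2 : b ∈ alternatingGroup β)
    (h3 : Gd ν a ∧ Gd ν b ∧ Gd ν (b * a) ∧
      ν⁻¹ * a * ν * a⁻¹ * (ν⁻¹ * b * ν * b⁻¹) = ν⁻¹ * (b * a) * ν * (b * a)⁻¹) : False := by
  obtain ⟨κ, hκ⟩ := h.emb hs
  have key : ∀ {c}, c ∈ alternatingGroup β → Gd ν c → ∃ τ ∉ alternatingGroup α,
      Act κ (u * ev ι (Perm.viaEmbeddingHom f (ν⁻¹ * c * ν * c⁻¹))) τ := fun {c} hc e => by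
    obtain ⟨k1, k2, k3⟩ := nb h ha (memΦ f hc) (p := Perm.viaEmbeddingHom f (ν⁻¹ * c * ν * c⁻¹))
      (by rw [conjΦ f hν, ← map_inv, ← map_mul]) ((map_ne_one_iff _ (Perm.viaEmbeddingHom_injective f)).2 e.1)
      (by rw [← eq_inv_mul_iff_mul_eq, ← mul_assoc, conjΦ f hν, e.2])
    exact odd hκ (he.transfer h hκ hs) k1 k2 k3
  obtain ⟨τ₁, n1, a1⟩ := key h1 h3.1
  obtain ⟨τ₂, n2, a2⟩ := key h2 h3.2.1
  obtain ⟨τ₃, n3, a3⟩ := key (mul_mem h2 h1) h3.2.2.1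
  rw [← h3.2.2.2, map_mul, ev_mul (memΦ f (mem h1 rfl)) (memΦ f (mem h2 rfl))] at a3
  have := hκ.uniq a3 (by simpa [mul_assoc] using a1.mul (hκ.cen.inv.mul a2))
  exact n3 (this ▸ mul_odd n1 n2)

theorem sw {x y : α} (h : Cw ι t) (h1 : T1 ι t u x y) : ∃ z w, D4 x y z w ∧
    (swap x y)⁻¹ * dt x z y w * swap x y * (dt x z y w)⁻¹ = dt x y z w ∧
    swap x y * dt x y z w = dt x y z w * swap x y := by
  have := h.eight
  obtain ⟨z, w, hz, hw, e⟩ := exists_out2 (by omega) x y x y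
  have d : D4 x y z w := ⟨h1.ne, hz.a.symm, hw.a.symm, hz.b.symm, hw.b.symm, e⟩
  refine ⟨z, w, d, ?_, by conv_lhs => rw [← d.dt_cdab, dt, ← mul_assoc, ← dt]⟩
  rw [mul_assoc, mul_assoc, ← mul_assoc (dt ..), ← swap_apply_apply, swap_inv]
  simp [dt, swap_apply_of_ne_of_ne, d.ab, d.ad, hw.a, e.symm]

end Odd3

open Odd3

/-- If there are no even neighbours, all neighbours are transpositions. -/
theorem Cw.odd3 (h : Cw ι t) (he : Ev0 ι t) (hs : IsConj t u) (hc : u * t = t * u) (hne : u ≠ t) :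
    ∃ x y, T1 ι t u x y := by
  obtain ⟨σ, h1, ha⟩ := odd h he hs hc hne
  have h8 := h.eight
  obtain ⟨k, hk⟩ := tp_exists (p := σ) (by
    obtain ⟨c, rfl⟩ := isConj_iff.1 hs
    rw [← sq, ha.pow_eq_one h.inj (by omega) (by rw [sq, conj_mul, h.iv.1]; simp)])
  have h2 := Nat.even_iff.not.1 (hk.even_iff.not.1 h1)
  obtain ⟨e, e1, -⟩ := hk.std
  obtain rfl | rfl | h4 : k = 1 ∨ k = 3 ∨ 4 ≤ k := by omega
  · obtain ⟨x, y, h3, rfl⟩ := tp_one.1 hk
    exact ⟨x, y, h3, hs, hc, ha⟩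
  · obtain ⟨g⟩ := Function.Embedding.nonempty_of_card_le (α := Fin 2) (β := {x // σ x = x})
      (by rw [hk.card_fix, Fintype.card_fin]; omega)
    let ν : Perm ((Fin 3 × Bool) ⊕ Fin 2) := dt (.inl (0, false)) (.inl (0, true)) (.inl (1, false)) (.inl (1, true)) *
      swap (.inl (2, false)) (.inl (2, true))
    have h5 : (∀ i b, ν (.inl (i, b)) = .inl (i, !b)) ∧ ∀ i, ν (.inr i) = .inr i := by decide +kernel
    refine (three h he hs ha ⟨Sum.elim e fun i => g i, e.injective.sumElim (Subtype.val_injective.comp g.injective)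
      fun ⟨i, b⟩ i' h => ?_⟩ (ν := ν) ?_
      (dt_mem (a := .inl (0, true)) (b := .inl (1, true)) (c := .inl (2, false)) (d := .inl (2, true))
        (by decide) (by decide))
      (dt_mem (a := .inl (2, false)) (b := .inr 0) (c := .inl (2, true)) (d := .inr 1) (by decide) (by decide))
      ⟨by decide +kernel, by decide +kernel, by decide +kernel, by decide +kernel⟩).elim
    · exact Bool.not_ne_self b (congrArg Prod.snd (e.injective ((e1 i b).symm.trans (h ▸ (g i').2))))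
    · rintro (⟨i, b⟩ | i)
      · rw [h5.1]; exact e1 i b
      · rw [h5.2]; exact (g i).2
  · let ν : Perm (Fin 4 × Bool) := dt (0, false) (0, true) (1, false) (1, true) *
      dt (2, false) (2, true) (3, false) (3, true)
    have h5 : ∀ i b, ν (i, b) = (i, !b) := by decide +kernel
    refine (three h he hs ha (((Fin.castLEEmb h4).prodMap (.refl _)).trans e) (ν := ν) (fun ⟨i, b⟩ => ?_)
      (dt_mem (a := (0, true)) (b := (1, true)) (c := (2, false)) (d := (2, true)) (by decide) (by decide))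
      (dt_mem (a := (2, true)) (b := (3, true)) (c := (2, false)) (d := (2, true)) (by decide) (by decide))
      (by decide +kernel)).elim
    rw [h5]; exact e1 _ b

theorem Cw.odd3' (h : Cw ι t) (he : Ev0 ι t) (hs : IsConj t u) (hc : u * t = t * u) (hne : u ≠ t) :
    ¬ IsConj t (t * u) := fun k => by
  obtain ⟨x, y, h1⟩ := h.odd3 he hs hc hne
  obtain ⟨z, w, d, e1, e2⟩ := sw h h1
  obtain ⟨κ, hκ⟩ := h.emb hs
  have he' := he.transfer h hκ hs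
  obtain ⟨k1, k2, k3⟩ := nb h h1.act d.acb.mem e1 d.iv.2 e2
  obtain ⟨τ₁, n1, a1⟩ := odd hκ he' hs.symm hc.symm hne.symm
  obtain ⟨τ₂, n2, a2⟩ := odd hκ he' k1 k2 k3
  have e3 := he' _ _ ((hs.symm.trans k).trans (isConj_iff.2 ⟨ev ι (dt x z y w), by
    rw [← conj h1.act d.acb.mem e1, ← mul_assoc, h.comm_ev]; group⟩))
    (by rw [mul_assoc, k2, ← mul_assoc, ← hc, mul_assoc]) (a1.mul a2) (mul_odd n1 n2)
  rw [← mul_assoc, ← hc, mul_assoc, mul_eq_left, mul_eq_one_iff_eq_inv] at e3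
  exact h.not_mem (e3 ▸ inv_mem (ev_mem _))

theorem Cf.g2_of_ev0 (h : Cf ι t) (he : Ev0 ι t) (hs : IsConj t u) (hc : u * t = t * u)
    (hne : u ≠ t) : G2 ι t := by
  obtain ⟨x, y, h1⟩ := h.cw.odd3 he hs hc hne
  obtain ⟨z, w, d, e1, e2⟩ := sw h.cw h1
  obtain ⟨κ, hκ⟩ := h.emb hs
  obtain ⟨k1, k2, k3⟩ := nb h.cw h1.act d.acb.mem e1 d.iv.2 e2
  obtain ⟨a, b, h2⟩ := hκ.cw.odd3 (he.transfer h.cw hκ.cw hs) k1 k2 k3
  exact ⟨u, x, y, z, w, d, h1, ⟨κ, a, b, hκ, h2⟩, h.cw.odd3' he hs hc hne⟩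

end Cfsg.Agent.SAq
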