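import Mathlib
import Cfsg.Agent.SAq.SetB
import Cfsg.Agent.SAq.BP
import Cfsg.Agent.HxD.Cy
import Cfsg.Agent.GT.FourGroup

/-! From the standard subgroup to the configuration. See `stubs/Cfsg/Agent/SAq/PLAN.md`. -/

set_option autoImplicit false
set_option linter.unusedSectionVars false

namespace Cfsg.Agent.SAq

open Cfsg Cfsg.Agent.GT Cfsg.Agent.Loc.Mss Cfsg.Agent.Sym Cfsg.Agent.Loc.SO Cfsg.Agent.SAn Subgroup Equiv
open Cfsg.Agent.StdB (C1 mem_C1)
open scoped commutatorElement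

variable {α β γ : Type} [Fintype α] [DecidableEq α] [Fintype β] [DecidableEq β] [Fintype γ]
  [DecidableEq γ] {G : Type*} [Group G] [Finite G] {ι κ l : alternatingGroup α →* G}
  {ψ : Perm β →* G} {X P M L : Subgroup G} {t s u g o : G} {p q σ τ π : Perm α} {k j : ℕ}

namespace SetC

theorem exists_iv (h8 : 8 ≤ Fintype.card α) (hι : Function.Injective ι) :
    ∃ a ∈ ι.range, Iv a ∧ a ∉ 𝐂[ι.range] := by
  obtain ⟨a, b, c, d, h4⟩ := exists_D4 (α := α) (by omega)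
  have hm := dt_mem h4.ab h4.cd
  refine ⟨ev ι (dt a b c d), ev_mem _, ⟨by rw [← ev_mul hm hm, h4.iv.1, ev_one],
    fun e => h4.iv.2 (ev_eq_one hι hm e)⟩, fun e => h4.iv.2 ?_⟩
  exact Act.unique hι (by omega) (act_ev hm) (act_one_iff.2 e)

theorem mem_zpowers_iv (h : t * t = 1) (hg : g ∈ zpowers t) : g = 1 ∨ g = t := by
  obtain ⟨n, rfl⟩ := mem_zpowers_iff.1 hg
  have h2 : t ^ (2 : ℤ) = 1 := by rw [zpow_two, h]
  rcases Int.even_or_odd' n with ⟨m, rfl | rfl⟩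
  · left; rw [zpow_mul, h2, one_zpow]
  · right; rw [zpow_add, zpow_mul, h2, one_zpow, one_mul, zpow_one]

theorem coe_ev {H : Subgroup G} (h : ∀ p, ι p ∈ H) (p : Perm α) :
    ((ev (ι.codRestrict H h) p : H) : G) = ev ι p := by
  unfold ev; split_ifs <;> rfl

theorem act_iff {H : Subgroup G} (h : ∀ p, ι p ∈ H) {g : H} :
    Act (ι.codRestrict H h) g σ ↔ Act ι (g : G) σ := by
  refine forall₂_congr fun p _ => ?_
  rw [Subtype.ext_iff, coe_mul, coe_mul, coe_inv, coe_ev, coe_ev]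

end SetC

theorem cw_of_std (h8 : 8 ≤ Fintype.card α) (hι : Function.Injective ι)
    (hA : IsStandardSubgroup ι.range)
    (hR : ∀ R : Subgroup G, IsPGroup 2 R → R ≤ 𝐂[ι.range] → IsCyclic R) : ∃ t, Cw ι t := by
  obtain ⟨-, hT, -, hN⟩ := hA
  obtain ⟨t, ht⟩ := exists_prime_orderOf_dvd_card' (G := 𝐂[ι.range]) 2 hT.1.two_dvd
  have ht2 : orderOf (t : G) = 2 := by rw [orderOf_coe, ht]
  have it : Iv (t : G) := Bas.iv_of_ord ht2
  refine ⟨t, h8, hι, it, act_one_iff.2 t.2, fun g hg => exists_act hι (by omega) (by omega) ?_,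
    fun g hg ha g2 => ?_⟩
  · rw [hN]
    exact hT.centralizer_le ht2 t.2 (mem_C1.2 hg)
  · by_cases h1 : g = 1
    · exact .inl h1
    have hn : zpowers g ≤ 𝐍[zpowers (t : G)] := zpowers_le.2 (centralizer_le_normalizer _ fun x hx => by
      obtain ⟨n, rfl⟩ := mem_zpowers_iff.1 hx
      exact (Commute.zpow_right (show Commute g t from hg) n).eq.symm)
    have hc := hR _ ((Bas.pg_zpowers g2).to_sup_of_normal_right' (Bas.pg_zpowers it.1) hn)
      (sup_le (zpowers_le.2 (act_one_iff.1 ha)) (zpowers_le.2 t.2))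
    exact .inr (HxD.Cy.inv_eq hc (mem_sup_left (mem_zpowers _)) (mem_sup_right (mem_zpowers _))
      g2 it.1 h1 it.2)

theorem exists_nb [X.Normal] [IsSimpleGroup X] (h : Cw ι t) (hA : ι.range ≤ X) (hX : ¬ X ≤ C1 t) :
    ∃ u, IsConj t u ∧ u * t = t * u ∧ u ≠ t := by
  by_contra hn
  push Not at hn
  have hz : IsIsolatedInvolution t :=
    ⟨Bas.iv_ord h.iv, fun g hg => hn _ (isConj_iff.2 ⟨g, rfl⟩) hg.eq.symm⟩
  obtain ⟨a, ha, ia, -⟩ := SetC.exists_iv h.eight h.inj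
  have h0 := StdB.inf_eq_bot_of_odd (X := X) (odd_card_oddCore (G := G)) (hA ha) ia.1 ia.2
  refine hX fun x hx => mem_C1.2 ?_
  have h1 : t * x * t⁻¹ * x⁻¹ ∈ oddCore G ⊓ X :=
    ⟨hz.commutator_mem_oddCore x, X.mul_mem (Normal.conj_mem inferInstance x hx t) (X.inv_mem hx)⟩
  rw [h0, mem_bot, mul_inv_eq_one, mul_inv_eq_iff_eq_mul] at h1
  exact h1.symm

theorem Gl.nb (h : Gl ι t X) : ∃ u, IsConj t u ∧ u * t = t * u ∧ u ≠ t :=
  haveI := h.fr.nX
  haveI := h.fr.sX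
  exists_nb h.cf.cw h.AX fun hx => h.cf.iv.2 (h.fr.cx t fun _ hx' => mem_C1.1 (hx hx'))

theorem Fr.core (h : Fr X t) (he : ∃ x ∈ X, Iv x) : oddCore G = ⊥ := by
  have := h.nX
  have := h.sX
  obtain ⟨a, ha, ia⟩ := he
  have h0 := StdB.inf_eq_bot_of_odd (X := X) (odd_card_oddCore (G := G)) ha ia.1 ia.2
  exact eq_bot_iff.2 fun g hg => mem_bot.2 (h.cx g fun x hx =>
    (commute_of_normal_of_disjoint _ _ inferInstance h.nX (disjoint_iff.2 h0) g x hg hx).eq.symm)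

theorem Fr.conj (h : Fr X t) (hs : IsConj t s) : Fr X s := by
  obtain ⟨c, rfl⟩ := isConj_iff.1 hs
  refine ⟨h.nX, h.sX, fun g => (h.top (c⁻¹ * g * c)).imp (fun e => ?_) (fun e => ?_), h.cx, h.hB⟩
  · simpa [mul_assoc] using h.nX.conj_mem _ e c
  · simpa [mul_assoc] using h.nX.conj_mem _ e c

/-- Restriction to `X ⟨t⟩`. -/
theorem exists_gl [X.Normal] [IsSimpleGroup X] (h : Cf ι t) (hA : ι.range ≤ X)
    (hB : HasStrongBProperty G) (hX : ∀ y ∈ 𝐂[ι.range], y * y = 1 → y ≠ 1 → ¬ X ≤ C1 y) :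
    ∃ (H : Subgroup G) (ι' : alternatingGroup α →* H) (t' : H) (X' : Subgroup H),
      Gl ι' t' X' ∧ Nonempty (X' ≃* X) := by
  have hι : ∀ p, ι p ∈ X ⊔ zpowers t := fun p => mem_sup_left (hA ⟨p, rfl⟩)
  have ht : t ∈ X ⊔ zpowers t := mem_sup_right (mem_zpowers t)
  have top : ∀ g ∈ X ⊔ zpowers t, g ∈ X ∨ g * t ∈ X := fun g hg => by
    obtain ⟨x, hx, z, hz, rfl⟩ := mem_sup_of_normal_left.1 hg
    rcases SetC.mem_zpowers_iv h.iv.1 hz with rfl | rfl
    · exact .inl (by simpa using hx)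
    · exact .inr (by simpa [mul_assoc, h.iv.1] using hx)
  have e := subgroupOfEquivOfLe (le_sup_left : X ≤ X ⊔ zpowers t)
  refine ⟨X ⊔ zpowers t, ι.codRestrict _ hι, ⟨t, ht⟩, X.subgroupOf _,
    ⟨⟨h.eight, fun a b e => h.inj (congrArg Subtype.val e),
      ⟨Subtype.ext h.iv.1, fun e => h.iv.2 (congrArg Subtype.val e)⟩, (SetC.act_iff hι).2 h.cen,
      fun g hg => ?_, fun g hg ha ⟨k, hk⟩ => ?_⟩,
    ⟨inferInstance, e.isSimpleGroup, fun g => top g g.2, fun g hg => ?_, hasB_of_strong (strong_sub hB _)⟩,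
    fun _ ⟨p, hp⟩ => hp ▸ hA ⟨p, rfl⟩⟩, ⟨e⟩⟩
  · obtain ⟨σ, hσ⟩ := h.reg g (congrArg Subtype.val hg)
    exact ⟨σ, (SetC.act_iff hι).2 hσ⟩
  · exact (h.ker g (congrArg Subtype.val hg) ((SetC.act_iff hι).1 ha)
      ⟨k, congrArg Subtype.val hk⟩).imp Subtype.ext Subtype.ext
  · have h1 : (g : G) ∈ 𝐂[X] := fun x hx =>
      congrArg Subtype.val (hg ⟨x, mem_sup_left hx⟩ (show _ ∈ X.subgroupOf _ from hx))
    have h2 : (g : G) * g ∈ X := by
      rcases top g g.2 with e | e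
      · exact mul_mem e e
      · have := mul_mem e (Normal.conj_mem inferInstance _ e t)
        rwa [show (g : G) * t * (t * (g * t) * t⁻¹) = g * (t * t) * g by group, h.iv.1, mul_one] at this
    have h3 : (g : G) * g = 1 := by
      rcases Bas.simple_inf (A := X) (K := 𝐂[X]) inferInstance (norm_cent le_normalizer) with e | e
      · exact e _ h2 (mul_mem h1 h1)
      · obtain ⟨a, ha, -, hc⟩ := SetC.exists_iv h.eight h.inj
        exact absurd (centralizer_le hA (e (hA ha))) hc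
    by_contra h4
    exact hX g (centralizer_le hA h1) h3 (fun e => h4 (Subtype.ext e)) fun x hx => mem_C1.2 (h1 x hx)

end Cfsg.Agent.SAq
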