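import Mathlib
import Cfsg.Agent.SAq.Typ
import Cfsg.Agent.SAq.SetC
import Cfsg.Agent.SAq.AY
import Cfsg.Agent.SAq.AE
import Cfsg.Agent.SAq.AO
import Cfsg.Agent.SAq.AD
import Cfsg.Agent.SAq.LB
import Cfsg.Agent.SAq.LD

/-! Case A1: doubling, or `L₄(4)`. See `stubs/Cfsg/Agent/SAq/PLAN3.md`. -/

set_option autoImplicit false
set_option linter.unusedSectionVars false

namespace Cfsg.Agent.SAq

open Cfsg Cfsg.Agent.GT Cfsg.Agent.Loc.Mss Cfsg.Agent.Sym Cfsg.Agent.Loc.SO Cfsg.Agent.SAn Subgroup Equiv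

variable {α : Type} [Fintype α] [DecidableEq α] {G : Type*} [Group G] [Finite G]
  {ι : alternatingGroup α →* G} {X : Subgroup G} {t : G}

theorem Gl.a1 (h : Gl ι t X) (h1 : A1 ι t) : (∃ l, Dbl ι t l) ∨ (Fintype.card α = 8 ∧
    ∃ (F : Type) (_ : Field F) (_ : Fintype F), Fintype.card F = 4 ∧
      Nonempty (X ≃* Matrix.ProjectiveSpecialLinearGroup (Fin 4) F)) := by
  obtain ⟨Y, hY⟩ := h.cf.exists_yg h1
  have s1 := hY.yt.sq1 hY.dc hY.gw
  have hz : Zt ι t Y := ⟨hY.yt, s1, hY.dc, hY.ec, hY.gw⟩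
  rcases hY.ea s1 with h0 | ⟨h8, h0⟩
  · exact .inl (hY.dbl hz fun p q hp hq => hY.good hz h0 hp hq)
  refine .inr ⟨h8, ?_⟩
  let e : Fin 8 ≃ α := (Fintype.equivFinOfCardEq h8).symm
  have h' := h.congr e
  obtain ⟨K, _, _, _, ⟨d⟩⟩ := (hY.congr e).l4 (hz.res e.toEmbedding (by simp)) (h0.congr e)
  have := h.fr.nX
  have := h.fr.sX
  have := Fintype.ofFinite K
  exact ⟨K, inferInstance, inferInstance, Nat.card_eq_fintype_card.symm.trans d.card,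
    d.psl h'.cf (by simp) h'.AX⟩

end Cfsg.Agent.SAq
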