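import Mathlib
import Cfsg.Agent.SAq.Der
import Cfsg.Agent.SAq.SetC
import Cfsg.Agent.GT.Factorized

/-! Basic properties of the big symmetric group. See `stubs/Cfsg/Agent/SAq/PLAN.md`. -/

set_option autoImplicit false
set_option linter.unusedSectionVars false

namespace Cfsg.Agent.SAq

open Cfsg Cfsg.Agent.GT Cfsg.Agent.Loc.Mss Cfsg.Agent.Sym Cfsg.Agent.Loc.SO Cfsg.Agent.SAn Subgroup Equiv
open Cfsg.Agent.StdB (C1 mem_C1)
open scoped commutatorElement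

variable {α β γ : Type} [Fintype α] [DecidableEq α] [Fintype β] [DecidableEq β] [Fintype γ]
  [DecidableEq γ] {G : Type*} [Group G] [Finite G] {ι κ l : alternatingGroup α →* G}
  {ψ : Perm β →* G} {X P M L : Subgroup G} {t s u g o : G} {p q σ τ π : Perm α} {k j : ℕ}

theorem card_Rm {x y : β} (h : x ≠ y) : Fintype.card (Rm x y) + 2 = Fintype.card β := by
  rw [Fintype.card_subtype, show (Finset.univ.filter fun z => z ≠ x ∧ z ≠ y) = ({x, y} : Finset β)ᶜ by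
    ext z; simp, ← Finset.card_pair h, Finset.card_compl_add_card]

namespace HsB

variable {x y : β}

theorem oS_x (r : Perm (Rm x y)) : Perm.ofSubtype r x = x := Perm.ofSubtype_apply_of_not_mem r (by simp)

theorem oS_y (r : Perm (Rm x y)) : Perm.ofSubtype r y = y := Perm.ofSubtype_apply_of_not_mem r (by simp)

theorem exists_oS {η : Perm β} (hx : η x = x) (hy : η y = y) : ∃ r : Perm (Rm x y), Perm.ofSubtype r = η :=
  ⟨_, Perm.ofSubtype_subtypePerm (f := η) (p := fun z => z ≠ x ∧ z ≠ y) (fun z => by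
      conv_lhs => rw [← hx, ← hy]
      simp only [ne_eq, EmbeddingLike.apply_eq_iff_eq])
    fun z hz => ⟨fun e => hz (e ▸ hx), fun e => hz (e ▸ hy)⟩⟩

theorem oS_mem {r : Perm (Rm x y)} : Perm.ofSubtype r ∈ alternatingGroup β ↔ r ∈ alternatingGroup (Rm x y) := by
  rw [Perm.mem_alternatingGroup, Perm.mem_alternatingGroup, Perm.sign_ofSubtype]

theorem fix_comm {η : Perm β} (hx : η x = x) (hy : η y = y) : η * swap x y = swap x y * η := by
  rw [mul_swap_eq_swap_mul, hx, hy]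

theorem oS_comm (r : Perm (Rm x y)) : Perm.ofSubtype r * swap x y = swap x y * Perm.ofSubtype r :=
  fix_comm (oS_x r) (oS_y r)

theorem map_comm {a b : Perm β} (h : a * b = b * a) : ψ a * ψ b = ψ b * ψ a := by rw [← map_mul, h, map_mul]

theorem map_conj (a b : Perm β) : ψ (a * b * a⁻¹) = ψ a * ψ b * (ψ a)⁻¹ := by rw [map_mul, map_mul, map_inv]

theorem act_iff {r : Perm (Rm x y)} : Act (sub ψ fun z => z ≠ x ∧ z ≠ y) g r ↔ ∀ p ∈ alternatingGroup β, p x = x →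
    p y = y → g * ψ p * g⁻¹ = ψ (Perm.ofSubtype r * p * (Perm.ofSubtype r)⁻¹) := by
  refine ⟨fun h p hp hx hy => ?_, fun h p hp => ?_⟩
  · obtain ⟨q, rfl⟩ := exists_oS hx hy
    have := h q (oS_mem.1 hp)
    rwa [ev_sub _ _ (oS_mem.1 hp), ev_sub _ _ (conj_mem_alt (oS_mem.1 hp) r), map_mul Perm.ofSubtype,
      map_mul Perm.ofSubtype, map_inv Perm.ofSubtype] at this
  · rw [ev_sub _ _ hp, ev_sub _ _ (conj_mem_alt hp r), map_mul Perm.ofSubtype, map_mul Perm.ofSubtype,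
      map_inv Perm.ofSubtype]
    exact h _ (oS_mem.2 hp) (oS_x p) (oS_y p)

theorem act_one : Act (sub ψ fun z => z ≠ x ∧ z ≠ y) g 1 ↔ ∀ p ∈ alternatingGroup β, p x = x →
    p y = y → g * ψ p = ψ p * g := by
  simp only [act_iff, map_one, one_mul, inv_one, mul_one, mul_inv_eq_iff_eq_mul]

theorem exists_perm {x' y' : β} (h : x ≠ y) (h' : x' ≠ y') : ∃ π : Perm β, π x = x' ∧ π y = y' :=
  ⟨swap y' (swap x x' y) * swap x x', by
    rw [Perm.mul_apply, swap_apply_left, swap_apply_of_ne_of_ne h' fun e =>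
      h ((swap x x').injective ((swap_apply_left x x').trans e))], by
    rw [Perm.mul_apply, swap_apply_right]⟩

theorem fix_or {η : Perm β} (hxy : x ≠ y) (h : η * swap x y = swap x y * η) :
    (η x = x ∧ η y = y) ∨ (η x = y ∧ η y = x) := by
  have h1 : η y = swap x y (η x) := by simpa using congrArg (· x) h
  by_cases a : η x = x
  · exact .inl ⟨a, by rw [h1, a, swap_apply_left]⟩
  by_cases b : η x = y
  · exact .inr ⟨b, by rw [h1, b, swap_apply_right]⟩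
  exact (hxy (η.injective (by rw [h1, swap_apply_of_ne_of_ne a b]))).elim

theorem split {η : Perm β} (hxy : x ≠ y) (h : η * swap x y = swap x y * η) :
    ∃ r : Perm (Rm x y), η = Perm.ofSubtype r ∨ η = swap x y * Perm.ofSubtype r := by
  rcases fix_or hxy h with ⟨a, b⟩ | ⟨a, b⟩
  · obtain ⟨r, e⟩ := exists_oS a b
    exact ⟨r, .inl e.symm⟩
  · obtain ⟨r, e⟩ := exists_oS (η := swap x y * η) (x := x) (y := y) (by simp [a]) (by simp [b])
    exact ⟨r, .inr (by rw [e, swap_mul_self_mul])⟩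

theorem tp_swap_mul (hxy : x ≠ y) {r : Perm (Rm x y)} (h : Tp r k) : Tp (swap x y * Perm.ofSubtype r) (k + 1) := by
  rw [add_comm]
  refine (tp_one.2 ⟨x, y, hxy, rfl⟩).mul_disjoint (Tp.ofSubtype.2 h) fun z => ?_
  by_cases a : z = x
  · exact .inr (a ▸ oS_x r)
  by_cases b : z = y
  · exact .inr (b ▸ oS_y r)
  exact .inl (swap_apply_of_ne_of_ne a b)

theorem exists_tp (h : 2 * k ≤ Fintype.card α) : ∃ r : Perm α, Tp r k := by
  obtain ⟨e⟩ : Nonempty (Fin k × Bool ↪ α) := Function.Embedding.nonempty_of_card_le (by simp; omega)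
  exact ⟨Perm.viaEmbedding ((Equiv.refl _).prodCongr Equiv.boolNot) e, tp_of_std e
    (fun i b => Perm.viaEmbedding_apply _ _ _) fun z hz => Perm.viaEmbedding_apply_of_notMem _ _ _ fun ⟨w, e⟩ => hz w e⟩

theorem swap_conj {x' y' : β} (h : x ≠ y) (h' : x' ≠ y') : IsConj (ψ (swap x y)) (ψ (swap x' y')) :=
  ψ.map_isConj (Perm.isConj_swap h h')

theorem pc_swap (e : γ ≃ β) (a b : γ) : e.permCongr (swap a b) = swap (e a) (e b) :=
  Equiv.symm_trans_swap_trans a b e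

theorem pc_mem (e : γ ≃ β) {p : Perm γ} : e.permCongr p ∈ alternatingGroup β ↔ p ∈ alternatingGroup γ := by
  rw [Perm.mem_alternatingGroup, Perm.mem_alternatingGroup, Perm.sign_permCongr]

theorem pc_conj (e : γ ≃ β) (a b : Perm γ) :
    e.permCongr (a * b * a⁻¹) = e.permCongr a * e.permCongr b * (e.permCongr a)⁻¹ :=
  (map_mul e.permCongrHom _ _).trans (congrArg₂ _ (map_mul e.permCongrHom _ _) (map_inv e.permCongrHom _))

theorem ev_rel (e : γ ≃ α) {p : Perm γ} (hp : p ∈ alternatingGroup γ) :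
    ev (ι.comp e.altCongrHom.toMonoidHom) p = ev ι (e.permCongr p) := by
  rw [ev_of_mem hp, ev_of_mem ((pc_mem e).2 hp)]; rfl

theorem act_rel (e : γ ≃ α) {σ : Perm γ} : Act (ι.comp e.altCongrHom.toMonoidHom) g σ ↔ Act ι g (e.permCongr σ) := by
  refine ⟨fun h p hp => ?_, fun h p hp => ?_⟩
  · obtain ⟨q, rfl⟩ := e.permCongr.surjective p
    have hq := (pc_mem e).1 hp
    rw [← pc_conj, ← ev_rel e hq, ← ev_rel e (conj_mem_alt hq σ)]
    exact h q hq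
  · rw [ev_rel e hp, ev_rel e (conj_mem_alt hp σ), pc_conj]
    exact h _ ((pc_mem e).2 hp)

theorem cf_rel (h : Cf ι t) (e : γ ≃ α) : Cf (ι.comp e.altCongrHom.toMonoidHom) t :=
  have o : e.permCongr 1 = 1 := map_one e.permCongrHom
  ⟨Fintype.card_congr e ▸ h.eight, h.inj.comp e.altCongrHom.injective, h.iv, (act_rel e).2 (o ▸ h.cen),
    fun g hg => let ⟨σ, hσ⟩ := h.reg g hg; ⟨e.permCongr.symm σ, (act_rel e).2 (by rwa [Equiv.apply_symm_apply])⟩,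
    fun g hg ha => h.ker g hg (o ▸ (act_rel e).1 ha)⟩

theorem into_of {N H O : Subgroup G} (hO : Odd (Nat.card O)) (h : ∀ g ∈ N, ∃ k ∈ N, k ∈ H ∧ g * k⁻¹ ∈ O)
    (hP : IsPGroup 2 P) (hN : P ≤ N) : ∃ n ∈ N, P ≤ cj(n, H) := by
  have pr : Fac.IsProd N (O ⊓ N) (H ⊓ N) := ⟨inf_le_right, inf_le_right, fun g hg =>
    let ⟨k, k1, k2, k3⟩ := h g hg
    ⟨_, mem_inf.2 ⟨k3, mul_mem hg (inv_mem k1)⟩, k, mem_inf.2 ⟨k2, k1⟩, (inv_mul_cancel_right g k).symm⟩⟩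
  obtain ⟨T, hT⟩ := Syl.exists 2 (H ⊓ N)
  have h1 : Syl 2 T N := ⟨hT.le.trans inf_le_right, hT.pg, fun d => by
    rw [← relIndex_mul_relIndex T (H ⊓ N) N hT.le inf_le_right] at d
    exact ((Nat.Prime.dvd_mul Nat.prime_two).1 d).elim hT.nd fun d => hO.not_two_dvd_nat
      (d.trans (pr.symm.relIndex_dvd.trans (card_dvd_of_le inf_le_left)))⟩
  obtain ⟨n, hn, k⟩ := h1.le_conj hP hN
  exact ⟨n, hn, k.trans (cj_mono n (hT.le.trans inf_le_left))⟩

/-- The elements permuting a pair. -/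
def Np (a b : G) : Subgroup G where
  carrier := {x | (x * a * x⁻¹ = a ∧ x * b * x⁻¹ = b) ∨ (x * a * x⁻¹ = b ∧ x * b * x⁻¹ = a)}
  one_mem' := .inl ⟨by simp, by simp⟩
  mul_mem' := fun {x y} hx hy => by
    have e : ∀ c, x * y * c * (x * y)⁻¹ = x * (y * c * y⁻¹) * x⁻¹ := fun c => by group
    simp only [Set.mem_setOf_eq, e]
    rcases hy with ⟨h1, h2⟩ | ⟨h1, h2⟩ <;> rw [h1, h2] <;> exact hx.elim (by tauto) (by tauto)
  inv_mem' := fun {x} hx => by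
    have e : ∀ {c d}, x * c * x⁻¹ = d → x⁻¹ * d * x⁻¹⁻¹ = c := fun h => by rw [← h]; group
    exact hx.imp (fun h => ⟨e h.1, e h.2⟩) fun h => ⟨e h.2, e h.1⟩

theorem dt_swap {a b c d : β} (h : D4 a b c d) : dt a c b d * swap a b * (dt a c b d)⁻¹ = swap c d ∧
    dt a c b d * swap c d * (dt a c b d)⁻¹ = swap a b := by
  obtain ⟨h1, h2, h3, h4, h5, h6⟩ := h
  rw [← swap_apply_apply, ← swap_apply_apply]
  simp [dt, swap_apply_of_ne_of_ne, h1, h2, h3, h4, h5, h6, h1.symm, h2.symm, h3.symm, h4.symm, h5.symm, h6.symm]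

end HsB

open HsB

theorem Hs.cf (h : Hs ψ) {x y : β} (hxy : x ≠ y) :
    Cf (sub ψ fun z => z ≠ x ∧ z ≠ y) (ψ (swap x y)) where
  eight := by have := card_Rm hxy; have := h.ten; unfold Rm at *; omega
  inj := (h.inj.comp Perm.ofSubtype_injective).comp Subtype.val_injective
  iv := ⟨by rw [← map_mul, swap_mul_self, map_one], fun e => hxy (swap_eq_one_iff.1 (h.inj (e.trans (map_one ψ).symm)))⟩
  cen := act_one.2 fun _ _ hx hy => map_comm (fix_comm hx hy).symm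
  reg g hg := by
    obtain ⟨σ, hx, hy, k⟩ := h.reg x y hxy g hg
    obtain ⟨r, rfl⟩ := exists_oS hx hy
    exact ⟨r, act_iff.2 k⟩
  ker g hg ha := h.ker x y hxy g hg (act_one.1 ha)

theorem Hs.act (h : Hs ψ) {x y : β} (r : Perm (Rm x y)) :
    Act (sub ψ fun z => z ≠ x ∧ z ≠ y) (ψ (Perm.ofSubtype r)) r := act_iff.2 fun _ _ _ _ => (map_conj _ _).symm

/-- One pair suffices. -/
theorem hs_of_cf {x y : β} (hxy : x ≠ y) (hi : Function.Injective ψ)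
    (h : Cf (sub ψ fun z => z ≠ x ∧ z ≠ y) (ψ (swap x y))) : Hs ψ := by
  have c : ∀ (π : Perm β) (g : G), g * ψ (swap (π x) (π y)) = ψ (swap (π x) (π y)) * g →
      (ψ π)⁻¹ * g * ψ π * ψ (swap x y) = ψ (swap x y) * ((ψ π)⁻¹ * g * ψ π) := fun π g hg => by
    rw [swap_apply_apply, map_conj] at hg
    calc _ = (ψ π)⁻¹ * (g * (ψ π * ψ (swap x y) * (ψ π)⁻¹)) * ψ π := by group
      _ = _ := by rw [hg]; group
  refine ⟨by have := card_Rm hxy; have := h.eight; unfold Rm at *; omega, hi, fun x' y' h' g hg => ?_,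
    fun x' y' h' g hg hp h2 => ?_⟩ <;> obtain ⟨π, rfl, rfl⟩ := exists_perm hxy h'
  · obtain ⟨r, hr⟩ := h.reg _ (c π g hg)
    refine ⟨π * Perm.ofSubtype r * π⁻¹, by simp [oS_x], by simp [oS_y], fun p hp hx hy => ?_⟩
    have := act_iff.1 hr _ (conj_mem_alt hp π⁻¹) (by simp [hx]) (by simp [hy])
    rw [map_conj, map_inv] at this
    calc _ = ψ π * ((ψ π)⁻¹ * g * ψ π * ((ψ π)⁻¹ * ψ p * (ψ π)⁻¹⁻¹) * ((ψ π)⁻¹ * g * ψ π)⁻¹) * (ψ π)⁻¹ := by group
      _ = _ := by rw [this, ← map_conj]; exact congrArg ψ (by group)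
  · obtain ⟨n, hn⟩ := h2
    refine (h.ker _ (c π g hg) (act_one.2 fun p k hx hy => ?_) ⟨n, ?_⟩).imp (fun e => ?_) fun e => ?_
    · have := hp _ (conj_mem_alt k π) (by simp [hx]) (by simp [hy])
      rw [map_conj] at this
      calc _ = (ψ π)⁻¹ * (g * (ψ π * ψ p * (ψ π)⁻¹)) * ψ π := by group
        _ = _ := by rw [this]; group
    · have := conj_pow (a := (ψ π)⁻¹) (b := g) (i := 2 ^ n)
      rw [inv_inv] at this
      rw [this, hn]; simp
    · calc g = ψ π * ((ψ π)⁻¹ * g * ψ π) * (ψ π)⁻¹ := by group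
        _ = 1 := by rw [e]; simp
    · rw [swap_apply_apply, map_conj, ← e]; group

theorem Hs.toC (h : Hs ψ) (g : G) : Hs ((MulAut.conj g).toMonoidHom.comp ψ) := by
  obtain ⟨x, y, hxy⟩ := Fintype.exists_pair_of_one_lt_card (α := β) (by have := h.ten; omega)
  exact hs_of_cf hxy ((MulAut.conj g).injective.comp h.inj) ((h.cf hxy).toC g)

theorem Ty.toC (h : Ty ψ k) (g : G) : Ty ((MulAut.conj g).toMonoidHom.comp ψ) k :=
  let ⟨p, x, y, h1, h2, h3⟩ := h; ⟨p, x, y, h1, h2, (MulAut.conj g).toMonoidHom.map_isConj h3⟩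

theorem Ty.all (h : Ty ψ k) {x y : β} (hxy : x ≠ y) {r : Perm β} (hr : Tp r k) :
    IsConj (ψ (swap x y)) (ψ r) := by
  obtain ⟨p, x', y', h1, h2, h3⟩ := h
  obtain ⟨π, -, rfl⟩ := h2.alt_conj hr
  exact ((swap_conj hxy h1).trans h3).trans (ψ.map_isConj (isConj_iff.2 ⟨π, rfl⟩))

theorem Hs.odd (h : Hs ψ) (hk : Ty ψ k) : Odd k := by
  obtain ⟨p, x, y, h1, h2, h3⟩ := hk
  refine Nat.not_even_iff_odd.1 fun e => (h.cf h1).not_der h3 ?_
  have h4 : (C1 p).map ψ ≤ C1 (ψ p) := by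
    rintro _ ⟨a, ha, rfl⟩
    exact mem_C1.2 (map_comm (mem_C1.1 ha))
  refine commutator_mono h4 h4 ?_
  rw [← map_commutator]
  exact mem_map_of_mem ψ (der_of_even' (h2.even_iff.2 e) h2.1)

theorem Hs.ty_iff (h : Hs ψ) {x y : β} (hxy : x ≠ y) (h' : Cf ι (ψ (swap x y)))
    (hc : Fintype.card β = Fintype.card α + 2) (hk : k ≠ 0) (he : Even k) :
    Ty ψ (k + 1) ↔ Sg ι (ψ (swap x y)) k := by
  have c := card_Rm hxy
  have c' : Fintype.card α = Fintype.card (Rm x y) := by omega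
  refine ⟨fun ty => Sg.transfer (h.cf hxy).cw h'.cw (IsConj.refl _) c'.symm ?_, fun sg => ?_⟩
  · obtain ⟨r, hr⟩ := exists_tp (α := Rm x y) (k := k) (by
      obtain ⟨p, -, -, -, h2, -⟩ := ty
      have := h2.le
      omega)
    have m := hr.even_iff.2 he
    refine ⟨r, m, fun e => hk (hr.unique (tp_zero.2 e)), hr, ?_⟩
    rw [ev_sub _ _ m, ← map_mul]
    exact ty.all hxy (tp_swap_mul hxy hr)
  · obtain ⟨r, m, -, hr, k⟩ := Sg.transfer h'.cw (h.cf hxy).cw (IsConj.refl _) c' sg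
    rw [ev_sub _ _ m, ← map_mul] at k
    exact ⟨_, x, y, hxy, tp_swap_mul hxy hr, k⟩

theorem HsB.act_swap (h : Hs ψ) {a b c d : β} (h4 : D4 a b c d) : Act (sub ψ fun z => z ≠ a ∧ z ≠ b) (ψ (swap c d))
    (swap ⟨c, h4.ac.symm, h4.bc.symm⟩ ⟨d, h4.ad.symm, h4.bd.symm⟩) := by
  have := h.act (swap (⟨c, h4.ac.symm, h4.bc.symm⟩ : Rm a b) ⟨d, h4.ad.symm, h4.bd.symm⟩)
  rwa [Perm.ofSubtype_swap_eq] at this

theorem HsB.swap_comm' {a b c d : β} (h4 : D4 a b c d) : swap c d * swap a b = swap a b * swap c d :=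
  fix_comm (swap_apply_of_ne_of_ne h4.ac h4.ad) (swap_apply_of_ne_of_ne h4.bc h4.bd)

theorem HsB.comm_cd (h : Hs ψ) {a b c d : β} (h4 : D4 a b c d) {r : Perm (Rm a b)}
    (ha : Act (sub ψ fun z => z ≠ a ∧ z ≠ b) g r) (hc : g * ψ (swap c d) = ψ (swap c d) * g) :
    Perm.ofSubtype r * swap c d = swap c d * Perm.ofSubtype r := by
  have cf := h.cf h4.ab
  have := congrArg Perm.ofSubtype (ha.comm cf.inj (by have := cf.eight; omega) (act_swap h h4) hc)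
  rwa [map_mul, map_mul, Perm.ofSubtype_swap_eq] at this

theorem Hs.sw (h : Hs ψ) (hc : Fintype.card β = Fintype.card α + 2) {a b c d : β} (h4 : D4 a b c d) :
    Sw α (ψ (swap a b)) (ψ (swap c d)) := by
  have e : α ≃ Rm a b := Fintype.equivOfCardEq (by have := card_Rm h4.ab; omega)
  refine ⟨_, e.symm ⟨c, h4.ac.symm, h4.bc.symm⟩, e.symm ⟨d, h4.ad.symm, h4.bd.symm⟩, cf_rel (h.cf h4.ab) e,
    fun k => h4.cd (congrArg Subtype.val (e.symm.injective k)), swap_conj h4.ab h4.cd, map_comm (swap_comm' h4),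
    (act_rel e).2 ?_⟩
  rw [pc_swap, e.apply_symm_apply, e.apply_symm_apply]
  exact act_swap h h4

theorem Hs.dec (h : Hs ψ) {x y : β} (hxy : x ≠ y) (hg : g * ψ (swap x y) = ψ (swap x y) * g) :
    ∃ r : Perm β, r * swap x y = swap x y * r ∧
      Od (sub ψ fun z => z ≠ x ∧ z ≠ y) (ψ (swap x y)) (g * (ψ r)⁻¹) := by
  have cf := h.cf hxy
  obtain ⟨r, hr⟩ := cf.reg g hg
  have c : Commute (ψ (Perm.ofSubtype r)) (ψ (swap x y)) := map_comm (oS_comm r)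
  obtain ⟨o, ho, e | e⟩ := cf.ker' (Commute.mul_left hg c.inv_left).eq (by simpa using hr.mul (h.act r).inv)
  · exact ⟨_, oS_comm r, e ▸ ho⟩
  · refine ⟨swap x y * Perm.ofSubtype r, by rw [mul_assoc, oS_comm], ?_⟩
    rwa [map_mul, mul_inv_rev, ← mul_assoc, e, mul_inv_cancel_right]

theorem HsB.range_toC (g : G) : ((MulAut.conj g).toMonoidHom.comp ψ).range = cj(g, ψ.range) :=
  MonoidHom.range_comp _ _

/-- A 2-group centralizing a conjugate of a transposition lies in a conjugate of the symmetric group. -/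
theorem Hs.into (h : Hs ψ) {x y : β} (hxy : x ≠ y) (hs : IsConj (ψ (swap x y)) s)
    (hP : IsPGroup 2 P) (hc : P ≤ C1 s) :
    ∃ g, g * ψ (swap x y) * g⁻¹ = s ∧ P ≤ cj(g, ψ.range) := by
  obtain ⟨g, rfl⟩ := isConj_iff.1 hs
  have h' := h.toC g
  obtain ⟨O, h1, h2, -⟩ := (h'.cf hxy).exists_O
  obtain ⟨n, hn, k⟩ := into_of (H := ((MulAut.conj g).toMonoidHom.comp ψ).range) h2 (fun a ha => by
    obtain ⟨r, k1, k2⟩ := h'.dec hxy (mem_C1.1 ha)
    exact ⟨_, mem_C1.2 (map_comm (ψ := (MulAut.conj g).toMonoidHom.comp ψ) k1), ⟨r, rfl⟩, (h1 _).2 k2⟩) hP hc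
  rw [range_toC, cj_cj] at k
  refine ⟨n * g, ?_, k⟩
  rw [← mul_inv_eq_iff_eq_mul.2 (mem_C1.1 hn)]
  group

theorem Hs.pair_nrm (h : Hs ψ) {a b c d : β} (h4 : D4 a b c d)
    (hg : (g * ψ (swap a b) * g⁻¹ = ψ (swap a b) ∧ g * ψ (swap c d) * g⁻¹ = ψ (swap c d)) ∨
      (g * ψ (swap a b) * g⁻¹ = ψ (swap c d) ∧ g * ψ (swap c d) * g⁻¹ = ψ (swap a b))) :
    ∃ r : Perm β, Fx a b c d r ∧ ∀ p ∈ altOn ({a, b, c, d} : Finset β)ᶜ,
      g * ψ p * g⁻¹ = ψ (r * p * r⁻¹) := by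
  have fx : ∀ p ∈ altOn ({a, b, c, d} : Finset β)ᶜ, Fx a b c d p := fun p hp =>
    have k := (mem_altOn.1 hp).2
    ⟨k a (by simp), k b (by simp), k c (by simp), k d (by simp)⟩
  have key : ∀ g : G, g * ψ (swap a b) * g⁻¹ = ψ (swap a b) → g * ψ (swap c d) * g⁻¹ = ψ (swap c d) →
      ∃ r : Perm β, Fx a b c d r ∧ ∀ p ∈ altOn ({a, b, c, d} : Finset β)ᶜ, g * ψ p * g⁻¹ = ψ (r * p * r⁻¹) := by
    intro g h1 h2
    obtain ⟨r, hr⟩ := (h.cf h4.ab).reg g (mul_inv_eq_iff_eq_mul.1 h1)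
    have k := fun p hp => act_iff.1 hr p (mem_altOn.1 hp).1 (fx p hp).a (fx p hp).b
    rcases fix_or h4.cd (comm_cd h h4 hr (mul_inv_eq_iff_eq_mul.1 h2)) with ⟨e1, e2⟩ | ⟨e1, e2⟩
    · exact ⟨_, ⟨oS_x r, oS_y r, e1, e2⟩, k⟩
    · refine ⟨Perm.ofSubtype r * swap c d, ⟨?_, ?_, by simp [e2], by simp [e1]⟩, fun p hp => ?_⟩
      · rw [Perm.mul_apply, swap_apply_of_ne_of_ne h4.ac h4.ad, oS_x]
      · rw [Perm.mul_apply, swap_apply_of_ne_of_ne h4.bc h4.bd, oS_y]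
      · rw [k p hp, mul_assoc _ (swap c d), ← fix_comm (fx p hp).c (fx p hp).d]
        congr 1
        group
  rcases hg with ⟨h1, h2⟩ | ⟨h1, h2⟩
  · exact key g h1 h2
  · have e : ∀ w, g * ψ (dt a c b d) * ψ w * (g * ψ (dt a c b d))⁻¹ =
        g * ψ (dt a c b d * w * (dt a c b d)⁻¹) * g⁻¹ := fun w => by rw [map_conj]; group
    obtain ⟨r, hr, k⟩ := key (g * ψ (dt a c b d)) (by rw [e, (dt_swap h4).1, h2]) (by rw [e, (dt_swap h4).2, h1])
    refine ⟨r, hr, fun p hp => ?_⟩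
    have := dt_conj p a c b d
    rw [(fx p hp).a, (fx p hp).b, (fx p hp).c, (fx p hp).d, mul_inv_eq_iff_eq_mul] at this
    rw [← k p hp, e, ← this, mul_inv_cancel_right]

theorem HsB.into3 (h : Hs ψ) {a b c d : β} (h4 : D4 a b c d) (hP : IsPGroup 2 P)
    (hn : P ≤ Np (ψ (swap a b)) (ψ (swap c d))) : ∃ g, g * ψ (swap a b) * g⁻¹ = ψ (swap a b) ∧
      g * ψ (swap c d) * g⁻¹ = ψ (swap c d) ∧ P ≤ cj(g, ψ.range) := by
  have cf := h.cf h4.ab
  obtain ⟨O, h1, h2, -⟩ := cf.exists_O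
  have e : ∀ (g : G) w, g * ψ (dt a c b d) * ψ w * (g * ψ (dt a c b d))⁻¹ =
      g * ψ (dt a c b d * w * (dt a c b d)⁻¹) * g⁻¹ := fun g w => by rw [map_conj]; group
  have vN : ψ (dt a c b d) ∈ Np (ψ (swap a b)) (ψ (swap c d)) :=
    .inr ⟨by rw [← map_conj, (dt_swap h4).1], by rw [← map_conj, (dt_swap h4).2]⟩
  have key : ∀ g : G, g * ψ (swap a b) * g⁻¹ = ψ (swap a b) → g * ψ (swap c d) * g⁻¹ = ψ (swap c d) →
      ∃ k ∈ Np (ψ (swap a b)) (ψ (swap c d)), k ∈ ψ.range ∧ g * k⁻¹ ∈ O := by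
    intro g k1 k2
    obtain ⟨η, c1, od⟩ := h.dec h4.ab (mul_inv_eq_iff_eq_mul.1 k1)
    refine ⟨ψ η, .inl ⟨mul_inv_eq_iff_eq_mul.2 (map_comm c1), mul_inv_eq_iff_eq_mul.2 (map_comm ?_)⟩, ⟨η, rfl⟩,
      (h1 _).2 od⟩
    obtain ⟨r, rfl | rfl⟩ := split h4.ab c1
    · exact comm_cd h h4 (by simpa using od.2.1.mul (h.act r)) (mul_inv_eq_iff_eq_mul.1 k2)
    · have a1 := od.2.1.mul (cf.cen.mul (h.act r))
      rw [← map_mul, inv_mul_cancel_right, one_mul, one_mul] at a1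
      rw [mul_assoc, comm_cd h h4 a1 (mul_inv_eq_iff_eq_mul.1 k2), ← mul_assoc, ← swap_comm' h4, mul_assoc]
  obtain ⟨n, hn, k⟩ := into_of (H := ψ.range) h2 (fun g hg => by
    rcases hg with ⟨k1, k2⟩ | ⟨k1, k2⟩
    · exact key g k1 k2
    · obtain ⟨w, w1, w2, w3⟩ := key (g * ψ (dt a c b d)) (by rw [e, (dt_swap h4).1, k2]) (by rw [e, (dt_swap h4).2, k1])
      exact ⟨w * (ψ (dt a c b d))⁻¹, mul_mem w1 (inv_mem vN), mul_mem w2 (inv_mem ⟨_, rfl⟩), by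
        rwa [mul_inv_rev, inv_inv, ← mul_assoc]⟩) hP hn
  rcases hn with ⟨k1, k2⟩ | ⟨k1, k2⟩
  · exact ⟨n, k1, k2, k⟩
  · exact ⟨n * ψ (dt a c b d), by rw [e, (dt_swap h4).1, k2], by rw [e, (dt_swap h4).2, k1], by
      rwa [← cj_cj, cj_of_mem (A := ψ.range) ⟨_, rfl⟩]⟩

theorem HsB.move (h : Hs ψ) (hc : Fintype.card β = Fintype.card α + 2) {a b c d : β}
    (h4 : D4 a b c d) (hu : Sw α (ψ (swap a b)) u) :
    ∃ g, g * ψ (swap a b) * g⁻¹ = ψ (swap a b) ∧ g * ψ (swap c d) * g⁻¹ = u := by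
  have cf := h.cf h4.ab
  obtain ⟨κ, x, y, hκ, t1⟩ := hu
  obtain ⟨τ, hτ⟩ := cf.reg u t1.comm
  have h1 := hκ.cw.tp cf.cw (by have := card_Rm h4.ab; unfold Rm at this; omega) t1.act hτ (tp_one.2 ⟨x, y, t1.ne, rfl⟩)
  obtain ⟨π, -, e⟩ := (tp_one.2 ⟨(⟨c, h4.ac.symm, h4.bc.symm⟩ : Rm a b), ⟨d, h4.ad.symm, h4.bd.symm⟩,
    fun k => h4.cd (congrArg Subtype.val k), rfl⟩).alt_conj h1
  have h2 := (h.act π).conj (act_swap h h4)
  rw [e] at h2
  have c1 : Commute (ψ (Perm.ofSubtype π)) (ψ (swap a b)) := map_comm (oS_comm π)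
  have c2 : Commute (ψ (swap c d)) (ψ (swap a b)) := map_comm (swap_comm' h4)
  obtain ⟨w, hw⟩ := isConj_iff.1 t1.cj
  obtain ⟨o, ho, k | k⟩ := cf.same_act ((c1.mul_left c2).mul_left c1.inv_left).eq t1.comm
    (Bas.iv_conj (h.cf h4.cd).iv _).1 (hw ▸ (Bas.iv_conj cf.iv w).1) h2 hτ
  · exact ⟨o * ψ (Perm.ofSubtype π), mul_inv_eq_iff_eq_mul.2 (Commute.mul_left ho.1 c1).eq, by rw [k]; group⟩
  · refine absurd (h.odd (k := 2) ⟨dt a b c d, a, b, h4.ab, tp_two.2 ⟨a, b, c, d, h4, rfl⟩, t1.cj.trans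
      (IsConj.symm (isConj_iff.2 ⟨o * ψ (Perm.ofSubtype π), ?_⟩))⟩) (by decide)
    rw [k, dt, map_mul, ← mul_inv_eq_iff_eq_mul.2 c1.eq]
    conv_lhs => rw [mul_inv_eq_iff_eq_mul.2 c1.eq]
    group

/-- The same for a pair of type one and a 2-group permuting the pair. -/
theorem Hs.into2 (h : Hs ψ) (hc : Fintype.card β = Fintype.card α + 2) {a b c d : β}
    (h4 : D4 a b c d) (hs : IsConj (ψ (swap a b)) s) (hu : Sw α s u) (hP : IsPGroup 2 P)
    (hn : ∀ x ∈ P, (x * s * x⁻¹ = s ∧ x * u * x⁻¹ = u) ∨ (x * s * x⁻¹ = u ∧ x * u * x⁻¹ = s)) :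
    ∃ g, g * ψ (swap a b) * g⁻¹ = s ∧ g * ψ (swap c d) * g⁻¹ = u ∧ P ≤ cj(g, ψ.range) := by
  obtain ⟨g, rfl⟩ := isConj_iff.1 hs
  obtain ⟨w, w1, w2⟩ := move (h.toC g) hc h4 hu
  have e1 : w * g * ψ (swap a b) * (w * g)⁻¹ = g * ψ (swap a b) * g⁻¹ :=
    Eq.trans (by simp only [MonoidHom.comp_apply, MulEquiv.coe_toMonoidHom, MulAut.conj_apply]; group) w1
  have e2 : w * g * ψ (swap c d) * (w * g)⁻¹ = u :=
    Eq.trans (by simp only [MonoidHom.comp_apply, MulEquiv.coe_toMonoidHom, MulAut.conj_apply]; group) w2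
  rw [← e1, ← e2] at hn ⊢
  obtain ⟨n, k1, k2, k⟩ := into3 (h.toC (w * g)) h4 hP hn
  rw [range_toC, cj_cj] at k
  simp only [MonoidHom.comp_apply, MulEquiv.coe_toMonoidHom, MulAut.conj_apply] at k1 k2
  exact ⟨n * (w * g), by rw [← k1]; group, by rw [← k2]; group, k⟩

theorem Gl.gh {x y : β} (h : Gl ι (ψ (swap x y)) X) (hxy : x ≠ y) (hs : Hs ψ)
    (hc : Fintype.card β = Fintype.card α + 2) : GH ψ X := by
  have cf := hs.cf hxy
  have := h.fr.nX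
  refine ⟨hs, fun x' y' h' => h.fr.conj (swap_conj hxy h'), fun p hp => ?_⟩
  obtain ⟨a, b, c, d, h4⟩ := exists_D4 (α := Rm x y) (by have := cf.eight; unfold Rm; omega)
  refine Perm.alternatingGroup_le_of_normal (N := X.comap ψ) (by rw [Nat.card_eq_fintype_card]; have := hs.ten; omega)
    ((nontrivial_iff_exists_ne_one _).2 ⟨Perm.ofSubtype (dt a b c d), ?_, fun e => h4.iv.2
      (Perm.ofSubtype_injective (e.trans (map_one _).symm))⟩) hp
  rw [mem_comap, ← ev_sub ψ _ h4.mem]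
  exact h.AX (h.cf.cw.range_eq cf.cw (by have := card_Rm hxy; unfold Rm at this; omega) ▸ ev_mem _)

theorem Hs.congr (h : Hs ψ) (e : γ ≃ β) : Hs (ψ.comp e.permCongrHom.toMonoidHom) := by
  have v : ∀ p, (ψ.comp e.permCongrHom.toMonoidHom) p = ψ (e.permCongr p) := fun _ => rfl
  refine ⟨Fintype.card_congr e ▸ h.ten, h.inj.comp e.permCongrHom.injective, fun x y hxy g hg => ?_,
    fun x y hxy g hg hp h2 => ?_⟩ <;> rw [v, pc_swap] at hg
  · obtain ⟨σ, h1, h2, k⟩ := h.reg _ _ (e.injective.ne hxy) g hg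
    refine ⟨e.permCongr.symm σ, by simp [h1], by simp [h2], fun p hp hx hy => ?_⟩
    rw [v, v, pc_conj, Equiv.apply_symm_apply]
    exact k _ ((pc_mem e).2 hp) (by simp [hx]) (by simp [hy])
  · rw [v, pc_swap]
    refine h.ker _ _ (e.injective.ne hxy) g hg (fun p k hx hy => ?_) h2
    obtain ⟨q, rfl⟩ := e.permCongr.surjective p
    exact hp q ((pc_mem e).1 k) (by simpa using hx) (by simpa using hy)

theorem Ty.congr (h : Ty ψ k) (e : γ ≃ β) : Ty (ψ.comp e.permCongrHom.toMonoidHom) k := by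
  obtain ⟨p, x, y, h1, h2, h3⟩ := h
  obtain ⟨f, f1, f2⟩ := h2.std
  refine ⟨e.permCongr.symm p, e.symm x, e.symm y, e.symm.injective.ne h1, tp_of_std (f.trans e.symm.toEmbedding)
    (fun i b => by simp [f1]) fun z hz => ?_, ?_⟩
  · have := f2 (e z) fun w k => hz w (by simp [k])
    simp [this]
  · change IsConj (ψ (e.permCongr _)) (ψ (e.permCongr _))
    rwa [pc_swap, e.apply_symm_apply, e.apply_symm_apply, Equiv.apply_symm_apply]

theorem GH.congr (h : GH ψ X) (e : γ ≃ β) : GH (ψ.comp e.permCongrHom.toMonoidHom) X :=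
  ⟨h.hs.congr e, fun x y hxy => by
    change Fr X (ψ (e.permCongr _))
    rw [pc_swap]
    exact h.fr _ _ (e.injective.ne hxy), fun _ hp => h.AX _ ((pc_mem e).2 hp)⟩

theorem Ty.of_toC (h : Ty ((MulAut.conj g).toMonoidHom.comp ψ) k) : Ty ψ k :=
  let ⟨p, x, y, h1, h2, h3⟩ := h
  ⟨p, x, y, h1, h2, ((isConj_iff.2 ⟨g, rfl⟩ : IsConj (ψ (swap x y)) _).trans h3).trans
    (isConj_iff.2 ⟨g, rfl⟩ : IsConj (ψ p) _).symm⟩

/-- The types of the neighbours. -/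
theorem Hs.rel_type (h : Hs ψ) (hc : Fintype.card β = Fintype.card α + 2) {x y : β} (hxy : x ≠ y)
    (hs : IsConj (ψ (swap x y)) s) (h' : Cf κ s) (hu : IsConj s u) (hcm : u * s = s * u)
    (ha : Act κ u σ) (hk : Tp σ k) : (Odd k ∧ Ty ψ k) ∨ (Even k ∧ Ty ψ (k + 1)) := by
  obtain ⟨w, hw⟩ := isConj_iff.1 hu
  obtain ⟨g, rfl, k1⟩ := h.into hxy hs (Bas.pg_zpowers (hw ▸ (Bas.iv_conj h'.iv w).1 : u * u = 1)) (zpowers_le.2 (mem_C1.2 hcm))
  rw [← range_toC] at k1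
  obtain ⟨η, rfl⟩ := k1 (mem_zpowers u)
  have h1 := h.toC g
  have cf := h1.cf hxy
  have c : Fintype.card α = Fintype.card (Rm x y) := by have := card_Rm hxy; omega
  obtain ⟨r, rfl | rfl⟩ := split (η := η) hxy (h1.inj (by rw [map_mul, map_mul]; exact hcm))
  · have ty := Ty.of_toC ⟨_, x, y, hxy, Tp.ofSubtype.2 (h'.cw.tp cf.cw c ha (h1.act r) hk), hu⟩
    exact .inl ⟨h.odd ty, ty⟩
  · have a1 := cf.cen.mul (h1.act r)
    rw [← map_mul, one_mul] at a1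
    have ty := Ty.of_toC ⟨_, x, y, hxy, tp_swap_mul hxy (h'.cw.tp cf.cw c ha a1 hk), hu⟩
    exact .inr ⟨Nat.odd_add_one.1 (h.odd ty) |> Nat.not_odd_iff_even.1, ty⟩

theorem GH.core (h : GH ψ X) : oddCore G = ⊥ := by
  obtain ⟨a, b, c, d, h4⟩ := exists_D4 (α := β) (by have := h.hs.ten; omega)
  exact (h.fr a b h4.ab).core ⟨_, h.AX _ h4.mem, by rw [← map_mul, h4.iv.1, map_one],
    fun e => h4.iv.2 (h.hs.inj (e.trans (map_one ψ).symm))⟩

end Cfsg.Agent.SAq
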