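import Mathlib
import Cfsg.Agent.SAq.HsB
import Cfsg.Agent.SAq.Typ

/-! Helpers for `SAq/H3A`, `SAq/H5`, `SAq/CA`. -/

set_option autoImplicit false
set_option linter.unusedSectionVars false

namespace Cfsg.Agent.SAq

open Cfsg Cfsg.Agent.GT Cfsg.Agent.Loc.Mss Cfsg.Agent.Sym Cfsg.Agent.Loc.SO Cfsg.Agent.SAn Subgroup Equiv
open Cfsg.Agent.StdB (C1 mem_C1)
open scoped commutatorElement

variable {α β γ : Type} [Fintype α] [DecidableEq α] [Fintype β] [DecidableEq β] [Fintype γ]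
  [DecidableEq γ] {G : Type*} [Group G] [Finite G] {ι κ l : alternatingGroup α →* G}
  {ψ : Perm β →* G} {X P M L : Subgroup G} {t s u g o : G} {p q σ τ π : Perm α} {k j : ℕ}

namespace H3

theorem res {Q : β → Prop} [DecidablePred Q] {r : Perm β} (h : ∀ z, ¬ Q z → r z = z) :
    ∃ p : Perm {z // Q z}, Perm.ofSubtype p = r := by
  have h2 : ∀ z, r z ≠ z → Q z := fun z hz => by_contra fun k => hz (h z k)
  refine ⟨_, Perm.ofSubtype_subtypePerm (fun z => ⟨fun k => by_contra fun k' => k' (h z k' ▸ k),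
    fun k => by_contra fun k' => k' ((r.injective (h _ k')).symm ▸ k)⟩) h2⟩

theorem lift {H : Type*} [Group H] {Q : β → Prop} [DecidablePred Q] (F : H →* Perm β)
    (h : ∀ r z, ¬ Q z → F r z = z) : ∃ F' : H →* Perm {z // Q z}, ∀ r, Perm.ofSubtype (F' r) = F r := by
  choose f hf using fun r => res (h r)
  exact ⟨MonoidHom.mk' f fun a b => Perm.ofSubtype_injective (by rw [map_mul, hf, hf, hf, map_mul]), hf⟩

/-- Permutations of the image of an embedding. -/
noncomputable abbrev E (e : γ ↪ β) : Perm γ →* Perm β := Perm.viaEmbeddingHom e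

theorem E_e (e : γ ↪ β) (ν : Perm γ) (i : γ) : E e ν (e i) = e (ν i) := Perm.viaEmbedding_apply _ _ _

theorem E_out (e : γ ↪ β) (ν : Perm γ) {x : β} (hx : ∀ i, e i ≠ x) : E e ν x = x :=
  Perm.viaEmbedding_apply_of_notMem _ _ _ fun ⟨i, hi⟩ => hx i hi

theorem E_inj (e : γ ↪ β) : Function.Injective (E e) := Perm.viaEmbeddingHom_injective _

theorem E_swap (e : γ ↪ β) (i j : γ) : E e (swap i j) = swap (e i) (e j) := by
  ext x
  by_cases k : ∃ l, e l = x
  · obtain ⟨l, rfl⟩ := k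
    rw [E_e, e.injective.swap_apply]
  · push Not at k
    rw [E_out e _ k, swap_apply_of_ne_of_ne (k i).symm (k j).symm]

theorem tp_E (e : γ ↪ β) {ν : Perm γ} (h : Tp ν k) : Tp (E e ν) k := by
  refine ⟨by rw [← map_mul, h.1, map_one], ?_⟩
  rw [E, Perm.viaEmbeddingHom_apply, Perm.viaEmbedding, ← h.2]
  exact @Perm.card_support_extend_domain _ _ _ _ _ _ _ (_) _ _

theorem disj_E (e : γ ↪ β) (ν : Perm γ) {r : Perm β} (hr : ∀ i, r (e i) = e i) : (E e ν).Disjoint r :=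
  fun x => (em (∃ i, e i = x)).symm.imp (fun k => E_out e ν fun i hi => k ⟨i, hi⟩)
    fun ⟨i, hi⟩ => hi ▸ hr i

theorem exists_emb {n : ℕ} (h : n ≤ Fintype.card β) : Nonempty (Fin n ↪ β) :=
  Function.Embedding.nonempty_of_card_le (by simpa using h)

theorem tp_swap {x y : β} (h : x ≠ y) : Tp (swap x y) 1 := tp_one.2 ⟨x, y, h, rfl⟩

theorem disj_swap {x y : β} {r : Perm β} (hx : r x = x) (hy : r y = y) : (swap x y).Disjoint r :=
  fun z => by
    by_cases h1 : z = x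
    · exact .inr (h1 ▸ hx)
    by_cases h2 : z = y
    · exact .inr (h2 ▸ hy)
    exact .inl (swap_apply_of_ne_of_ne h1 h2)

theorem comm_map {r r' : Perm β} (h : r * r' = r' * r) : ψ r * ψ r' = ψ r' * ψ r := by
  rw [← map_mul, h, map_mul]

theorem conj_comm_conj {x y : G} (h1 : IsConj s x) (h2 : IsConj s y) : IsConj x y := h1.symm.trans h2

/-- The action of a permutation fixing `x`, `y` on the remaining points. -/
theorem act_res (h : Hs ψ) {x y : β} {r : Perm β} (hx : r x = x) (hy : r y = y) :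
    ∃ p : Perm (Rm x y), Perm.ofSubtype p = r ∧ Act (sub ψ fun z => z ≠ x ∧ z ≠ y) (ψ r) p := by
  obtain ⟨p, rfl⟩ := res (Q := fun z => z ≠ x ∧ z ≠ y) (r := r) fun z hz => by
    by_cases h1 : z = x
    · exact h1 ▸ hx
    · rw [not_and, not_not] at hz
      exact hz h1 ▸ hy
  exact ⟨p, rfl, h.act p⟩

theorem card_eq {x y : β} (hxy : x ≠ y) (hc : Fintype.card β = Fintype.card α + 2) :
    Fintype.card (Rm x y) = Fintype.card α := by
  have := card_Rm hxy
  omega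

theorem exists_cf (h : Hs ψ) (hc : Fintype.card β = Fintype.card α + 2) {x y : β} (hxy : x ≠ y)
    (hs : IsConj (ψ (swap x y)) s) : ∃ κ : alternatingGroup α →* G, Cf κ s := by
  obtain ⟨a, b, c, d, h4⟩ := exists_D4 (α := β) (by have := h.ten; omega)
  obtain ⟨κ, -, -, h', -⟩ := h.sw hc h4
  obtain ⟨π, -, e⟩ := (tp_swap h4.ab).alt_conj (tp_swap hxy)
  refine h'.emb (IsConj.trans ?_ hs)
  exact isConj_iff.2 ⟨ψ π, by rw [← map_inv, ← map_mul, ← map_mul, e]⟩

/-- The kernel of the action of the centralizer in the symmetric group. -/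
theorem ker (h : Hs ψ) {τ r : Perm β} (hτ : Tp τ k) (h2 : 2 ≤ k) (h3 : Fintype.card β ≠ 2 * k + 3)
    (h' : Cf κ (ψ τ)) (hr : r * τ = τ * r) (ha : Act κ (ψ r) 1) : r = 1 ∨ r = τ := by
  obtain ⟨O, hO, ho, hn⟩ := h'.exists_O
  have hN : O.comap ψ = ⊥ := odd_norm hτ h2 h3 (ho.of_dvd_nat (card_comap_dvd_of_injective O ψ h.inj))
    (fun a ha => mem_C1.2 (h.inj (by rw [map_mul, map_mul]; exact ((hO _).1 ha).1)))
    fun q hq => mem_norm_of_cj_le (cj_le_iff.2 fun a ha => by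
      rw [mem_comap, map_mul, map_mul, map_inv]
      exact conj_mem_of_norm (hn (mem_C1.2 (comm_map (mem_C1.1 hq.1)))) ha)
  obtain ⟨o, h1, e | e⟩ := h'.ker' (comm_map hr) ha
  · exact .inl (mem_bot.1 (hN ▸ (show r ∈ O.comap ψ from (hO _).2 (e ▸ h1))))
  · have : r * τ ∈ O.comap ψ := (hO _).2 (by rwa [map_mul, e, mul_assoc, h'.iv.1, mul_one])
    rw [hN, mem_bot] at this
    exact .inr (by rw [← mul_one r, ← hτ.1, ← mul_assoc, this, one_mul])

theorem res_mul {a b c d : α} (h : D4 a b c d) {ν μ : Perm (Fin 4)}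
    (hν : ∀ i, σ (P0.e h i) = P0.e h (ν i)) (hμ : ∀ i, τ (P0.e h i) = P0.e h (μ i)) (i : Fin 4) :
    (σ * τ) (P0.e h i) = P0.e h ((ν * μ) i) := by rw [Perm.mul_apply, hμ, hν, Perm.mul_apply]

theorem res_eq {a b c d : α} (h : D4 a b c d) {ν μ : Perm (Fin 4)}
    (hν : ∀ i, σ (P0.e h i) = P0.e h (ν i)) (hμ : ∀ i, σ (P0.e h i) = P0.e h (μ i)) : ν = μ :=
  Perm.ext fun i => (P0.e h).injective ((hν i).symm.trans (hμ i))

theorem fx_of_res {a b c d : α} (h : D4 a b c d) (hν : ∀ i, σ (P0.e h i) = P0.e h i) : Fx a b c d σ :=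
  ⟨hν 0, hν 1, hν 2, hν 3⟩

theorem four : ∀ ν : Perm (Fin 4), ν * dt 0 1 2 3 = dt 0 1 2 3 * ν → ν * ν * ν = 1 → ν = 1 := by
  decide +kernel

theorem fx_of_three {a b c d : α} (h : D4 a b c d) (hc : σ * dt a b c d = dt a b c d * σ)
    (h3 : σ * σ * σ = 1) : Fx a b c d σ := by
  obtain ⟨ν, hν⟩ := P0.exists_res' h (h.map_of_comm hc)
  have := four ν (P0.res_comm h hν (by rwa [P0.Φ1])) (res_eq h (res_mul h (res_mul h hν hν) hν)
    fun i => by rw [h3]; rfl)
  subst this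
  exact fx_of_res h hν

theorem cyc : ∀ ν μ : Perm (Fin 4), ν * dt 0 1 2 3 = dt 0 1 2 3 * ν → ν * dt 0 2 1 3 = dt 0 2 1 3 * ν →
    μ * dt 0 1 2 3 = dt 0 2 1 3 * μ → μ * dt 0 2 1 3 = dt 0 1 2 3 * dt 0 2 1 3 * μ → ν * μ = μ * ν →
    ν = 1 := by
  decide +kernel

theorem fx_of_cyc {a b c d : α} (h : D4 a b c d) (h1 : σ * dt a b c d = dt a b c d * σ)
    (h2 : σ * dt a c b d = dt a c b d * σ) (h3 : π * dt a b c d = dt a c b d * π)
    (h4 : π * dt a c b d = dt a b c d * dt a c b d * π) (h5 : σ * π = π * σ) : Fx a b c d σ := by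
  obtain ⟨ν, hν⟩ := P0.exists_res' h (h.map_of_comm h1)
  obtain ⟨μ, hμ⟩ := P0.exists_res' h (σ := π) (by
    rw [← P0.supp (h.map π), ← dt_conj, h3, mul_inv_cancel_right, P0.supp h.acb, Finset.insert_comm c])
  have k1 := P0.Φ_e h (dt 0 1 2 3)
  have k2 := P0.Φ_e h (dt 0 2 1 3)
  rw [P0.Φ1] at k1
  rw [P0.Φ2] at k2
  have := cyc ν μ (res_eq h (res_mul h hν k1) (h1 ▸ res_mul h k1 hν))
    (res_eq h (res_mul h hν k2) (h2 ▸ res_mul h k2 hν)) (res_eq h (res_mul h hμ k1) (h3 ▸ res_mul h k2 hμ))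
    (res_eq h (res_mul h hμ k2) (h4 ▸ res_mul h (res_mul h k1 k2) hμ))
    (res_eq h (res_mul h hν hμ) (h5 ▸ res_mul h hμ hν))
  subst this
  exact fx_of_res h hν

theorem disj_dt {a b c d : α} (hσ : Fx a b c d σ) : (dt a b c d).Disjoint σ := fun x => by
  by_cases k : SAn.Out a b c d x
  · exact .inl (by simp only [dt, Perm.mul_apply, swap_apply_of_ne_of_ne k.c k.d,
      swap_apply_of_ne_of_ne k.a k.b])
  · rw [P0.out_iff, not_not] at k
    simp only [Finset.mem_insert, Finset.mem_singleton] at k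
    rcases k with rfl | rfl | rfl | rfl
    exacts [.inr hσ.a, .inr hσ.b, .inr hσ.c, .inr hσ.d]

/-- A transposition of an element of type three acts with type two. -/
theorem nb2 (h : Hs ψ) (h3 : Ty ψ 3) (hc : Fintype.card β = Fintype.card α + 2) {x y : β} (hxy : x ≠ y)
    {r : Perm β} (hr : Tp r 2) (hx : r x = x) (hy : r y = y) (hs : s = ψ (swap x y * r)) (h' : Cf κ s) :
    ∃ τ, Act κ (ψ (swap x y)) τ ∧ Tp τ 2 := by
  obtain ⟨p, rfl, -⟩ := act_res h hx hy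
  have hp := Tp.ofSubtype.1 hr
  have cj := h3.all hxy ((tp_swap hxy).mul_disjoint hr (disj_swap hx hy))
  have cm : ψ (swap x y) * s = s * ψ (swap x y) := by
    rw [hs]
    exact comm_map (by rw [mul_assoc, ← (disj_swap hx hy).commute.eq])
  rw [← hs] at cj
  obtain ⟨κ', h''⟩ := (h.cf hxy).emb cj
  obtain ⟨τ', a'⟩ := h''.reg _ cm
  obtain ⟨τ, a⟩ := h'.reg _ cm
  refine ⟨τ, a, h''.cw.tp h'.cw (card_eq hxy hc) a' a ?_⟩
  rw [map_mul, ← ev_sub ψ _ (hp.even_iff.2 even_two)] at hs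
  subst hs
  exact (h.cf hxy).typ2 hp h'' cj a'

/-- The type of the action on the component of a transposition. -/
theorem tp_act (h : Hs ψ) (hc : Fintype.card β = Fintype.card α + 2) {x y : β} (hxy : x ≠ y)
    {r : Perm β} (hr : Tp r k) (hx : r x = x) (hy : r y = y) (h' : Cw κ (ψ (swap x y)))
    (ha : Act κ (ψ r) σ) : Tp σ k := by
  obtain ⟨p, rfl, a⟩ := act_res h hx hy
  exact (h.cf hxy).cw.tp h' (card_eq hxy hc) a ha (Tp.ofSubtype.1 hr)

end H3

end Cfsg.Agent.SAq
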