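import Mathlib
import Cfsg.Agent.SAq.H3Aa

/-! Permutations of five pairs of points, for `SAq/B10`. -/

set_option autoImplicit false
set_option linter.unusedSectionVars false
set_option synthInstance.maxSize 4096

namespace Cfsg.Agent.SAq

open Cfsg Cfsg.Agent.GT Cfsg.Agent.Loc.Mss Cfsg.Agent.Sym Cfsg.Agent.Loc.SO Cfsg.Agent.SAn Subgroup Equiv
open Cfsg.Agent.SAq.H3 (E E_e E_out E_inj E_swap tp_E)

variable {α : Type} [Fintype α] [DecidableEq α] {p q σ σ' τ r r' : Perm α} {k j : ℕ}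

namespace B10

/-- Five pairs of points. -/
abbrev I := Fin 5 × Bool

/-- The flip of a pair. -/
def f (i : Fin 5) : Perm I := swap (i, false) (i, true)

/-- The exchange of two pairs. -/
def d (i j : Fin 5) : Perm I := swap (i, false) (j, false) * swap (i, true) (j, true)

/-- The involution of type four. -/
def τ0 : Perm I := f 0 * f 1 * (f 2 * f 3)

/-- Extension to the fifth pair. -/
def ext (π : Perm (Fin 4)) : Perm (Fin 5) where
  toFun i := if h : i.val < 4 then (π ⟨i, h⟩).castSucc else i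
  invFun i := if h : i.val < 4 then (π.symm ⟨i, h⟩).castSucc else i
  left_inv i := by
    by_cases h : i.val < 4
    · simp [h]
    · simp [h]
  right_inv i := by
    by_cases h : i.val < 4
    · simp [h]
    · simp [h]

/-- The flip or the identity. -/
def nb (b : Bool) : Perm Bool := if b then swap false true else 1

/-- The elements of the centralizer of `τ0` on the first four pairs. -/
def M (π : Perm (Fin 4)) (a b c e : Bool) : Perm I :=
  Equiv.prodShear (ext π) fun i => nb (![a, b, c, e, false] i)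

theorem M_fst (π : Perm (Fin 4)) (a b c e : Bool) (i : Fin 4) (x : Bool) :
    M π a b c e (i.castSucc, x) = ((π i).castSucc, nb (![a, b, c, e] i) x) := by
  refine Prod.ext (by simp [M, ext]) ?_
  fin_cases i <;> rfl

theorem M_hi (π : Perm (Fin 4)) (a b c e x : Bool) : M π a b c e (4, x) = (4, x) := rfl

theorem M_pi {π π' ρ ρ' : Perm (Fin 4)} {a b c e a' b' c' e' x y z w x' y' z' w' : Bool}
    (h : M π a b c e * M π' a' b' c' e' = M ρ x y z w * M ρ' x' y' z' w') : π * π' = ρ * ρ' := by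
  ext i
  have := congrArg (fun u : Perm I => (u (i.castSucc, false)).1.val) h
  simp only [Perm.mul_apply] at this
  rw [M_fst, M_fst, M_fst, M_fst] at this
  exact this

theorem M_one : M 1 false false false false = 1 := by decide +kernel

theorem c1a : ∀ π a b c e, M π a b c e * M π a b c e * M π a b c e = 1 →
    M π a b c e = 1 ∨ (π * π * π = 1 ∧ π ≠ 1) := by decide +kernel

theorem c1c : ∀ π ρ : Perm (Fin 4), π * π * π = 1 → π ≠ 1 → ρ * ρ = 1 → π * ρ = ρ * π → ρ = 1 := by
  decide +kernel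

theorem c1d : ∀ a b c e a' b' c' e', M 1 a b c e * M 1 a' b' c' e' * M 1 a b c e ≠ τ0 * M 1 a' b' c' e' := by
  decide +kernel

/-- Products of two flips. -/
def L6 : Fin 6 → Perm I := ![f 0 * f 1, f 0 * f 2, f 0 * f 3, f 1 * f 2, f 1 * f 3, f 2 * f 3]

theorem c2 : ∀ π a b c e, M π a b c e * M π a b c e = 1 → ∀ k : Fin 2,
    ((M π a b c e).support.card + 2 * k.val) % 4 = 0 → (M π a b c e).support.card + 2 * k.val ≠ 0 →
    (M π a b c e).support.card + 2 * k.val ≠ 8 → (τ0 * M π a b c e).support.card + 2 * k.val ≠ 0 →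
    (τ0 * M π a b c e).support.card + 2 * k.val ≠ 8 → k = 0 ∧ ∃ i : Fin 6, M π a b c e = L6 i := by
  decide +kernel

theorem c3 : ∀ i j l : Fin 6, L6 i * L6 j = L6 l → ∃ ρ, L6 i * M ρ false false false false =
    M ρ false false false false * (f 0 * f 1) ∧ L6 j * M ρ false false false false =
    M ρ false false false false * (f 0 * f 2) ∧ τ0 * M ρ false false false false =
    M ρ false false false false * τ0 := by decide +kernel

theorem c4 : ∀ π a b c e, M π a b c e * (f 0 * f 1) = f 0 * f 1 * M π a b c e →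
    M π a b c e * (f 0 * f 2) = τ0 * (f 0 * f 2) * M π a b c e → π = swap 0 1 * swap 2 3 := by
  decide +kernel

theorem c4' : ∀ π a b c e, M π a b c e * (f 0 * f 1) = τ0 * (f 0 * f 1) * M π a b c e →
    M π a b c e * (f 0 * f 2) = f 0 * f 2 * M π a b c e → π = swap 0 2 * swap 1 3 := by
  decide +kernel

theorem c5 : ∀ π a b c e, M π a b c e * (f 0 * f 1) = f 0 * f 1 * M π a b c e →
    M π a b c e * (f 0 * f 2) = f 0 * f 2 * M π a b c e → π = 1 := by decide +kernel

theorem c5a : ∀ a b c e a' b' c' e', M 1 a b c e * M (swap 0 1 * swap 2 3) a' b' c' e' * M 1 a b c e =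
    τ0 * (f 0 * f 1) * M (swap 0 1 * swap 2 3) a' b' c' e' → a = b ∧ c ≠ e := by decide +kernel

theorem c5b : ∀ a b c e a' b' c' e', M 1 a b c e * M (swap 0 2 * swap 1 3) a' b' c' e' * M 1 a b c e =
    f 0 * f 2 * M (swap 0 2 * swap 1 3) a' b' c' e' → b = e ∧ a ≠ c := by decide +kernel

theorem c5c : ∀ a b c e, a = b → c ≠ e → b = e → M 1 a b c e = f 2 ∨ M 1 a b c e = f 2 * τ0 := by
  decide +kernel

theorem c6 : ∀ π a b c e, M π a b c e * (f 0 * f 1) = f 0 * f 1 * M π a b c e →
    M π a b c e * (f 0 * f 2) = f 0 * f 1 * (f 0 * f 2) * M π a b c e → π = swap 0 1 := by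
  decide +kernel

theorem c6a : ∀ a b c e a' b' c' e', M (swap 0 1) a b c e * M (swap 0 1) a b c e = 1 →
    M (swap 0 1) a b c e * M (swap 0 1 * swap 2 3) a' b' c' e' =
      M (swap 0 1 * swap 2 3) a' b' c' e' * M (swap 0 1) a b c e →
    ∃ u ∈ [1, f 1], M (swap 0 1) a b c e * u = u * d 0 1 ∨
      M (swap 0 1) a b c e * u = u * (d 0 1 * (f 2 * f 3)) := by decide +kernel

theorem c7 : ∀ π a b c e, M π a b c e * (f 0 * f 1) = f 0 * f 1 * M π a b c e →
    M π a b c e * (f 0 * f 2) = f 0 * f 2 * M π a b c e →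
    M π a b c e * (d 0 1 * d 2 3) = d 0 1 * d 2 3 * M π a b c e →
    M π a b c e * (d 0 2 * d 1 3) = d 0 2 * d 1 3 * M π a b c e →
    M π a b c e = 1 ∨ M π a b c e = τ0 := by decide +kernel

variable {e : I ↪ α} {w w' : Perm I}

/-- Fixes the last pair. -/
def Hi (w : Perm I) : Prop := ∀ b, w (4, b) = (4, b)

instance : DecidablePred Hi := fun _ => inferInstanceAs (Decidable (∀ _, _))

/-- Fixes the first four pairs. -/
def Lo (e : I ↪ α) (r : Perm α) : Prop := ∀ z : I, z.1 ≠ 4 → r (e z) = e z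

/-- Restriction to the first four pairs. -/
structure Rs (e : I ↪ α) (σ : Perm α) (w : Perm I) : Prop where
  hi : Hi w
  ap : ∀ z : I, z.1 ≠ 4 → σ (e z) = e (w z)

theorem Hi.low (h : Hi w) {z : I} (hz : z.1 ≠ 4) : (w z).1 ≠ 4 := fun k => by
  have : w z = w (4, (w z).2) := by rw [h]; exact Prod.ext k rfl
  exact hz (by rw [w.injective this])

theorem Hi.mul (h : Hi w) (h' : Hi w') : Hi (w * w') := fun b => by rw [Perm.mul_apply, h', h]

theorem Rs.mul (h : Rs e σ w) (h' : Rs e σ' w') : Rs e (σ * σ') (w * w') :=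
  ⟨h.hi.mul h'.hi, fun z hz => by
    rw [Perm.mul_apply, h'.ap z hz, h.ap _ (h'.hi.low hz), Perm.mul_apply]⟩

theorem Rs.uniq (h : Rs e σ w) (h' : Rs e σ w') : w = w' := by
  refine Equiv.ext fun z => ?_
  by_cases hz : z.1 = 4
  · obtain ⟨i, b⟩ := z
    obtain rfl : i = 4 := hz
    rw [h.hi, h'.hi]
  · exact e.injective ((h.ap z hz).symm.trans (h'.ap z hz))

theorem Rs.of (h : Hi w) : Rs e (E e w) w := ⟨h, fun z _ => E_e e w z⟩

theorem Lo.rs (h : Lo e r) : Rs e r 1 := ⟨fun _ => rfl, h⟩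

theorem Rs.lo (h : Rs e r 1) : Lo e r := h.ap

theorem Lo.one : Lo e 1 := fun _ _ => rfl

theorem Lo.mul (h : Lo e r) (h' : Lo e r') : Lo e (r * r') := fun z hz => by
  rw [Perm.mul_apply, h' z hz, h z hz]

theorem Lo.disj (h : Lo e r) (hw : Hi w) : (E e w).Disjoint r := fun x => by
  by_cases k : ∃ z, e z = x
  · obtain ⟨⟨i, b⟩, rfl⟩ := k
    by_cases hi : i = 4
    · subst hi; exact .inl (by rw [E_e, hw])
    · exact .inr (h _ hi)
  · exact .inl (E_out e w fun z hz => k ⟨z, hz⟩)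

theorem Lo.comm (h : Lo e r) (hw : Hi w) : E e w * r = r * E e w := (h.disj hw).commute.eq

theorem Rs.dec (h : Rs e σ w) : ∃ r, Lo e r ∧ σ = E e w * r :=
  ⟨(E e w)⁻¹ * σ, fun z hz => by
    rw [Perm.mul_apply, h.ap z hz, ← E_e, Perm.inv_eq_iff_eq], by group⟩

theorem Lo.rs' (h : Lo e r) (hw : Hi w) : Rs e (E e w * r) w := by
  simpa using (Rs.of hw).mul h.rs

theorem τ0_ap : ∀ z : I, z.1 ≠ 4 → τ0 z = (z.1, !z.2) := by decide +kernel

theorem exists_rs (h : σ * E e τ0 = E e τ0 * σ) : ∃ π a b c x, Rs e σ (M π a b c x) := by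
  have k1 : ∀ i : Fin 4, ∃ z : I, z.1 ≠ 4 ∧ σ (e (i.castSucc, false)) = e z := fun i => by
    have h1 : (i.castSucc, false).1 ≠ (4 : Fin 5) := (Fin.castSucc_lt_last i).ne
    have h2 : E e τ0 (σ (e (i.castSucc, false))) ≠ σ (e (i.castSucc, false)) := by
      rw [← Perm.mul_apply, ← h, Perm.mul_apply, E_e, τ0_ap _ h1]
      simp
    by_contra k
    push Not at k
    refine h2 ?_
    by_cases k2 : ∃ z, e z = σ (e (i.castSucc, false))
    · obtain ⟨⟨l, b⟩, hz⟩ := k2
      obtain rfl : l = 4 := by_contra fun hl => k (l, b) hl hz.symm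
      rw [← hz, E_e, (by decide +kernel : Hi τ0)]
    · exact E_out e _ fun z hz => k2 ⟨z, hz⟩
  choose z hz hσ using k1
  have k2 : ∀ i : Fin 4, σ (e (i.castSucc, true)) = e ((z i).1, !(z i).2) := fun i => by
    have h1 : (i.castSucc, false).1 ≠ (4 : Fin 5) := (Fin.castSucc_lt_last i).ne
    have := congrArg (fun u : Perm α => u (e (i.castSucc, false))) h
    simp only [Perm.mul_apply, E_e, τ0_ap _ h1, hσ, τ0_ap _ (hz i)] at this
    exact this
  have lt : ∀ i, (z i).1.val < 4 := fun i => by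
    have := (z i).1.2
    have : (z i).1.val ≠ 4 := fun k => hz i (Fin.ext k)
    omega
  let π : Fin 4 → Fin 4 := fun i => ⟨(z i).1.val, lt i⟩
  have k3 : ∀ (i : Fin 4) b, σ (e (i.castSucc, b)) = e ((π i).castSucc, nb (z i).2 b) := fun i b => by
    cases b
    · rw [hσ]; congr 1; refine Prod.ext rfl ?_; cases (z i).2 <;> rfl
    · rw [k2]; congr 1; refine Prod.ext rfl ?_; cases (z i).2 <;> rfl
  have inj : Function.Injective π := fun i l k => by
    have h1 := k3 i ((nb (z i).2).symm false)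
    have h2 := k3 l ((nb (z l).2).symm false)
    rw [apply_symm_apply] at h1 h2
    rw [k, ← h2] at h1
    exact Fin.castSucc_injective _ (congrArg Prod.fst (e.injective (σ.injective h1)))
  refine ⟨Equiv.ofBijective π (Finite.injective_iff_bijective.1 inj), (z 0).2, (z 1).2, (z 2).2,
    (z 3).2, M_hi _ _ _ _ _, fun ⟨i, b⟩ hi => ?_⟩
  obtain ⟨i, rfl⟩ := Fin.exists_castSucc_eq.2 hi
  rw [M_fst, k3]
  fin_cases i <;> rfl

theorem E_trans (e : I ↪ α) (u w : Perm I) : E (u.toEmbedding.trans e) w = E e (u * w * u⁻¹) := by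
  ext x
  by_cases k : ∃ z, e z = x
  · obtain ⟨z, rfl⟩ := k
    rw [E_e]
    have := E_e (u.toEmbedding.trans e) w (u⁻¹ z)
    simpa using this
  · rw [E_out e _ fun z hz => k ⟨z, hz⟩, E_out (u.toEmbedding.trans e) _ fun z hz => k ⟨_, hz⟩]

theorem Rs.trans {u : Perm I} (hu : Hi u) (h : Rs e σ w) (hw : Hi w') (k : w * u = u * w') :
    Rs (u.toEmbedding.trans e) σ w' := ⟨hw, fun z hz => by
  change σ (e (u z)) = e (u (w' z))
  rw [h.ap _ (hu.low hz), ← Perm.mul_apply, k, Perm.mul_apply]⟩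

theorem memE (e : I ↪ α) (h : Perm.sign w = 1) : E e w ∈ alternatingGroup α := by
  rw [Perm.mem_alternatingGroup, E, Perm.viaEmbeddingHom_apply, Perm.viaEmbedding, ← h]
  exact @Perm.sign_extendDomain _ _ _ _ _ _ _ _ (_) _

/-- On ten points only the last pair remains. -/
theorem Lo.ten (h : Lo e r) (hc : Fintype.card α = 10) : r = 1 ∨ r = E e (f 4) := by
  have bij : Function.Bijective e :=
    (Fintype.bijective_iff_injective_and_card e).2 ⟨e.injective, by rw [hc]; rfl⟩
  have key : ∀ b, ∃ c, r (e (4, b)) = e (4, c) := fun b => by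
    obtain ⟨⟨i, c⟩, hz⟩ := bij.2 (r (e (4, b)))
    by_cases hi : i = 4
    · exact ⟨c, by rw [← hz, hi]⟩
    · have := r.injective ((h _ hi).trans hz)
      exact absurd (congrArg Prod.fst (e.injective this)) hi
  obtain ⟨c, hc⟩ := key false
  obtain ⟨c', hc'⟩ := key true
  have ne : c ≠ c' := fun k => by
    have := e.injective (r.injective (hc.trans (k ▸ hc'.symm)))
    simp at this
  have fin : ∀ w : Perm I, (∀ z : I, z.1 ≠ 4 → w z = z) → w (4, false) = (4, c) →
      w (4, true) = (4, c') → r = E e w := fun w h1 h2 h3 => by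
    ext x
    obtain ⟨⟨i, b⟩, rfl⟩ := bij.2 x
    rw [E_e]
    by_cases hi : i = 4
    · subst hi
      cases b
      · rw [hc, h2]
      · rw [hc', h3]
    · rw [h _ hi, h1 _ hi]
  cases c <;> cases c'
  · exact absurd rfl ne
  · exact .inl ((fin 1 (fun _ _ => rfl) rfl rfl).trans (map_one _))
  · exact .inr (fin (f 4) (by decide +kernel) (by decide +kernel) (by decide +kernel))
  · exact absurd rfl ne

/-- An involution commuting with an alternating group on at least three points fixes them. -/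
theorem fix_of_comm {R : Finset α} (h3 : 3 ≤ R.card) (h2 : σ * σ = 1)
    (hc : ∀ q ∈ altOn R, σ * q = q * σ) {x : α} (hx : x ∈ R) : σ x = x := by
  obtain ⟨y, hy, z, hz, yz⟩ := Finset.one_lt_card.1
    (show 1 < (R.erase x).card by rw [Finset.card_erase_of_mem hx]; omega)
  obtain ⟨yx, hy⟩ := Finset.mem_erase.1 hy
  obtain ⟨zx, hz⟩ := Finset.mem_erase.1 hz
  have m : cyc3 x y z ∈ altOn R := mem_altOn.2 ⟨cyc3_mem_alternatingGroup yx.symm yz, fun v hv =>
    cyc3_apply_of_ne (fun e => hv (e ▸ hx)) (fun e => hv (e ▸ hy)) fun e => hv (e ▸ hz)⟩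
  have c := fun v => congrArg (fun u : Perm α => u v) (hc _ m)
  simp only [Perm.mul_apply] at c
  have cx := c x
  have cy := c y
  rw [cyc3_apply_fst yx.symm zx.symm] at cx
  rw [cyc3_apply_snd zx.symm yz] at cy
  have pp := Pm.pp h2
  by_contra k
  by_cases k1 : σ x = y
  · rw [k1, cyc3_apply_snd zx.symm yz, ← k1, pp] at cx
    exact zx cx.symm
  by_cases k2 : σ x = z
  · rw [k2, cyc3_apply_thd] at cx
    rw [← cx, pp] at k1
    rw [← cx, pp] at k2
    exact yz k2
  · rw [cyc3_apply_of_ne k k1 k2] at cx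
    exact yx (σ.injective cx)

end B10

end Cfsg.Agent.SAq
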