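import Mathlib
import Cfsg.Agent.SAq.B10a
import Cfsg.Agent.SAq.Typ

/-! The standing configuration of `SAq/B10`. -/

set_option autoImplicit false
set_option linter.unusedSectionVars false
set_option synthInstance.maxSize 4096

namespace Cfsg.Agent.SAq

open Cfsg Cfsg.Agent.GT Cfsg.Agent.Loc.Mss Cfsg.Agent.Sym Cfsg.Agent.Loc.SO Cfsg.Agent.SAn Subgroup Equiv
open Cfsg.Agent.SAq.H3 (E E_e E_out E_inj E_swap tp_E)
open Cfsg.Agent.StdB (C1 mem_C1)
open scoped commutatorElement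

variable {α : Type} [Fintype α] [DecidableEq α] {G : Type*} [Group G] [Finite G]
  {ι κ : alternatingGroup α →* G} {t s u g : G} {p q σ σ' τ r r' : Perm α} {k j : ℕ}

namespace B10

variable {e e' : I ↪ α} {a b c v w w' : Perm I}

/-- Even permutations of the ten points. -/
def Ev (w : Perm I) : Prop := Perm.sign w = 1

instance : DecidablePred Ev := fun _ => inferInstanceAs (Decidable (_ = _))

instance (w : Perm I) (k : ℕ) : Decidable (Tp w k) := inferInstanceAs (Decidable (_ ∧ _))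

theorem Ev.mem (h : Ev w) (e : I ↪ α) : E e w ∈ alternatingGroup α := memE e h

theorem Ev.mul (h : Ev w) (h' : Ev w') : Ev (w * w') := by
  rw [Ev, map_mul, h, h', one_mul]

theorem Ev.inv (h : Ev w) : Ev w⁻¹ := by rw [Ev, Perm.sign_inv, h]

/-- The element of `A` given by an even permutation of the ten points. -/
noncomputable def X (ι : alternatingGroup α →* G) (e : I ↪ α) (w : Perm I) : G := ev ι (E e w)

theorem X_mul (ha : Ev a := by decide +kernel) (hb : Ev b := by decide +kernel) :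
    X ι e (a * b) = X ι e a * X ι e b := by
  rw [X, map_mul, ev_mul (ha.mem e) (hb.mem e)]; rfl

theorem X_one : X ι e 1 = 1 := by rw [X, map_one, ev_one]

theorem X_inv (ha : Ev a := by decide +kernel) : X ι e a⁻¹ = (X ι e a)⁻¹ := by
  rw [X, map_inv, ev_inv (ha.mem e)]; rfl

/-- A product relation. -/
theorem X_eq (h : a * b = c := by decide +kernel) (ha : Ev a := by decide +kernel)
    (hb : Ev b := by decide +kernel) : X ι e a * X ι e b = X ι e c := by rw [← h, X_mul ha hb]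

theorem X_sq (h : a * a = 1 := by decide +kernel) (ha : Ev a := by decide +kernel) :
    X ι e a * X ι e a = 1 := by rw [X_eq h ha ha, X_one]

theorem X_comm (h : a * b = b * a := by decide +kernel) (ha : Ev a := by decide +kernel)
    (hb : Ev b := by decide +kernel) : X ι e a * X ι e b = X ι e b * X ι e a := by
  rw [X_eq h ha hb, X_mul hb ha]

theorem X_conj (h : a * b * a⁻¹ = c := by decide +kernel) (ha : Ev a := by decide +kernel)
    (hb : Ev b := by decide +kernel) : X ι e a * X ι e b * (X ι e a)⁻¹ = X ι e c := by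
  rw [← h, X_mul (ha.mul hb) ha.inv, X_mul ha hb, X_inv ha]

theorem X_act (ha : Ev a := by decide +kernel) : Act ι (X ι e a) (E e a) := act_ev (ha.mem e)

theorem X_mem : X ι e a ∈ ι.range := ev_mem _

/-- An element acting as `E e w * r` conjugates `X a`. -/
theorem act_X (h : Act ι g (E e w)) (k : w * a * w⁻¹ = b := by decide +kernel)
    (ha : Ev a := by decide +kernel) : g * X ι e a * g⁻¹ = X ι e b := by
  rw [X, h _ (ha.mem e), ← map_inv, ← map_mul, ← map_mul, k]; rfl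

theorem act_comm (h : Act ι g (E e w)) (k : w * a = a * w := by decide +kernel)
    (ha : Ev a := by decide +kernel) : g * X ι e a = X ι e a * g := by
  rw [← act_X h (b := a) (by rw [k]; group) ha]
  simp only [act_X h (b := a) (by rw [k]; group) ha]
  exact mul_inv_eq_iff_eq_mul.1 (act_X h (by rw [k]; group) ha)

/-- Conjugating an element acting as `E e w` by `X a`. -/
theorem X_conj_act (h : Act ι g (E e w)) (k : a * w * a⁻¹ * w⁻¹ = b := by decide +kernel)
    (ha : Ev a := by decide +kernel) : X ι e a * g * (X ι e a)⁻¹ = X ι e b * g := by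
  have h1 := act_X h (a := a⁻¹) rfl ha.inv
  have h2 : Ev (w * a⁻¹ * w⁻¹) := by
    rw [Ev, map_mul, map_mul, ha.inv, mul_one, ← map_mul, mul_inv_cancel, map_one]
  rw [← k, mul_assoc a, mul_assoc a, X_mul ha h2, ← h1, X_inv ha]
  group

/-- The standing configuration: `s = t p` with `p` of type four, and symmetrically. -/
structure Sx (ι κ : alternatingGroup α →* G) (t s : G) (e e' : I ↪ α) : Prop where
  cf : Cf ι t
  cf' : Cf κ s
  cj : IsConj t s
  hs : s = t * X ι e τ0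
  pp : X ι e τ0 = X κ e' τ0
  no2 : ¬ Sg ι t 2

theorem Sx.tt (h : Sx ι κ t s e e') : t * t = 1 := h.cf.iv.1

theorem Sx.ss (h : Sx ι κ t s e e') : s * s = 1 := h.cf'.iv.1

theorem Sx.ht (h : Sx ι κ t s e e') : t = s * X κ e' τ0 := by
  rw [h.hs, ← h.pp, mul_assoc, X_sq, mul_one]

theorem Sx.symm (h : Sx ι κ t s e e') : Sx κ ι s t e' e :=
  ⟨h.cf', h.cf, h.cj.symm, h.ht, h.pp.symm, fun k => h.no2 (k.transfer h.cf'.cw h.cf.cw h.cj.symm rfl)⟩

theorem Sx.ten (_ : Sx ι κ t s e e') : 10 ≤ Fintype.card α := Fintype.card_le_of_embedding e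

theorem Sx.four (h : Sx ι κ t s e e') : 4 ≤ Fintype.card α := h.cf.cw.four

theorem Sx.ct (h : Sx ι κ t s e e') (w : Perm I) : X ι e w * t = t * X ι e w := h.cf.cw.comm_ev _

theorem Sx.cs (h : Sx ι κ t s e e') (k : w * τ0 = τ0 * w := by decide +kernel)
    (hw : Ev w := by decide +kernel) : X ι e w * s = s * X ι e w := by
  rw [h.hs, ← mul_assoc, h.ct, mul_assoc, X_comm k hw, mul_assoc]

theorem Sx.st (h : Sx ι κ t s e e') : s * t = t * s := by
  rw [h.hs, mul_assoc, h.ct]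

theorem Sx.act_s (h : Sx ι κ t s e e') : Act ι s (E e τ0) := by
  simpa [← h.hs] using h.cf.cen.mul (X_act (ι := ι) (e := e) (a := τ0))

theorem Sx.act_t (h : Sx ι κ t s e e') : Act κ t (E e' τ0) := h.symm.act_s

theorem tp0 : Tp τ0 4 := by decide +kernel

theorem Sx.sg4 (h : Sx ι κ t s e e') : Sg ι t 4 :=
  ⟨_, Ev.mem (by decide +kernel) e, fun k => by
    simpa using (tp_E e tp0).unique (tp_zero.2 k), tp_E e tp0, by have := h.cj; rwa [h.hs] at this⟩

theorem Sx.ev4 (h : Sx ι κ t s e e') (hp : Tp p 4) : IsConj t (t * ev ι p) := h.sg4.all h.cf.cw hp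

theorem Sx.ev2 (h : Sx ι κ t s e e') (hp : Tp p 2) : ¬ IsConj t (t * ev ι p) := fun k =>
  h.no2 ⟨p, hp.even_iff.2 (by decide), fun e => by simpa using hp.unique (tp_zero.2 e), hp, k⟩

theorem Sx.D4 (h : Sx ι κ t s e e') (hw : Tp w 4 := by decide +kernel) : IsConj t (t * X ι e w) :=
  h.ev4 (tp_E e hw)

theorem Sx.D2 (h : Sx ι κ t s e e') (hw : Tp w 2 := by decide +kernel) : ¬ IsConj t (t * X ι e w) :=
  h.ev2 (tp_E e hw)

theorem Sx.trans (h : Sx ι κ t s e e') (k : v * τ0 * v⁻¹ = τ0) :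
    Sx ι κ t s e (v.toEmbedding.trans e') :=
  ⟨h.cf, h.cf', h.cj, h.hs, by rw [h.pp, X, X, E_trans, k], h.no2⟩

/-- The action on the second component of an element commuting with `t` and `s`. -/
theorem Sx.rs (h : Sx ι κ t s e e') (h1 : g * t = t * g) (h2 : g * s = s * g) :
    ∃ σ π a b c x, Act κ g σ ∧ Rs e' σ (M π a b c x) := by
  obtain ⟨σ, hσ⟩ := h.cf'.reg g h2
  obtain ⟨π, a, b, c, x, k⟩ := exists_rs (hσ.comm h.cf'.inj h.four h.act_t h1)
  exact ⟨σ, π, a, b, c, x, hσ, k⟩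

/-- Involutions which are commutators in the centralizer of `τ0` lie in the second component. -/
theorem Sx.der (h : Sx ι κ t s e e') (a b : Perm I) (k : a * b * a⁻¹ * b⁻¹ = c := by decide +kernel)
    (h2 : c * c = 1 := by decide +kernel) (ha : Ev a := by decide +kernel)
    (hb : Ev b := by decide +kernel) (ka : a * τ0 = τ0 * a := by decide +kernel)
    (kb : b * τ0 = τ0 * b := by decide +kernel) :
    ∃ σ ∈ alternatingGroup α, X ι e c = ev κ σ := by
  have hc : Ev c := k ▸ ((ha.mul hb).mul ha.inv).mul hb.inv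
  obtain ⟨σ, k1, k2⟩ := mem_range_iff.1 (h.cf'.der (g := X ι e c) (by
    rw [← k, X_mul ((ha.mul hb).mul ha.inv) hb.inv, X_mul (ha.mul hb) ha.inv, X_mul ha hb, X_inv ha,
      X_inv hb]
    exact commutator_mem_commutator (mem_C1.2 (h.cs ka ha)) (mem_C1.2 (h.cs kb hb)))
    ⟨1, by rw [pow_one, pow_two, X_sq h2 hc]⟩)
  exact ⟨σ, k1, k2.symm⟩

theorem exists_E (h10 : 10 ≤ Fintype.card α) (hp : Tp p 4) : ∃ e : I ↪ α, p = E e τ0 := by
  obtain ⟨e0⟩ : Nonempty (I ↪ α) := Function.Embedding.nonempty_of_card_le h10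
  obtain ⟨π, -, k⟩ := (tp_E e0 tp0).alt_conj hp
  refine ⟨e0.trans π.toEmbedding, ?_⟩
  rw [← k]
  ext x
  by_cases hx : ∃ z, (e0.trans π.toEmbedding) z = x
  · obtain ⟨z, rfl⟩ := hx
    rw [E_e]
    simp [E_e]
  · rw [E_out _ _ fun z hz => hx ⟨z, hz⟩, Perm.mul_apply, Perm.mul_apply,
      E_out _ _ fun z hz => hx ⟨z, by simp [hz]⟩]
    simp

theorem exists_sx (h : Cf ι t) (h10 : 10 ≤ Fintype.card α) (h4 : Sg ι t 4) (h2 : ¬ Sg ι t 2) :
    ∃ κ s e e', Sx ι κ t s e e' := by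
  obtain ⟨p, hp, -, tp, cj⟩ := h4
  obtain ⟨κ, h'⟩ := h.emb cj
  obtain ⟨τ, hτ⟩ := h'.reg t (by rw [← mul_assoc, mul_assoc t (ev ι p), h.cw.comm_ev, mul_assoc])
  obtain ⟨e, rfl⟩ := exists_E h10 tp
  obtain ⟨e', rfl⟩ := exists_E h10 (h.typ4 tp h' cj hτ)
  exact ⟨κ, _, e, e', h, h', cj, rfl, (h.even_pair hp h' cj hτ).2.symm, h2⟩

/-- Inclusion of fixed point sets is preserved by conjugation. -/
theorem shape {H x y : G} {ρ ρ' : Perm α} (h : Cf ι t) (h' : Cf κ s) (hH : H * t * H⁻¹ = s)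
    (h1 : Act ι x σ) (h2 : Act ι y σ') (k1 : Act κ (H * x * H⁻¹) ρ) (k2 : Act κ (H * y * H⁻¹) ρ')
    (hf : ∀ z, σ z = z → σ' z = z) (z : α) (hz : ρ z = z) : ρ' z = z := by
  obtain ⟨ε, -, hε⟩ := (h.cw.toC H).rel (hH ▸ h'.cw) rfl
  rw [h'.cw.uniq k1 ((hε _ _).1 (h1.toC H))] at hz
  rw [h'.cw.uniq k2 ((hε _ _).1 (h2.toC H))]
  simp only [permCongr_apply] at hz ⊢
  rw [hf _ (ε.injective (by rw [hz, apply_symm_apply])), apply_symm_apply]

/-- The form in which `shape` is used. -/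
theorem shape' {H : G} {a' b' : Perm I} (h : Cf ι t) (h' : Cf κ s) (hH : H * t * H⁻¹ = s)
    (k1 : H * X ι e a * H⁻¹ = X κ e' a') (k2 : H * X ι e b * H⁻¹ = X κ e' b')
    (hf : ∀ z, a z = z → b z = z := by decide +kernel)
    (hn : ∃ z, a' z = z ∧ b' z ≠ z := by decide +kernel) (ha : Ev a := by decide +kernel)
    (hb : Ev b := by decide +kernel) (ha' : Ev a' := by decide +kernel)
    (hb' : Ev b' := by decide +kernel) : False := by
  obtain ⟨z, z1, z2⟩ := hn
  have := shape h h' hH (X_act ha) (X_act hb) (k1 ▸ X_act ha') (k2 ▸ X_act hb') (fun x hx => by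
    by_cases k : ∃ z, e z = x
    · obtain ⟨z, rfl⟩ := k
      rw [E_e] at hx ⊢
      rw [hf z (e.injective hx)]
    · exact E_out _ _ fun z hz => k ⟨z, hz⟩) (e' z) (by rw [E_e, z1])
  rw [E_e] at this
  exact z2 (e'.injective this)

end B10

end Cfsg.Agent.SAq
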