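import Mathlib
import Cfsg.Agent.SAq.B10b

/-! The last case in degree ten (piece of `SAq/B10`). -/

set_option autoImplicit false
set_option linter.unusedSectionVars false
set_option synthInstance.maxSize 4096

namespace Cfsg.Agent.SAq

open Cfsg Cfsg.Agent.GT Cfsg.Agent.Loc.Mss Cfsg.Agent.Sym Cfsg.Agent.Loc.SO Cfsg.Agent.SAn Subgroup Equiv
open Cfsg.Agent.SAq.H3 (E E_e E_out E_inj E_swap tp_E)
open Cfsg.Agent.StdB (C1 mem_C1)
open scoped commutatorElement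

variable {α : Type} [Fintype α] [DecidableEq α] {G : Type*} [Group G] [Finite G]
  {ι κ : alternatingGroup α →* G} {t s u g : G} {p q σ σ' τ r r' : Perm α} {k j : ℕ}

namespace B10

variable {e e' : I ↪ α} {a b c v w w' : Perm I}

namespace U

theorem fx {x y : G} (h : x * y = y * x) : x * y * x⁻¹ = y := by rw [h, mul_inv_cancel_right]

theorem cm {x y z : G} (h : x * y = y * x) (k : x * z = z * x) : x * (y * z) = y * z * x :=
  (show Commute x y from h).mul_right k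

theorem mc {x y z : G} (h : x * z = z * x) (k : y * z = z * y) : x * y * z = z * (x * y) :=
  (show Commute x z from h).mul_left k

theorem cj2 {x y z y' z' : G} (h : x * y * x⁻¹ = y') (k : x * z * x⁻¹ = z') :
    x * (y * z) * x⁻¹ = y' * z' := by rw [← h, ← k]; group

theorem cjc {x y u v w : G} (h : y * u * y⁻¹ = v) (k : x * v * x⁻¹ = w) : x * y * u * (x * y)⁻¹ = w := by
  rw [← k, ← h]; group

theorem cji {x u v : G} (h : x * u * x⁻¹ = v) : x⁻¹ * v * x⁻¹⁻¹ = u := by rw [← h]; group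

theorem ic {x u v : G} (h : x * u * x⁻¹ = v) (k : IsConj t u) : IsConj t v := k.trans (isConj_iff.2 ⟨x, h⟩)

theorem act_E (h : Act ι g (E e a)) (h' : Act ι u (E e b)) (k : a * b = c := by decide +kernel) :
    Act ι (g * u) (E e c) := by
  have := h.mul h'
  rwa [← map_mul, k] at this

theorem comm_M {π : Perm (Fin 4)} {x y z x' : Bool} (h : Rs e σ (M π x y z x'))
    (k : σ * E e w = E e w * σ) (hw : Hi w := by decide +kernel) : M π x y z x' * w = w * M π x y z x' :=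
  (h.mul (Rs.of hw)).uniq (k ▸ (Rs.of hw).mul h)

/-- An element acting on `κ` as the last transposition commutes with `X v`. -/
theorem comm_der (h : Sx ι κ t s e e') (hc : Fintype.card α = 10) (ha : Act κ u (E e' (f 4)))
    (k : ∃ σ ∈ alternatingGroup α, X ι e v = ev κ σ) : u * X ι e v = X ι e v * u := by
  obtain ⟨μ, hμ, k⟩ := k
  have h1 := (h.act_t.comm_iff h.cf'.inj hμ).1 (k ▸ (h.ct v).symm)
  obtain ⟨π, a, b, c, x, rs⟩ := exists_rs h1.symm
  obtain ⟨r, lo, rfl⟩ := rs.dec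
  have l4 : Lo e' (E e' (f 4)) := fun z hz => by
    rw [E_e, (by decide +kernel : ∀ z : I, z.1 ≠ 4 → f 4 z = z) z hz]
  rw [k]
  refine (ha.comm_iff h.cf'.inj hμ).2 (cm (l4.comm rs.hi).symm ?_)
  rcases lo.ten hc with rfl | rfl
  · simp
  · rfl

end U

open U in
theorem Sx.caseU (h : Sx ι κ t s e e') (hc : Fintype.card α = 10)
    (h1 : X ι e (f 0 * f 1) = X κ e' (f 0 * f 1)) (h2 : X ι e (f 0 * f 2) = X κ e' (f 0 * f 2))
    (hy : Act κ (X ι e (f 2 * f 4)) (E e' (f 2 * τ0)))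
    (hg : Act κ (X ι e (d 0 1)) (E e' (d 0 1 * f 4))) : False := by
  have h3 : X ι e (f 2 * f 3) = X κ e' (f 2 * f 3) := by
    rw [← X_eq (a := τ0) (b := f 0 * f 1), ← X_eq (a := τ0) (b := f 0 * f 1) (c := f 2 * f 3), h1, h.pp]
  have tt : ∀ x : G, t * (t * x) = x := fun x => by rw [← mul_assoc, h.tt, one_mul]
  have ss : ∀ x : G, s * (s * x) = x := fun x => by rw [← mul_assoc, h.ss, one_mul]
  have tX : ∀ a b : Perm I, t * X ι e a * (t * X ι e b) = X ι e a * X ι e b := fun a b => by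
    rw [mul_assoc, ← mul_assoc (X ι e a), h.ct, mul_assoc, tt]
  have sY : ∀ a b : Perm I, s * X κ e' a * (s * X κ e' b) = X κ e' a * X κ e' b := fun a b => by
    rw [mul_assoc, ← mul_assoc (X κ e' a), h.symm.ct, mul_assoc, ss]
  obtain ⟨x4, e4⟩ : ∃ x, x = t * X ι e (f 2 * f 4) := ⟨_, rfl⟩
  obtain ⟨x6, e6⟩ : ∃ x, x = x4 * X κ e' (f 2 * f 4) := ⟨_, rfl⟩
  have e1 : t * X ι e (f 2 * f 3) = s * X κ e' (f 0 * f 1) := by
    rw [h3]
    conv_lhs => rw [h.ht]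
    rw [mul_assoc, X_eq (c := f 0 * f 1)]
  have a4 : Act κ x4 (E e' (f 2)) := e4 ▸ act_E h.act_t hy
  have e5 : t * X ι e (f 3 * f 4) = X κ e' (f 2 * f 3) * x4 := by
    rw [e4, ← h3, ← mul_assoc, h.ct, mul_assoc, X_eq (c := f 3 * f 4)]
  have a5 : Act κ (t * X ι e (f 3 * f 4)) (E e' (f 3)) := e5 ▸ act_E X_act a4
  have a6 : Act κ x6 (E e' (f 4)) := e6 ▸ act_E a4 X_act
  have s4 : x4 * s = s * x4 := e4 ▸ mc h.st.symm h.cs
  have t4 : x4 * t = t * x4 := e4 ▸ mc rfl (h.ct _)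
  have s6 : x6 * s = s * x6 := e6 ▸ mc s4 (h.symm.ct _)
  have t6 : x6 * t = t * x6 := e6 ▸ mc t4 h.symm.cs
  have c4 : x4 * X κ e' (f 2 * f 4) = X κ e' (f 2 * f 4) * x4 := act_comm a4
  have q4 : x4 * x4 = 1 := by rw [e4, tX, X_sq]
  have q6 : x6 * x6 = 1 := by
    rw [e6, mul_assoc, ← mul_assoc _ x4, ← c4, mul_assoc, X_sq, mul_one, q4]
  have g6 : X ι e (d 0 1) * x6 = x6 * X ι e (d 0 1) := by
    rw [e6, e4]
    exact cm (cm (h.ct _) X_comm) (act_comm hg)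
  have e14 : t * X ι e (f 2 * f 3) * x4 = X ι e (f 3 * f 4) := by rw [e4, tX, X_eq (c := f 3 * f 4)]
  rcases h.cf'.cw.of_even (g := X ι e (d 0 1) * x6) (mc h.cs s6)
    (by rw [mul_assoc, ← mul_assoc x6, ← g6, mul_assoc, q6, mul_one, X_sq])
    (act_E hg a6 (c := d 0 1)) (Ev.mem (by decide +kernel) e') with e2 | e2
  · change _ = X κ e' (d 0 1) at e2
    have k1 : IsConj t (s * X κ e' (d 0 1) * x6) := by
      rw [← e2, mul_assoc, mul_assoc, q6, mul_one, h.hs, mul_assoc, X_eq (c := τ0 * d 0 1) rfl]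
      exact h.D4
    have k2 := cj2 (cj2 (fx (h.symm.ct _)) (X_conj (ι := κ) (e := e')
      (a := swap (0, true) (1, false) * d 2 4 * f 3) (b := f 0 * f 1) (c := d 0 1)))
      (X_conj_act a4 (a := swap (0, true) (1, false) * d 2 4 * f 3) (b := f 2 * f 4))
    rw [← c4, ← e6, ← e1, e14] at k2
    exact h.cf.conj_not_mem (ic (cji k2) k1) X_mem
  change _ = s * X κ e' (d 0 1) at e2
  obtain ⟨ξ, π, a, b, c, x, ac, rs⟩ := h.symm.rs s6 t6
  have cX : ∀ w : Perm I, Ev w → x6 * X ι e w = X ι e w * x6 → ξ * E e w = E e w * ξ := fun w hw k =>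
    (ac.comm_iff h.cf.inj (hw.mem e)).1 k
  have m7 := c7 π a b c x (comm_M rs (cX _ (by decide +kernel) (h1 ▸ act_comm a6)))
    (comm_M rs (cX _ (by decide +kernel) (h2 ▸ act_comm a6)))
    (comm_M rs (cX _ (by decide +kernel) (comm_der h hc a6 (h.der (d 0 1) (d 0 2 * d 1 3)))))
    (comm_M rs (cX _ (by decide +kernel) (comm_der h hc a6 (h.der (d 0 2) (d 0 1 * d 2 3)))))
  obtain ⟨r, lo, rfl⟩ := rs.dec
  have n1 : ¬ Act κ x6 1 := fun k =>
    absurd (E_inj e' ((h.cf'.cw.uniq a6 k).trans (map_one _).symm)) (by decide +kernel)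
  have n2 : ¬ Act κ x6 (E e' τ0) := fun k => absurd (E_inj e' (h.cf'.cw.uniq a6 k)) (by decide +kernel)
  rcases lo.ten hc with rfl | rfl
  · rw [mul_one] at ac
    rcases m7 with m7 | m7 <;> rw [m7] at ac <;>
      rcases h.cf.cw.of_even t6 q6 ac (Ev.mem (by decide +kernel) e) with k | k
    · exact n1 (by rw [k, map_one, ev_one]; exact Act.one)
    · exact n2 (by rw [k, map_one, ev_one, mul_one]; exact h.act_t)
    · exact n2 (by rw [k]; change Act κ (X ι e τ0) _; rw [h.pp]; exact X_act)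
    · exact n1 (by rw [k]; change Act κ (t * X ι e τ0) _; rw [← h.hs]; exact h.cf'.cen)
  rw [← map_mul] at ac
  rcases m7 with m7 | m7 <;> rw [m7] at ac
  · rw [one_mul] at ac
    have k1 : IsConj t (x4 * X κ e' (f 0 * f 1)) := by
      rw [e4, ← h1, mul_assoc, X_eq (c := f 2 * f 4 * (f 0 * f 1)) rfl]
      exact h.D4
    have k2 := ic (cj2 (fx (act_comm a4 (a := swap (0, true) (1, true) * f 3)).symm)
      (X_conj (b := f 0 * f 1) (c := f 0 * f 1 * d 0 1))) k1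
    have k3 : x4 * X κ e' (f 0 * f 1 * d 0 1) = X ι e (f 3 * f 4 * d 0 1) * x6 := by
      rw [X_mul (a := f 3 * f 4), ← e14, e1, mul_assoc _ _ x6, e2, X_mul (a := f 0 * f 1), mul_assoc _ x4,
        ← mul_assoc x4 s, s4, mul_assoc s x4, ← mul_assoc _ s, mul_assoc s _ s, h.symm.ct, ss,
        ← mul_assoc, ← mul_assoc, act_comm a4]
    rw [k3] at k2
    have k4 := ic (cj2 (X_conj (a := swap (0, true) (1, false) * f 2) (b := f 3 * f 4 * d 0 1)
      (c := f 3 * f 4 * (f 0 * f 1))) (fx (act_comm ac).symm)) k2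
    rw [e6, e4, ← mul_assoc, ← mul_assoc, h.ct, mul_assoc t, X_eq (c := τ0), ← h.hs] at k4
    exact h.symm.D2 (w := f 2 * f 4) (by decide +kernel) (h.cj.symm.trans k4)
  · obtain ⟨m, em⟩ : ∃ m, m = X ι e (d 3 4) := ⟨_, rfl⟩
    obtain ⟨A, eA⟩ : ∃ A, A = X κ e' (swap (0, false) (1, false) * f 4 * d 2 3) := ⟨_, rfl⟩
    obtain ⟨B, eB⟩ : ∃ B, B = X κ e' (swap (0, true) (1, false) * f 4) := ⟨_, rfl⟩
    have mt : m * t * m⁻¹ = t := em ▸ fx (h.ct _)
    have As : A * s * A⁻¹ = s := eA ▸ fx (h.symm.ct _)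
    have Bs : B * s * B⁻¹ = s := eB ▸ fx (h.symm.ct _)
    have m2 : m * (s * X κ e' (d 0 1)) * m⁻¹ = s * X κ e' (d 0 1) := by
      rw [← e2, em]
      exact cj2 X_conj (fx (act_comm ac).symm)
    have m3 : m * (s * X κ e' (d 0 1 * (f 0 * f 1))) * m⁻¹ = s * X κ e' (d 0 1 * (f 0 * f 1)) := by
      rw [X_mul (a := d 0 1), ← mul_assoc s, ← h1]
      exact cj2 m2 (em ▸ X_conj)
    have m5 : m * (t * X ι e (f 3 * f 4)) * m⁻¹ = t * X ι e (f 3 * f 4) := cj2 mt (em ▸ X_conj)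
    have m4 : m * x4 * m⁻¹ = s * X κ e' (f 0 * f 1) := by
      rw [← e1, e4]
      exact cj2 mt (em ▸ X_conj)
    have B1 : B * (s * X κ e' (f 0 * f 1)) * B⁻¹ = s * X κ e' (d 0 1) := cj2 Bs (eB ▸ X_conj)
    have B4 : B * x4 * B⁻¹ = x4 := eB ▸ fx (act_comm a4).symm
    have B5 : B * (t * X ι e (f 3 * f 4)) * B⁻¹ = t * X ι e (f 3 * f 4) := eB ▸ fx (act_comm a5).symm
    have A1 : A * (s * X κ e' (f 0 * f 1)) * A⁻¹ = s * X κ e' (d 0 1 * (f 0 * f 1)) := cj2 As (eA ▸ X_conj)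
    have A2 : A * (s * X κ e' (d 0 1)) * A⁻¹ = s * X κ e' (d 0 1) := cj2 As (eA ▸ X_conj)
    have A5 : A * (t * X ι e (f 3 * f 4)) * A⁻¹ = x4 := by
      rw [eA, X_conj_act a5 (b := f 2 * f 3), e5, ← mul_assoc, X_sq, one_mul]
    have H1 := cjc (cjc (cjc B1 m2) A2) m2
    have H4 := cjc (cjc (cjc B4 m4) A1) m3
    have H5 := cjc (cjc (cjc B5 m5) A5) m4
    have Ht := cj2 (cj2 H1 H4) H5
    rw [← e1, e14, ← mul_assoc (X ι e _), h.ct, mul_assoc t, X_sq, mul_one, sY, X_eq (c := f 0 * f 1), e1,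
      ← mul_assoc (X κ e' _), h.symm.ct, mul_assoc s, X_sq, mul_one] at Ht
    have K1 := cj2 Ht H1
    have K2 := cj2 Ht H5
    rw [ss, ← e1, tt] at K1
    rw [ss, tt] at K2
    exact shape' h.cf' h.cf (cji Ht) (cji K1) (cji K2)

end B10

end Cfsg.Agent.SAq
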