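import Mathlib
import Cfsg.Agent.SAq.HsB
import Cfsg.Agent.SAq.Typ
import Cfsg.Agent.SAq.H3Aa

/-! Type three forces degree twelve. See `stubs/Cfsg/Agent/SAq/PLAN.md`. -/

set_option autoImplicit false
set_option linter.unusedSectionVars false

namespace Cfsg.Agent.SAq

open Cfsg Cfsg.Agent.GT Cfsg.Agent.Loc.Mss Cfsg.Agent.Sym Cfsg.Agent.Loc.SO Cfsg.Agent.SAn Subgroup Equiv
open Cfsg.Agent.StdB (C1 mem_C1)
open scoped commutatorElement

variable {α β γ : Type} [Fintype α] [DecidableEq α] [Fintype β] [DecidableEq β] [Fintype γ]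
  [DecidableEq γ] {G : Type*} [Group G] [Finite G] {ι κ l : alternatingGroup α →* G}
  {ψ : Perm β →* G} {X P M L : Subgroup G} {t s u g o : G} {p q σ τ π : Perm α} {k j : ℕ}

namespace H3

/-- The standard element of type three. -/
def t6 : Perm (Fin 6) := swap 0 1 * swap 2 3 * swap 4 5

/-- The element of order three permuting its transpositions. -/
def c6 : Perm (Fin 6) := swap 0 2 * swap 2 4 * (swap 1 3 * swap 3 5)

theorem E_t6 (e : Fin 6 ↪ β) :
    E e t6 = swap (e 0) (e 1) * swap (e 2) (e 3) * swap (e 4) (e 5) := by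
  rw [t6, map_mul, map_mul, E_swap, E_swap, E_swap]

theorem tp_t6 (e : Fin 6 ↪ β) : Tp (E e t6) 3 := tp_E e ⟨by decide, by decide⟩

theorem nb6 (h : Hs ψ) (h3 : Ty ψ 3) (hc : Fintype.card β = Fintype.card α + 2) (e : Fin 6 ↪ β)
    (h' : Cf κ (ψ (E e t6))) {i j : Fin 6} (hij : i ≠ j) {ν : Perm (Fin 6)} (hν : Tp ν 2) (hi : ν i = i)
    (hj : ν j = j) (ht : t6 = swap i j * ν) : ∃ τ, Act κ (ψ (E e (swap i j))) τ ∧ Tp τ 2 := by
  rw [E_swap]
  exact nb2 h h3 hc (e.injective.ne hij) (tp_E e hν) (by rw [E_e, hi]) (by rw [E_e, hj])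
    (by rw [ht, map_mul (E e), E_swap]) h'

/-- An alternating group of the right degree commuting with two double transpositions. -/
theorem same {a b c d : α} (h4 : D4 a b c d) (h8 : 8 ≤ Fintype.card α)
    (hc : Fintype.card γ + 4 = Fintype.card α) (F : Perm γ →* Perm α) (hF : Function.Injective F)
    (h1 : ∀ r, F r * dt a b c d = dt a b c d * F r) (h2 : ∀ r, F r * τ = τ * F r) :
    ∀ x ∉ ({a, b, c, d} : Finset α), τ x = x := by
  have cs : ({a, b, c, d} : Finset α)ᶜ.card = Fintype.card γ := by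
    rw [Finset.card_compl, ← P0.supp h4, (tp_two.2 ⟨a, b, c, d, h4, rfl⟩).2]
    omega
  let K : Subgroup (Perm α) :=
    { carrier := {σ | ∀ x ∉ ({a, b, c, d} : Finset α)ᶜ, σ x = x}
      one_mem' := fun _ _ => rfl
      mul_mem' := fun {a b} ha hb x hx => by rw [Perm.mul_apply, hb x hx, ha x hx]
      inv_mem' := fun {a} ha x hx => by rw [Perm.inv_eq_iff_eq, ha x hx] }
  have hK : (alternatingGroup γ).map F ≤ K := by
    rw [map_le_iff_le_comap, ← Perm.closure_three_cycles_eq_alternating, closure_le]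
    intro r hr x hx
    have h3 : r * r * r = 1 := by
      rw [← pow_three', ← Perm.IsThreeCycle.orderOf hr, pow_orderOf_eq_one]
    have := fx_of_three h4 (h1 r) (by rw [← map_mul, ← map_mul, h3, map_one])
    simp only [Finset.mem_compl, not_not, Finset.mem_insert, Finset.mem_singleton] at hx
    rcases hx with rfl | rfl | rfl | rfl
    exacts [this.a, this.b, this.c, this.d]
  haveI : Nontrivial γ := Fintype.one_lt_card_iff_nontrivial.1 (by omega)
  have hle := altOn_le_of_card hK (by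
    rw [card_map_of_injective hF, two_mul_nat_card_alternatingGroup, Nat.card_perm,
      Nat.card_eq_fintype_card, cs])
  exact fun x hx => cent_altOn (s := {a, b, c, d}ᶜ) (by omega) (mem_cent.2 fun y hy => by
    obtain ⟨r, -, rfl⟩ := hle hy
    exact h2 r) x (Finset.mem_compl.2 hx)

theorem pair {a b c d : α} (h4 : D4 a b c d) (h2 : Tp τ 2) (h3 : Tp (dt a b c d * τ) 2)
    (hc : dt a b c d * τ = τ * dt a b c d) (ho : ∀ x ∉ ({a, b, c, d} : Finset α), τ x = x) :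
    ∃ c' d', D4 a b c' d' ∧ dt a b c d = dt a b c' d' ∧ τ = dt a c' b d' := by
  obtain ⟨ν, rfl⟩ := P0.exists_Φ h4 ho
  have := (P0.Φ_mem h4).2 (P0.v4_pair ν ((P0.Φ_sign h4 ν).symm.trans (h2.even_iff.2 even_two))
    (P0.Φ_inj h4 (by rw [map_mul, map_mul, P0.Φ1, hc])))
  rcases h4.mem_V4.1 this with e | e | e | e
  · exact absurd (h2.unique (tp_zero.2 e)) (by decide)
  · rw [e, h4.iv.1] at h3
    exact absurd (h3.unique (tp_zero.2 rfl)) (by decide)
  · exact ⟨c, d, h4, rfl, e⟩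
  · exact ⟨d, c, h4.abdc, (dt_abdc ..).symm, e⟩

theorem std3 {r : Perm β} (h6 : 6 ≤ Fintype.card β) (hr : Tp r 3) : ∃ e : Fin 6 ↪ β, r = E e t6 := by
  obtain ⟨e⟩ := exists_emb h6
  obtain ⟨π, -, rfl⟩ := (tp_t6 e).alt_conj hr
  refine ⟨e.trans π.toEmbedding, ?_⟩
  simp [E_t6, swap_apply_apply, mul_assoc]

theorem three (h : Hs ψ) (h3 : Ty ψ 3) (hc : Fintype.card β = Fintype.card α + 2) (e : Fin 6 ↪ β)
    (h' : Cf κ (ψ (E e t6))) :
    Fintype.card β = 12 ∧ ∃ a b c d, D4 a b c d ∧ Act κ (ψ (E e (swap 0 1))) (dt a b c d) ∧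
      Act κ (ψ (E e (swap 2 3))) (dt a c b d) ∧
      ∀ r : Perm β, (∀ i, r (e i) = e i) → ∃ σ, Act κ (ψ r) σ ∧ Fx a b c d σ ∧ (Tp r 1 → Tp σ 3) ∧
        (Tp r 2 → Tp σ 2) ∧ (Tp r 3 → Tp σ 1) ∧ (r.cycleType = {4} → σ.cycleType = {4}) := by
  have h8 := h'.eight
  have h10 := h.ten
  obtain ⟨t1, a1, k1⟩ := nb6 h h3 hc e h' (i := 0) (j := 1) (by decide) (ν := swap 2 3 * swap 4 5)
    ⟨by decide, by decide⟩ (by decide) (by decide) (by decide)
  obtain ⟨t2, a2, k2⟩ := nb6 h h3 hc e h' (i := 2) (j := 3) (by decide) (ν := swap 0 1 * swap 4 5)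
    ⟨by decide, by decide⟩ (by decide) (by decide) (by decide)
  obtain ⟨t3, a3, k3⟩ := nb6 h h3 hc e h' (i := 4) (j := 5) (by decide) (ν := swap 0 1 * swap 2 3)
    ⟨by decide, by decide⟩ (by decide) (by decide) (by decide)
  have mE : ∀ μ ν : Perm (Fin 6), ψ (E e μ) * ψ (E e ν) = ψ (E e (μ * ν)) := fun μ ν => by
    rw [map_mul, map_mul]
  have e3 : t3 = t1 * t2 := h'.cw.uniq a3 (by
    have := (h'.cen.mul a1).mul a2
    rwa [mE, mE, one_mul, show t6 * swap 0 1 * swap 2 3 = swap 4 5 by decide] at this)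
  subst e3
  have c12 : t1 * t2 = t2 * t1 := a1.comm h'.inj (by omega) a2 (by
    rw [mE, mE, show (swap 0 1 * swap 2 3 : Perm (Fin 6)) = swap 2 3 * swap 0 1 by decide])
  obtain ⟨ρ, aρ⟩ := h'.reg (ψ (E e c6)) (by rw [mE, mE, show c6 * t6 = t6 * c6 by decide])
  have r1 : ρ * t1 = t2 * ρ := h'.cw.uniq (aρ.mul a1) (by
    have := a2.mul aρ
    rwa [mE, show swap 2 3 * c6 = c6 * swap 0 1 by decide, ← mE] at this)
  have r2 : ρ * t2 = t1 * t2 * ρ := h'.cw.uniq (aρ.mul a2) (by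
    have := a3.mul aρ
    rwa [mE, show swap 4 5 * c6 = c6 * swap 2 3 by decide, ← mE] at this)
  -- the symmetric group on the remaining points
  have fx : ∀ (r : Perm {z // ∀ i, e i ≠ z}) i, Perm.ofSubtype r (e i) = e i := fun r i =>
    Perm.ofSubtype_apply_of_not_mem r fun k => k i rfl
  have cE : ∀ (r : Perm {z // ∀ i, e i ≠ z}) ν, Perm.ofSubtype r * E e ν = E e ν * Perm.ofSubtype r :=
    fun r ν => (disj_E e ν (fx r)).commute.eq.symm
  obtain ⟨f, hf⟩ := h'.cw.exists_hom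
  let F : Perm {z // ∀ i, e i ≠ z} →* Perm α := f.comp ((ψ.comp Perm.ofSubtype).codRestrict _
    fun r => mem_C1.2 (comm_map (cE r t6)))
  have aF : ∀ r, Act κ (ψ (Perm.ofSubtype r)) (F r) := fun r => hf ⟨_, mem_C1.2 (comm_map (cE r t6))⟩
  have iF : Function.Injective F := (injective_iff_map_eq_one F).2 fun r hr => by
    rcases ker h (tp_t6 e) (by decide) (by omega) h' (cE r t6) (hr ▸ aF r) with k | k
    · exact Perm.ofSubtype_injective (k.trans (map_one _).symm)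
    · have := fx r 0
      rw [k, E_e] at this
      exact absurd (e.injective this) (by decide)
  have cF : ∀ r ν σ, Act κ (ψ (E e ν)) σ → F r * σ = σ * F r := fun r ν σ a =>
    (aF r).comm h'.inj (by omega) a (comm_map (cE r ν))
  have cR : Fintype.card {z // ∀ i, e i ≠ z} + 4 = Fintype.card α := by
    rw [Fintype.card_of_subtype (Finset.univ.map e)ᶜ (by simp), Finset.card_compl, Finset.card_map]
    simp only [Finset.card_univ, Fintype.card_fin]
    omega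
  obtain ⟨a, b, c0, d0, h0, rfl⟩ := tp_two.1 k1
  obtain ⟨c, d, h4, e1, rfl⟩ := pair h0 k2 k3 c12
    (same h0 h8 cR F iF (fun r => cF r _ _ a1) fun r => cF r _ _ a2)
  rw [e1] at a1 r1 r2
  have fF : ∀ r, Fx a b c d (F r) := fun r =>
    fx_of_cyc h4 (cF r _ _ a1) (cF r _ _ a2) r1 r2 (cF r _ _ aρ)
  obtain ⟨F', hF'⟩ := lift (Q := fun z => z ∉ ({a, b, c, d} : Finset α)) F fun r z hz => by
    simp only [not_not, Finset.mem_insert, Finset.mem_singleton] at hz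
    rcases hz with rfl | rfl | rfl | rfl
    exacts [(fF r).a, (fF r).b, (fF r).c, (fF r).d]
  have cR' : Fintype.card {z // z ∉ ({a, b, c, d} : Finset α)} + 4 = Fintype.card α := by
    rw [Fintype.card_of_subtype ({a, b, c, d} : Finset α)ᶜ (by simp only [Finset.mem_compl, implies_true]),
      Finset.card_compl, ← P0.supp h4, (tp_two.2 ⟨a, b, c, d, h4, rfl⟩).2]
    omega
  rcases swap_image (by omega) (by omega) F' (fun r r' k => iF (by rw [← hF', k, hF'])) with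
    ⟨ε, hε⟩ | ⟨h6, s1, s2, s3, s4⟩
  · exfalso
    obtain ⟨x, y, hxy⟩ := Fintype.exists_pair_of_one_lt_card (α := {z // ∀ i, e i ≠ z}) (by omega)
    have hxy' : x.1 ≠ y.1 := fun k => hxy (Subtype.ext k)
    have a4 := aF (swap x y)
    rw [← hF', hε, Perm.ofSubtype_swap_eq, permCongr_def, symm_trans_swap_trans,
      Perm.ofSubtype_swap_eq] at a4
    have cj := (h3.all hxy' (tp_t6 e)).symm
    obtain ⟨κ', h''⟩ := h'.emb cj
    obtain ⟨m, n, k⟩ := T1.symm (⟨fun k => hxy (ε.injective (Subtype.ext k)), cj, by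
      rw [← Perm.ofSubtype_swap_eq]; exact comm_map (cE _ t6), a4⟩ : T1 κ _ _ _ _) h'.cw h''.cw
    exact absurd ((tp_act h hc hxy' (tp_t6 e) (E_out e _ x.2) (E_out e _ y.2) h''.cw k.act).unique
      (tp_swap k.ne)) (by decide)
  · refine ⟨by omega, a, b, c, d, h4, a1, a2, fun r hr => ?_⟩
    obtain ⟨r, rfl⟩ := res (Q := fun z => ∀ i, e i ≠ z) (r := r) fun z hz => by
      push Not at hz
      obtain ⟨i, rfl⟩ := hz
      exact hr i
    refine ⟨F r, aF r, fF r, ?_⟩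
    rw [← hF']
    simp only [Tp.ofSubtype, Perm.cycleType_ofSubtype]
    exact ⟨s1 r, s2 r, s3 r, s4 r⟩

/-- Type two occurs at an element of type three. -/
theorem sg2 (h : Hs ψ) (h3 : Ty ψ 3) (e : Fin 6 ↪ β) (h' : Cf κ (ψ (E e t6))) {a b c d : α}
    (h4 : D4 a b c d) (a1 : Act κ (ψ (E e (swap 0 1))) (dt a b c d)) : Sg κ (ψ (E e t6)) 2 :=
  h'.sg_of_even (by rw [E_swap]; exact (h3.all (e.injective.ne (by decide)) (tp_t6 e)).symm)
    (comm_map (by rw [← map_mul, ← map_mul, show swap 0 1 * t6 = t6 * swap 0 1 by decide]))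
    (fun k => absurd (E_inj e (h.inj k)) (by decide)) a1 h4.mem (tp_two.2 ⟨a, b, c, d, h4, rfl⟩)

end H3

open H3

theorem Hs.three (h : Hs ψ) (h3 : Ty ψ 3) (hc : Fintype.card β = Fintype.card α + 2) (e : Fin 6 ↪ β)
    (h' : Cf κ (ψ (swap (e 0) (e 1) * swap (e 2) (e 3) * swap (e 4) (e 5)))) :
    Fintype.card β = 12 ∧ ∃ a b c d, D4 a b c d ∧ Act κ (ψ (swap (e 0) (e 1))) (dt a b c d) ∧
      Act κ (ψ (swap (e 2) (e 3))) (dt a c b d) ∧
      ∀ r : Perm β, (∀ i, r (e i) = e i) → ∃ σ, Act κ (ψ r) σ ∧ Fx a b c d σ ∧ (Tp r 1 → Tp σ 3) ∧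
        (Tp r 2 → Tp σ 2) ∧ (Tp r 3 → Tp σ 1) ∧ (r.cycleType = {4} → σ.cycleType = {4}) := by
  rw [← E_t6] at h'
  rw [← E_swap, ← E_swap]
  exact H3.three h h3 hc e h'

theorem Hs.card3 (h : Hs ψ) (h3 : Ty ψ 3) : Fintype.card β = 12 ∧ Ty ψ 5 := by
  obtain ⟨e'⟩ := exists_emb h.ten
  let e : Fin 6 ↪ β := (Fin.castLEEmb (by decide : 6 ≤ 10)).trans e'
  have h01 : e 0 ≠ e 1 := e.injective.ne (by decide)
  have cj := h3.all h01 (tp_t6 e)
  obtain ⟨κ, h'⟩ := (h.cf h01).emb cj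
  obtain ⟨h12, a, b, c, d, h4, a1, -, hr⟩ := H3.three h h3 (card_Rm h01).symm e h'
  have k2 : Tp (E e' (swap 6 7 * swap 8 9)) 2 := tp_E e' ⟨by decide, by decide⟩
  have fx : ∀ i, E e' (swap 6 7 * swap 8 9) (e i) = e i := fun i => by
    refine (E_e e' _ _).trans (congrArg e' ?_)
    revert i
    decide
  obtain ⟨σ, aσ, -, -, s2, -⟩ := hr _ fx
  have d := disj_E e t6 fx
  have all := (sg2 h h3 e h' h4 a1).all h'.cw (s2 k2)
  refine ⟨h12, ?_⟩
  rcases h'.cw.of_even (comm_map d.commute.eq.symm) (by rw [← map_mul, k2.1, map_one]) aσ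
    ((s2 k2).even_iff.2 even_two) with k | k
  · exact ⟨_, _, _, h01, (tp_t6 e).mul_disjoint k2 d, by rw [map_mul, k]; exact cj.trans all⟩
  · exact absurd (h.odd ⟨_, _, _, h01, k2, k ▸ cj.trans all⟩) (by decide)

theorem Hs.sw33 (h : Hs ψ) (h3 : Ty ψ 3) (hc : Fintype.card β = Fintype.card α + 2) {r r' : Perm β}
    (hr : Tp r 3) (hr' : Tp r' 3) (hd : r.Disjoint r') : Sw α (ψ r) (ψ r') := by
  obtain ⟨e, rfl⟩ := std3 (by have := h.ten; omega) hr
  have h01 : e 0 ≠ e 1 := e.injective.ne (by decide)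
  obtain ⟨κ, h'⟩ := exists_cf h hc h01 (h3.all h01 hr)
  obtain ⟨-, a, b, c, d, -, -, -, k⟩ := H3.three h h3 hc e h'
  obtain ⟨σ, aσ, -, -, -, s3, -⟩ := k r' fun i => (hd (e i)).resolve_left fun k => by
    rw [E_e] at k
    exact (by decide : ∀ i, t6 i ≠ i) i (e.injective k)
  obtain ⟨x, y, hxy, rfl⟩ := tp_one.1 (s3 hr')
  exact ⟨κ, x, y, h', hxy, (h3.all h01 hr).symm.trans (h3.all h01 hr'), comm_map hd.commute.eq.symm, aσ⟩

theorem Hs.two3 (h : Hs ψ) (hc : Fintype.card β = Fintype.card α + 2) {a b c d : β} {z : Perm β}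
    (h4 : D4 a b c d) (hz : Fx a b c d z) (h2 : Tp z 2) :
    ¬ Sw α (ψ (swap a b * z)) (ψ (swap c d * z)) ∨ ¬ Ty ψ 3 := by
  by_contra hn
  push Not at hn
  obtain ⟨⟨κ, m, n, h', t1⟩, h3⟩ := hn
  obtain ⟨p, q, r, s, k4, rfl⟩ := tp_two.1 h2
  have mv : ∀ x, dt p q r s x = x → x ≠ p ∧ x ≠ q ∧ x ≠ r ∧ x ≠ s := fun x hx => by
    have := Perm.notMem_support.2 hx
    rw [P0.supp k4] at this
    simpa only [Finset.mem_insert, Finset.mem_singleton, not_or] using this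
  have ka := mv a hz.a
  have kb := mv b hz.b
  have kc := mv c hz.c
  have kd := mv d hz.d
  let e : Fin 6 ↪ β := ⟨![a, b, p, q, r, s], (List.nodup_ofFn (f := ![a, b, p, q, r, s])).1 (by
    simp [h4.ab, ka, kb, k4.ab, k4.ac, k4.ad, k4.bc, k4.bd, k4.cd])⟩
  have e1 : swap a b * dt p q r s = swap (e 0) (e 1) * swap (e 2) (e 3) * swap (e 4) (e 5) :=
    (mul_assoc _ _ _).symm
  obtain ⟨-, a', b', c', d', h4', a1, -, k⟩ := h.three h3 hc e (e1 ▸ h')
  obtain ⟨σ, aσ, fσ, s1, -⟩ := k (swap c d) fun i => by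
    fin_cases i
    exacts [swap_apply_of_ne_of_ne h4.ac h4.ad, swap_apply_of_ne_of_ne h4.bc h4.bd,
      swap_apply_of_ne_of_ne kc.1.symm kd.1.symm, swap_apply_of_ne_of_ne kc.2.1.symm kd.2.1.symm,
      swap_apply_of_ne_of_ne kc.2.2.1.symm kd.2.2.1.symm,
      swap_apply_of_ne_of_ne kc.2.2.2.symm kd.2.2.2.symm]
  have a2 : Act κ (ψ (swap a b * dt p q r s) * ψ (swap a b) * ψ (swap c d)) _ := (h'.cen.mul a1).mul aσ
  rw [← map_mul, ← map_mul, (disj_swap hz.a hz.b).commute.eq, mul_assoc (dt p q r s), swap_mul_self,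
    mul_one, ← (disj_swap hz.c hz.d).commute.eq, one_mul] at a2
  have := (tp_two.2 ⟨_, _, _, _, h4', rfl⟩).mul_disjoint (s1 (tp_swap h4.cd)) (disj_dt fσ)
  rw [h'.cw.uniq a2 t1.act] at this
  exact absurd (this.unique (tp_swap t1.ne)) (by decide)

end Cfsg.Agent.SAq
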