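import Mathlib
import Cfsg.Agent.SAq.HsB
import Cfsg.Agent.SAq.BP
import Cfsg.Agent.SAq.PmB

/-! Case C: the centralizer of a double transposition. See `stubs/Cfsg/Agent/SAq/PLAN.md`. -/

set_option autoImplicit false
set_option linter.unusedSectionVars false

namespace Cfsg.Agent.SAq

open Cfsg Cfsg.Agent.GT Cfsg.Agent.Loc.Mss Cfsg.Agent.Sym Cfsg.Agent.Loc.SO Cfsg.Agent.SAn Subgroup Equiv
open Cfsg.Agent.StdB (C1 mem_C1)
open scoped commutatorElement

variable {α β γ : Type} [Fintype α] [DecidableEq α] [Fintype β] [DecidableEq β] [Fintype γ]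
  [DecidableEq γ] {G : Type*} [Group G] [Finite G] {ι κ l : alternatingGroup α →* G}
  {ψ : Perm β →* G} {X P M L : Subgroup G} {t s u g o : G} {p q σ τ π : Perm α} {k j : ℕ}

namespace CB

variable {a b c d : β}

theorem sw_sq (ψ : Perm β →* G) (a b : β) : ψ (swap a b) * ψ (swap a b) = 1 := by
  rw [← map_mul, swap_mul_self, map_one]

theorem sw_inv (ψ : Perm β →* G) (a b : β) : (ψ (swap a b))⁻¹ = ψ (swap a b) :=
  inv_eq_of_mul_eq_one_right (sw_sq ψ a b)

theorem d_eq (ψ : Perm β →* G) (a b c d : β) :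
    ψ (dt a b c d) = ψ (swap a b) * ψ (swap c d) := by rw [dt, map_mul]

theorem u_comm (ψ : Perm β →* G) (h4 : D4 a b c d) :
    ψ (swap a b) * ψ (swap c d) = ψ (swap c d) * ψ (swap a b) := by
  rw [← map_mul, ← map_mul, (P0.disj h4).commute.eq]

theorem d_sq (ψ : Perm β →* G) (h4 : D4 a b c d) : ψ (dt a b c d) * ψ (dt a b c d) = 1 := by
  rw [← map_mul, h4.iv.1, map_one]

theorem u1_d (ψ : Perm β →* G) (h4 : D4 a b c d) :
    ψ (swap a b) * ψ (dt a b c d) = ψ (dt a b c d) * ψ (swap a b) := by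
  rw [d_eq, mul_assoc, ← u_comm ψ h4]

theorem u2_eq (ψ : Perm β →* G) (a b c d : β) :
    ψ (swap c d) = ψ (swap a b) * ψ (dt a b c d) := by
  rw [d_eq, ← mul_assoc, sw_sq, one_mul]

/-- The two alternatives for an element normalizing `⟨u₁, d⟩`. -/
theorem pair (h4 : D4 a b c d) (hg : g * ψ (dt a b c d) = ψ (dt a b c d) * g)
    (h1 : g * ψ (swap a b) * g⁻¹ * (ψ (swap a b))⁻¹ ∈ zpowers (ψ (dt a b c d))) :
    (g * ψ (swap a b) * g⁻¹ = ψ (swap a b) ∧ g * ψ (swap c d) * g⁻¹ = ψ (swap c d)) ∨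
      (g * ψ (swap a b) * g⁻¹ = ψ (swap c d) ∧ g * ψ (swap c d) * g⁻¹ = ψ (swap a b)) := by
  have e : g * ψ (swap c d) * g⁻¹ = g * ψ (swap a b) * g⁻¹ * ψ (dt a b c d) := by
    rw [u2_eq ψ a b c d, ← mul_assoc, mul_assoc _ _ g⁻¹, ← show g⁻¹ * ψ (dt a b c d) =
      ψ (dt a b c d) * g⁻¹ from (Commute.inv_left hg).eq, mul_assoc, mul_assoc, mul_assoc]
  rcases (StdB.mem_zpowers_two (d_sq ψ h4)).1 h1 with h | h
  · have h' := mul_inv_eq_one.1 h
    exact Or.inl ⟨h', by rw [e, h', ← u2_eq]⟩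
  · have h' : g * ψ (swap a b) * g⁻¹ = ψ (swap c d) := by
      rw [mul_inv_eq_iff_eq_mul.1 h, ← u1_d ψ h4, ← u2_eq]
    exact Or.inr ⟨h', by rw [e, h', u2_eq ψ a b c d, mul_assoc, d_sq ψ h4, mul_one]⟩

theorem swap_of {r : Perm β} (hr : r.IsSwap) {x y : β} (hxy : x ≠ y) (h : r x = y) :
    r = swap x y := by
  obtain ⟨z, w, -, rfl⟩ := hr
  rw [swap_apply_def] at h
  split_ifs at h with h1 h2
  · rw [h1, h]
  · rw [h2, h, swap_comm]
  · exact absurd h hxy

theorem swap_cases (h4 : D4 a b c d) {r : Perm β} (hr : r.IsSwap)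
    (hr' : (r * dt a b c d).IsSwap) : r = swap a b ∨ r = swap c d := by
  obtain ⟨z, w, -, e⟩ := hr'
  have ea : dt a b c d a = b := by
    rw [dt, Perm.mul_apply, swap_apply_of_ne_of_ne h4.ac h4.ad, swap_apply_left]
  have eb : dt a b c d b = a := by
    rw [dt, Perm.mul_apply, swap_apply_of_ne_of_ne h4.bc h4.bd, swap_apply_right]
  have ec : dt a b c d c = d := by
    rw [dt, Perm.mul_apply, swap_apply_left, swap_apply_of_ne_of_ne h4.ad.symm h4.bd.symm]
  have k : ∀ x, x ≠ z → x ≠ w → r (dt a b c d x) = x := fun x h1 h2 => by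
    rw [← Perm.mul_apply, e, swap_apply_of_ne_of_ne h1 h2]
  by_cases ha : a ≠ z ∧ a ≠ w
  · left; rw [swap_comm]; exact swap_of hr h4.ab.symm (ea ▸ k a ha.1 ha.2)
  by_cases hb : b ≠ z ∧ b ≠ w
  · left; exact swap_of hr h4.ab (eb ▸ k b hb.1 hb.2)
  right
  rw [swap_comm]
  refine swap_of hr h4.cd.symm (ec ▸ k c ?_ ?_)
  · rintro rfl
    have h1 : a = w := by by_contra h; exact ha ⟨h4.ac, h⟩
    have h2 : b = w := by by_contra h; exact hb ⟨h4.bc, h⟩
    exact h4.ab (h1.trans h2.symm)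
  · rintro rfl
    have h1 : a = z := by by_contra h; exact ha ⟨h, h4.ac⟩
    have h2 : b = z := by by_contra h; exact hb ⟨h, h4.bc⟩
    exact h4.ab (h1.trans h2.symm)

theorem isSwap_of (h : Hs ψ) (hc : ∀ k, Ty ψ k → k = 1) {x y : β} (hxy : x ≠ y) {r : Perm β}
    (hr : IsConj (ψ (swap x y)) (ψ r)) : r.IsSwap := by
  have h2 : r * r = 1 := h.inj (by
    obtain ⟨g, hg⟩ := isConj_iff.1 hr
    rw [map_mul, map_one, ← hg]
    calc _ = g * (ψ (swap x y) * ψ (swap x y)) * g⁻¹ := by group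
      _ = 1 := by rw [sw_sq]; group)
  obtain ⟨k, hk⟩ := tp_exists h2
  obtain rfl := hc k ⟨r, x, y, hxy, hk, hr⟩
  exact tp_one.1 hk

theorem card_rest (h4 : D4 a b c d) :
    (({a, b, c, d} : Finset β)ᶜ).card + 4 = Fintype.card β := by
  have : ({a, b, c, d} : Finset β).card = 4 := by
    rw [← P0.supp h4, ← Perm.sum_cycleType, P0.ctype h4]; rfl
  rw [← this, add_comm, Finset.card_add_card_compl]

theorem phi_comm (h4 : D4 a b c d) (ν : Perm (Fin 4)) {p : Perm β}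
    (hp : p ∈ altOn ({a, b, c, d} : Finset β)ᶜ) : p * P0.Φ h4 ν = P0.Φ h4 ν * p := by
  refine Perm.Disjoint.commute fun x => ?_
  rcases P0.cases h4 x with ⟨i, rfl⟩ | hx
  · exact Or.inl ((mem_altOn.1 hp).2 _ (by rw [Finset.mem_compl, not_not]; exact P0.e_mem h4 i))
  · exact Or.inr (P0.Φ_out h4 ν hx)

theorem phi_cent (ψ : Perm β →* G) (h4 : D4 a b c d) (ν : Perm (Fin 4)) :
    ψ (P0.Φ h4 ν) ∈ 𝐂[(altOn ({a, b, c, d} : Finset β)ᶜ).map ψ] := by
  refine mem_cent.2 ?_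
  rintro _ ⟨p, hp, rfl⟩
  rw [← map_mul, ← map_mul, phi_comm h4 ν hp]

theorem u1_cent (ψ : Perm β →* G) (h4 : D4 a b c d) :
    ψ (swap a b) ∈ 𝐂[(altOn ({a, b, c, d} : Finset β)ᶜ).map ψ] := by
  have := phi_cent ψ h4 (swap 0 1)
  rwa [P0.Φ_swap] at this

theorem d_cent (ψ : Perm β →* G) (h4 : D4 a b c d) :
    ψ (dt a b c d) ∈ 𝐂[(altOn ({a, b, c, d} : Finset β)ᶜ).map ψ] := by
  have := phi_cent ψ h4 (dt 0 1 2 3)
  rwa [P0.Φ1] at this

/-- The alternating group on the remaining points. -/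
noncomputable def eL (h : Hs ψ) (S : Finset β) :
    alternatingGroup (Fin S.card) ≃* (altOn S).map ψ :=
  (altOnEquiv S).symm.trans (equivMapOfInjective _ ψ h.inj)

theorem simple_L (h : Hs ψ) (h4 : D4 a b c d) :
    IsSimpleGroup ((altOn ({a, b, c, d} : Finset β)ᶜ).map ψ) := by
  have h1 := card_rest h4
  have h2 := h.ten
  have := alternatingGroup.isSimpleGroup (α := Fin (({a, b, c, d} : Finset β)ᶜ).card)
    (by rw [Nat.card_fin]; omega)
  exact (eL h _).symm.isSimpleGroup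

theorem eight_dvd (h : Hs ψ) (h4 : D4 a b c d) :
    2 ^ 3 ∣ Nat.card ((altOn ({a, b, c, d} : Finset β)ᶜ).map ψ) := by
  have h1 := card_rest h4
  have h2 := h.ten
  rw [← Nat.card_congr (eL h _).toEquiv]
  have : Nontrivial (Fin (({a, b, c, d} : Finset β)ᶜ).card) := Fin.nontrivial_iff_two_le.2 (by omega)
  have h3 := two_mul_nat_card_alternatingGroup (α := Fin (({a, b, c, d} : Finset β)ᶜ).card)
  rw [Nat.card_perm, Nat.card_fin] at h3
  have h5 : Nat.factorial 6 ∣ _ := Nat.factorial_dvd_factorial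
    (show 6 ≤ (({a, b, c, d} : Finset β)ᶜ).card by omega)
  rw [← h3] at h5
  exact Nat.dvd_of_mul_dvd_mul_left (show 0 < 2 by norm_num)
    (Dvd.dvd.trans (by decide : 2 * 2 ^ 3 ∣ Nat.factorial 6) h5)

theorem qs_L (h : Hs ψ) (h4 : D4 a b c d) :
    IsQuasisimple ((altOn ({a, b, c, d} : Finset β)ᶜ).map ψ) := by
  have := simple_L h h4
  refine IsQuasisimple.of_isSimpleGroup fun hm => ?_
  have h8 := eight_dvd h h4
  let _ : CommGroup ((altOn ({a, b, c, d} : Finset β)ᶜ).map ψ) :=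
    { mul_comm := hm.is_comm.comm }
  have hp := IsSimpleGroup.prime_card (α := (altOn ({a, b, c, d} : Finset β)ᶜ).map ψ)
  rcases (Nat.dvd_prime hp).1 h8 with e | e
  · norm_num at e
  · rw [← e] at hp; norm_num at hp

theorem d8 : ∀ x : Perm (Fin 4), x * dt 0 1 2 3 = dt 0 1 2 3 * x → x * x * (x * x) = 1 := by
  decide +kernel

theorem odd_O (y : G) : Odd (Nat.card ((oddCore (C1 y)).map (C1 y).subtype)) := by
  rw [card_map_of_injective (C1 y).subtype_injective]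
  exact odd_card_oddCore

theorem norm_O (y : G) : C1 y ≤ 𝐍[(oddCore (C1 y)).map (C1 y).subtype] := by
  have := map_norm_le (C1 y).subtype (norm_normal ⊤ (oddCore (C1 y)))
  rwa [map_subtype_top] at this

end CB

open CB

theorem Hs.iso (h : Hs ψ) (hc : ∀ k, Ty ψ k → k = 1) {a b c d : β} (h4 : D4 a b c d)
    (hg : g * ψ (dt a b c d) = ψ (dt a b c d) * g)
    (h1 : ⁅g * ψ (swap a b) * g⁻¹, ψ (swap a b)⁆ ∈ zpowers (ψ (dt a b c d))) :
    g * ψ (swap a b) * g⁻¹ * (ψ (swap a b))⁻¹ ∈ zpowers (ψ (dt a b c d)) := by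
  set s := g * ψ (swap a b) * g⁻¹ with hs
  have ss : s * s = 1 := by
    calc _ = g * (ψ (swap a b) * ψ (swap a b)) * g⁻¹ := by rw [hs]; group
      _ = 1 := by rw [sw_sq]; group
  have sd : s * ψ (dt a b c d) = ψ (dt a b c d) * s :=
    ((Commute.mul_left hg (u1_d ψ h4)).mul_left (Commute.inv_left hg)).eq
  have hp := pair h4 sd h1
  obtain ⟨f, f1, f2, hle⟩ := h.into2 (α := Rm a b) (P := zpowers s) (card_Rm h4.ab).symm h4
    (IsConj.refl _) (h.sw (card_Rm h4.ab).symm h4) (StdB.pg_zpowers ss) fun x hx => by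
      rcases (StdB.mem_zpowers_two ss).1 hx with rfl | rfl
      · exact Or.inl ⟨by group, by group⟩
      · exact hp
  obtain ⟨r, hr⟩ := mem_cj.1 (hle (mem_zpowers s))
  have fd : f * ψ (dt a b c d) * f⁻¹ = ψ (dt a b c d) := by
    calc _ = f * ψ (swap a b) * f⁻¹ * (f * ψ (swap c d) * f⁻¹) := by rw [d_eq]; group
      _ = _ := by rw [f1, f2, d_eq]
  have r1 : r.IsSwap := isSwap_of h hc h4.ab (isConj_iff.2 ⟨f⁻¹ * g, by rw [hr, hs]; group⟩)
  have r2 : (r * dt a b c d).IsSwap := isSwap_of h hc h4.cd (isConj_iff.2 ⟨f⁻¹ * g, by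
    rw [map_mul, hr, hs, u2_eq ψ a b c d]
    calc _ = f⁻¹ * (g * ψ (swap a b) * g⁻¹) * (g * ψ (dt a b c d) * g⁻¹) * f := by group
      _ = f⁻¹ * (g * ψ (swap a b) * g⁻¹) * (f * ψ (dt a b c d) * f⁻¹) * f := by
        rw [fd, hg, mul_inv_cancel_right]
      _ = _ := by group⟩)
  have e : s = f * ψ r * f⁻¹ := by rw [hr]; group
  rcases swap_cases h4 r1 r2 with rfl | rfl
  · rw [e, f1, mul_inv_cancel]; exact one_mem _
  · rw [e, f2, sw_inv, ← u_comm ψ h4, ← d_eq]; exact mem_zpowers _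

/-- The normalizer of a pair normalizes the alternating group on the remaining points. -/
theorem Hs.pair_norm (h : Hs ψ) {a b c d : β} (h4 : D4 a b c d)
    (hg : g * ψ (dt a b c d) = ψ (dt a b c d) * g)
    (h1 : g * ψ (swap a b) * g⁻¹ * (ψ (swap a b))⁻¹ ∈ zpowers (ψ (dt a b c d))) :
    g ∈ 𝐍[(altOn ({a, b, c, d} : Finset β)ᶜ).map ψ] := by
  obtain ⟨r, hr, e⟩ := h.pair_nrm h4 (pair h4 hg h1)
  refine mem_norm_of_cj_le (cj_le_iff.2 ?_)
  rintro _ ⟨p, hp, rfl⟩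
  refine ⟨r * p * r⁻¹, mem_altOn.2 ⟨conj_mem_alt (mem_altOn.1 hp).1 r, fun x hx => ?_⟩, (e p hp).symm⟩
  have hx' : r x = x := by
    simp only [Finset.mem_compl, not_not, Finset.mem_insert, Finset.mem_singleton] at hx
    rcases hx with rfl | rfl | rfl | rfl
    exacts [hr.a, hr.b, hr.c, hr.d]
  have hx2 : r⁻¹ x = x := by rw [Perm.inv_eq_iff_eq, hx']
  rw [Perm.mul_apply, Perm.mul_apply, hx2, (mem_altOn.1 hp).2 x hx, hx']

theorem CB.zs (h : Hs ψ) (hc : ∀ k, Ty ψ k → k = 1) {a b c d : β} (h4 : D4 a b c d)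
    (hg : g * ψ (dt a b c d) = ψ (dt a b c d) * g) :
    ∃ o ∈ (oddCore (C1 (ψ (dt a b c d)))).map (C1 (ψ (dt a b c d))).subtype,
      (o * g) * ψ (swap a b) * (o * g)⁻¹ * (ψ (swap a b))⁻¹ ∈ zpowers (ψ (dt a b c d)) :=
  zstar_mod (d_sq ψ h4) (u1_d ψ h4) (by rw [sw_sq]; exact one_mem _)
    (fun _ k1 k2 => h.iso hc h4 k1 k2) hg

theorem GH.cen_norm (h : GH ψ X) (hc : ∀ k, Ty ψ k → k = 1) {a b c d : β} (h4 : D4 a b c d) :
    C1 (ψ (dt a b c d)) ≤ 𝐍[(altOn ({a, b, c, d} : Finset β)ᶜ).map ψ] := by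
  have hL : (altOn ({a, b, c, d} : Finset β)ᶜ).map ψ ≤ C1 (ψ (dt a b c d)) := fun x hx =>
    mem_C1.2 (mem_cent.1 (d_cent ψ h4) x hx)
  have hq := qs_L h.hs h4
  refine (cent_of_B (h.fr a b h4.ab).hB h.core
    ⟨d_sq ψ h4, fun e => h4.iv.2 (h.hs.inj (e.trans (map_one ψ).symm))⟩ hL ?_ rfl ?_ ?_).2
  · exact hq.commutator_eq
  · refine (hq.subgroupOf hL).map _ fun e => ?_
    rw [Subgroup.map_eq_bot_iff, QuotientGroup.ker_mk'] at e
    have h2 := card_dvd_of_le e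
    rw [Nat.card_congr (subgroupOfEquivOfLe hL).toEquiv] at h2
    exact (odd_card_oddCore.of_dvd_nat ((eight_dvd h.hs h4).trans h2)).not_two_dvd_nat (by decide)
  · intro g hg
    obtain ⟨o, ho, e⟩ := zs h.hs hc h4 (mem_C1.1 hg)
    have hoc : o * g ∈ C1 (ψ (dt a b c d)) := mul_mem (map_subtype_le _ ho) hg
    have k1 := h.hs.pair_norm h4 (mem_C1.1 hoc) e
    have k2 := norm_sup (zpowers_le.2 k1) (zpowers_le.2 (norm_O _ hoc)) (mem_zpowers _)
    have k3 := le_normalizer (mem_sup_right (S := (altOn ({a, b, c, d} : Finset β)ᶜ).map ψ) ho)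
    simpa using mul_mem (inv_mem k3) k2

/-- A 2-subgroup of `C(L)` containing `u₁`, `u₂`: the centralizer of `u₁`. -/
theorem CB.four (h : Hs ψ) {a b c d : β} (h4 : D4 a b c d) {R : Subgroup G} (hR : IsPGroup 2 R)
    (hle : R ≤ 𝐂[(altOn ({a, b, c, d} : Finset β)ᶜ).map ψ]) (h2 : ψ (swap c d) ∈ R) {x : G}
    (hx : x ∈ R) (hc : x * ψ (swap a b) = ψ (swap a b) * x) :
    x = 1 ∨ x = ψ (swap a b) ∨ x = ψ (swap c d) ∨ x = ψ (dt a b c d) := by
  obtain ⟨σ, sa, sb, e⟩ := h.reg a b h4.ab x hc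
  have h1 := card_rest h4
  have h10 := h.ten
  have hσ : σ ∈ 𝐂[altOn ({a, b, c, d} : Finset β)ᶜ] := mem_cent.2 fun p hp => by
    have k := e p (mem_altOn.1 hp).1 ((mem_altOn.1 hp).2 a (by simp)) ((mem_altOn.1 hp).2 b (by simp))
    rw [← mem_cent.1 (hle hx) _ ⟨p, hp, rfl⟩, mul_inv_cancel_right] at k
    exact eq_mul_inv_iff_mul_eq.1 (h.inj k)
  have fix := cent_altOn (by omega) hσ
  have fx : ∀ z, z ≠ c → z ≠ d → σ z = z := fun z zc zd => by
    by_cases za : z = a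
    · rw [za, sa]
    by_cases zb : z = b
    · rw [zb, sb]
    exact fix z (by simp [za, zb, zc, zd])
  have hs : σ = 1 ∨ σ = swap c d := by
    by_cases k : σ c = c
    · left
      ext z
      by_cases zc : z = c
      · rw [zc, k]; rfl
      by_cases zd : z = d
      · by_contra k2
        have k3 : σ d ≠ c := fun o => h4.cd (σ.injective (k.trans o.symm))
        have k4 : σ d ≠ d := fun o => k2 (by rw [zd, o]; rfl)
        exact k4 (σ.injective (fx _ k3 k4))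
      · exact fx z zc zd
    · right
      have k1 : σ c = d := by
        by_contra o
        exact k (σ.injective (fx _ k o))
      have k2 : σ d = c := by
        by_contra o
        have k3 : σ d ≠ d := fun o' => h4.cd (σ.injective (k1.trans o'.symm))
        exact k3 (σ.injective (fx _ o k3))
      ext z
      by_cases zc : z = c
      · rw [zc, k1, swap_apply_left]
      by_cases zd : z = d
      · rw [zd, k2, swap_apply_right]
      · rw [fx z zc zd, swap_apply_of_ne_of_ne zc zd]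
  rcases hs with rfl | rfl
  · rcases h.ker a b h4.ab x hc (fun p hp pa pb => by
      have := e p hp pa pb
      rw [one_mul, inv_one, mul_one] at this
      exact mul_inv_eq_iff_eq_mul.1 this) (pg_iff.1 hR x hx) with k | k
    exacts [Or.inl k, Or.inr (Or.inl k)]
  · rcases h.ker a b h4.ab (ψ (swap c d) * x)
      (by rw [mul_assoc, hc, ← mul_assoc, ← u_comm ψ h4, mul_assoc]) (fun p hp pa pb => by
      have := mul_inv_eq_iff_eq_mul.1 (e p hp pa pb)
      rw [mul_assoc, this, ← mul_assoc, ← mul_assoc, ← map_mul, ← map_mul]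
      simp [← mul_assoc]) (pg_iff.1 hR _ (mul_mem h2 hx)) with k | k
    · exact Or.inr (Or.inr (Or.inl (by rw [← sw_inv]; exact eq_inv_of_mul_eq_one_right k)))
    · refine Or.inr (Or.inr (Or.inr ?_))
      rw [d_eq, u_comm ψ h4, ← k, ← mul_assoc, sw_sq, one_mul]

theorem GH.two_le (h : GH ψ X) (hc : ∀ k, Ty ψ k → k = 1) {a b c d : β} (h4 : D4 a b c d)
    (hP : IsPGroup 2 P) (hle : P ≤ 𝐂[(altOn ({a, b, c, d} : Finset β)ᶜ).map ψ]) : Nat.card P ≤ 8 := by
  have hE : IsPGroup 2 ((C1 (dt (0 : Fin 4) 1 2 3)).map (ψ.comp (P0.Φ h4))) :=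
    IsPGroup.map (pg_iff.2 fun x hx => ⟨2, by
      rw [show 2 ^ 2 = 2 + 2 from rfl, pow_add, pow_two]
      exact d8 x (mem_C1.1 hx)⟩) _
  obtain ⟨R, hER, hR⟩ := Syl.exists_ge hE
    (show _ ≤ 𝐂[(altOn ({a, b, c, d} : Finset β)ᶜ).map ψ] by
      rintro _ ⟨ν, -, rfl⟩; exact phi_cent ψ h4 ν)
  have m1 : ψ (swap a b) ∈ R := hER ⟨swap 0 1, mem_C1.2 (by decide), congrArg ψ (P0.Φ_swap h4 0 1)⟩
  have m2 : ψ (swap c d) ∈ R := hER ⟨swap 2 3, mem_C1.2 (by decide), congrArg ψ (P0.Φ_swap h4 2 3)⟩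
  have mv : ψ (dt a c b d) ∈ R := hER ⟨dt 0 2 1 3, mem_C1.2 (by decide), congrArg ψ (P0.Φ2 h4)⟩
  have v1 : ψ (dt a c b d) * ψ (swap a b) = ψ (swap c d) * ψ (dt a c b d) := by
    rw [← map_mul, ← map_mul, ← P0.Φ2 h4, ← show _ = swap a b from P0.Φ_swap h4 0 1,
      ← show _ = swap c d from P0.Φ_swap h4 2 3, ← map_mul, ← map_mul]
    exact congrArg _ (congrArg _ (by decide))
  have vv : ψ (dt a c b d) * ψ (dt a c b d) = 1 := d_sq ψ h4.acb
  have v2 : ψ (dt a c b d) * ψ (swap c d) = ψ (swap a b) * ψ (dt a c b d) := by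
    calc _ = ψ (dt a c b d) * (ψ (swap c d) * ψ (dt a c b d)) * ψ (dt a c b d) := by
          rw [mul_assoc, mul_assoc, vv, mul_one]
      _ = _ := by rw [← v1, ← mul_assoc, vv, one_mul]
  have n12 : ψ (swap a b) ≠ ψ (swap c d) := fun e => h4.iv.2 (h.hs.inj (by
    rw [d_eq, e, sw_sq, map_one]))
  have f4 := fun x hx => CB.four h.hs h4 hR.pg hR.le m2 (x := x) hx
  have hd : R ≤ C1 (ψ (dt a b c d)) := by
    obtain ⟨z, hz, -, iz, cz⟩ := Bas.cen_inv (D := R) hR.pg (by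
      rw [inf_idem]
      intro e
      rw [e, mem_bot] at mv
      exact h4.acb.iv.2 (h.hs.inj (mv.trans (map_one ψ).symm))) le_normalizer
    rcases f4 z hz (cz _ m1) with k | k | k | k
    · exact absurd k iz.2
    · have := cz _ mv
      rw [k, v1] at this
      exact absurd (mul_right_cancel this) n12
    · have := cz _ mv
      rw [k, v2] at this
      exact absurd (mul_right_cancel this).symm n12
    · exact fun x hx => mem_C1.2 (k ▸ (cz x hx).symm)
  have key : ∀ r ∈ R, r * ψ (swap a b) * r⁻¹ = ψ (swap a b) ∨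
      r * ψ (swap a b) * r⁻¹ = ψ (swap c d) := fun r hr => by
    obtain ⟨o, ho, e⟩ := zs h.hs hc h4 (mem_C1.1 (hd hr))
    have aux : ∀ w ∈ R, o * r * ψ (swap a b) * (o * r)⁻¹ = w → r * ψ (swap a b) * r⁻¹ = w :=
      fun w hw e' => by
        have k1 : r * ψ (swap a b) * r⁻¹ * w⁻¹ = o⁻¹ * (w * o * w⁻¹) := by rw [← e']; group
        have k2 : r * ψ (swap a b) * r⁻¹ * w⁻¹ ∈ R :=
          mul_mem (mul_mem (mul_mem hr m1) (inv_mem hr)) (inv_mem hw)
        have k3 := mul_mem (inv_mem ho) (conj_mem_of_norm (norm_O _ (hd hw)) ho)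
        rw [← k1] at k3
        have k4 := eq_bot_of_coprime (hR.pg.to_inf_left (K := _)) (inf_le_right (a := R))
          ((Nat.coprime_two_right).2 (odd_O (ψ (dt a b c d))))
        have k5 : _ ∈ R ⊓ _ := ⟨k2, k3⟩
        rw [k4, mem_bot] at k5
        exact mul_inv_eq_one.1 k5
    rcases pair h4 (mem_C1.1 (mul_mem (map_subtype_le _ ho) (hd hr))) e with k | k
    exacts [Or.inl (aux _ m1 k.1), Or.inr (aux _ m2 k.1)]
  obtain ⟨f, -, hf⟩ := hR.conj_le hP hle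
  classical
  have hsub : (R : Set G) ⊆ ([1, ψ (swap a b), ψ (swap c d), ψ (dt a b c d), ψ (dt a c b d),
      ψ (dt a c b d) * ψ (swap a b), ψ (dt a c b d) * ψ (swap c d),
      ψ (dt a c b d) * ψ (dt a b c d)].toFinset : Finset G) := fun r hr => by
    simp only [Finset.mem_coe, List.mem_toFinset, List.mem_cons, List.not_mem_nil, or_false]
    rcases key r hr with k | k
    · rcases f4 r hr (mul_inv_eq_iff_eq_mul.1 k) with o | o | o | o <;> simp [o]
    · have e : r = ψ (dt a c b d) * (ψ (dt a c b d) * r) := by rw [← mul_assoc, vv, one_mul]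
      rcases f4 _ (mul_mem mv hr) (by
        rw [mul_assoc, mul_inv_eq_iff_eq_mul.1 k, ← mul_assoc, v2, mul_assoc]) with o | o | o | o <;>
        rw [o] at e <;> simp [e]
  calc Nat.card P = Nat.card cj(f, P) := (card_cj _ _).symm
    _ ≤ Nat.card R := card_le_of_le hf
    _ = (R : Set G).ncard := Nat.card_coe_set_eq _
    _ ≤ _ := Set.ncard_le_ncard hsub (Finset.finite_toSet _)
    _ ≤ 8 := by rw [Set.ncard_coe_finset]; exact List.toFinset_card_le _

end Cfsg.Agent.SAq
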