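import Mathlib
import Cfsg.Agent.SAq.CA
import Cfsg.Agent.SAq.CB
import Cfsg.Agent.SAn.Main

/-! Case C: the alternating group. See `stubs/Cfsg/Agent/SAq/PLAN.md`. -/

set_option autoImplicit false
set_option linter.unusedSectionVars false

namespace Cfsg.Agent.SAq

open Cfsg Cfsg.Agent.GT Cfsg.Agent.Loc.Mss Cfsg.Agent.Sym Cfsg.Agent.Loc.SO Cfsg.Agent.SAn Subgroup Equiv
open Cfsg.Agent.StdB (C1 mem_C1)
open scoped commutatorElement

variable {α β γ : Type} [Fintype α] [DecidableEq α] [Fintype β] [DecidableEq β] [Fintype γ]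
  [DecidableEq γ] {G : Type*} [Group G] [Finite G] {ι κ l : alternatingGroup α →* G}
  {ψ : Perm β →* G} {X P M L : Subgroup G} {t s u g o : G} {p q σ τ π : Perm α} {k j : ℕ}

namespace CC

open CB

variable {a b c d : β}

theorem L_le (h : GH ψ X) (S : Finset β) : (altOn S).map ψ ≤ X := by
  rintro _ ⟨p, hp, rfl⟩
  exact h.AX p (mem_altOn.1 hp).1

theorem four_le (h : GH ψ X) (hc : ∀ k, Ty ψ k → k = 1) (h4 : D4 a b c d) (hP : IsPGroup 2 P)
    (hX : P ≤ X) (hle : P ≤ 𝐂[(altOn ({a, b, c, d} : Finset β)ᶜ).map ψ]) : Nat.card P ≤ 4 := by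
  have := (h.fr a b h4.ab).nX
  obtain ⟨R, hER, hR⟩ := Syl.exists_ge (StdB.pg_zpowers (sw_sq ψ a b))
    (zpowers_le.2 (u1_cent ψ h4))
  obtain ⟨f, -, hf⟩ := hR.conj_le hP hle
  have h1 : cj(f, P) ≤ X ⊓ R := le_inf ((cj_mono f hX).trans (cj_normal X f).le) hf
  have h2 := h.two_le hc h4 hR.pg hR.le
  have h3 := card_le_of_le h1
  rw [card_cj] at h3
  obtain ⟨m, hm⟩ := card_dvd_of_le (inf_le_right : X ⊓ R ≤ R)
  have h5 : 0 < Nat.card R := Nat.card_pos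
  have h6 : m ≠ 1 := by
    rintro rfl
    have e := eq_of_le_of_card_ge (inf_le_right : X ⊓ R ≤ R) (by omega)
    exact h.not_mem hc h4.ab (e.ge (hER (mem_zpowers _))).1
  have h7 : m ≠ 0 := by rintro rfl; omega
  have h8 : Nat.card (X ⊓ R : Subgroup G) * 2 ≤ Nat.card (X ⊓ R : Subgroup G) * m :=
    Nat.mul_le_mul_left _ (by omega)
  omega

theorem cen_le (h : GH ψ X) (hc : ∀ k, Ty ψ k → k = 1) (h4 : D4 a b c d) {w : G} (iw : Iv w)
    (hX : w ∈ X) (hw : w ∈ 𝐂[(altOn ({a, b, c, d} : Finset β)ᶜ).map ψ]) :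
    C1 w ≤ 𝐍[(altOn ({a, b, c, d} : Finset β)ᶜ).map ψ] := by
  have hV : Nat.card ((V4 a b c d).map ψ) = 4 := by
    rw [card_map_of_injective h.hs.inj, h4.k4.1]
  have hle : (V4 a b c d).map ψ ≤ X ⊓ 𝐂[(altOn ({a, b, c, d} : Finset β)ᶜ).map ψ] := by
    rintro _ ⟨p, hp, rfl⟩
    obtain ⟨ν, -, rfl⟩ := (P0.mem_V4' h4).1 hp
    exact ⟨h.AX _ (h4.V4_le_alt hp), phi_cent ψ h4 ν⟩
  have hS : Syl 2 ((V4 a b c d).map ψ) (X ⊓ 𝐂[(altOn ({a, b, c, d} : Finset β)ᶜ).map ψ]) :=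
    Syl.of_maximal (h4.k4.pg.map ψ) hle fun P hP h1 h2 =>
      (eq_of_le_of_card_ge h1 (by
        rw [hV]; exact four_le h hc h4 hP (h2.trans inf_le_left) (h2.trans inf_le_right))).ge
  obtain ⟨f, hf, hfw⟩ := hS.conj_le (StdB.pg_zpowers iw.1) (zpowers_le.2 ⟨hX, hw⟩)
  obtain ⟨p, hp, e⟩ := hfw (conj_mem_cj (mem_zpowers w))
  have p1 : p ≠ 1 := by
    rintro rfl
    exact (Bas.iv_conj iw f).2 (e.symm.trans (map_one ψ))
  obtain ⟨b', c', d', h4', rfl, -, hs⟩ := h4.first hp p1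
  have k := h.cen_norm hc h4'
  rw [hs, e] at k
  intro x hx
  have k1 := k (mem_C1.2 (Bas.conj_comm (mem_C1.1 hx) f))
  have k2 := cent_le_norm _ hf.2
  have := mul_mem (mul_mem (inv_mem k2) k1) k2
  simpa [mul_assoc] using this

theorem not_le (h : GH ψ X) (hc : ∀ k, Ty ψ k → k = 1) (h4 : D4 a b c d) (g : G) :
    ¬ cj(g, (altOn ({a, b, c, d} : Finset β)ᶜ).map ψ) ≤
      𝐂[(altOn ({a, b, c, d} : Finset β)ᶜ).map ψ] := fun hle => by
  have := (h.fr a b h4.ab).nX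
  obtain ⟨Q, hQ⟩ := Sylow.exists_subgroup_card_pow_prime 2 (eight_dvd h.hs h4)
  have h1 := cj_mono g (map_subtype_le Q)
  have h2 : Nat.card cj(g, Q.map ((altOn ({a, b, c, d} : Finset β)ᶜ).map ψ).subtype) = 2 ^ 3 := by
    rw [card_cj, card_map_of_injective (subtype_injective _), hQ]
  have h3 := four_le h hc h4 (IsPGroup.of_card h2)
    (h1.trans ((cj_mono g (L_le h _)).trans (cj_normal X g).le)) (h1.trans hle)
  omega

theorem te (h : GH ψ X) (hc : ∀ k, Ty ψ k → k = 1) (h4 : D4 a b c d) {w : G} (iw : Iv w)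
    (hX : w ∈ X) (hw : w ∈ 𝐂[(altOn ({a, b, c, d} : Finset β)ᶜ).map ψ])
    (hw' : w ∈ 𝐂[cj(g, (altOn ({a, b, c, d} : Finset β)ᶜ).map ψ)]) :
    g ∈ 𝐍[(altOn ({a, b, c, d} : Finset β)ᶜ).map ψ] := by
  have nX := (h.fr a b h4.ab).nX
  have k1 := cen_le h hc h4 iw hX hw
  have k2 := cen_le h hc h4 (Bas.iv_conj' iw g) (by simpa using nX.conj_mem w hX g⁻¹)
    (Bas.cent_cj.1 hw')
  rcases qs_le_or_le_centralizer (A := cj(g, (altOn ({a, b, c, d} : Finset β)ᶜ).map ψ))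
    (qs_L h.hs h4) (fun x hx => Bas.norm_cj.2 (k2 (mem_C1.2 (by
      simpa using Bas.conj_comm (mem_cent.1 hw x hx) g⁻¹))))
    (fun x hx => k1 (mem_C1.2 (mem_cent.1 hw' x hx))) with e | e
  · exact cj_eq_iff.1 (cj_eq_of_ge e)
  · exact absurd e (not_le h hc h4 g)

end CC

open CB CC in
theorem GH.caseC (h : GH ψ X) (hc : ∀ k, Ty ψ k → k = 1) :
    Nonempty (X ≃* alternatingGroup (Fin (Fintype.card β))) := by
  have h10 := h.hs.ten
  obtain ⟨a, b, c, d, h4⟩ := exists_D4 (α := β) (by omega)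
  have hr := card_rest h4
  have sX := (h.fr a b h4.ab).sX
  have hL := L_le h ({a, b, c, d} : Finset β)ᶜ
  let κ : alternatingGroup (Fin (({a, b, c, d} : Finset β)ᶜ).card) →* X :=
    (inclusion hL).comp (eL h.hs _).toMonoidHom
  have hκ : κ.range = ((altOn ({a, b, c, d} : Finset β)ᶜ).map ψ).subgroupOf X := by
    rw [MonoidHom.range_comp, MonoidHom.range_eq_top.2 (eL h.hs _).surjective,
      ← MonoidHom.range_eq_map, inclusion_range]
  have hκi : Function.Injective κ := (inclusion_injective hL).comp (eL h.hs _).injective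
  have hC : ∀ x : X, x ∈ 𝐂[κ.range] ↔ (x : G) ∈ 𝐂[(altOn ({a, b, c, d} : Finset β)ᶜ).map ψ] :=
    fun x => by rw [hκ, cent_subgroupOf hL, mem_subgroupOf]
  have hN : ∀ x : X, x ∈ 𝐍[κ.range] ↔ (x : G) ∈ 𝐍[(altOn ({a, b, c, d} : Finset β)ᶜ).map ψ] :=
    fun x => by rw [hκ, norm_subgroupOf hL, mem_subgroupOf]
  have hte : ∀ w g : X, Iv w → w ∈ 𝐂[κ.range] → w ∈ cj(g, 𝐂[κ.range]) → g ∈ 𝐍[κ.range] :=
    fun w g iw k1 k2 => (hN g).2 (te h hc h4
      ⟨congrArg Subtype.val iw.1, fun e => iw.2 (Subtype.ext e)⟩ w.2 ((hC w).1 k1)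
      (Bas.cent_cj.2 ((hC _).1 (mem_cj.1 k2))))
  have iv : ∀ {x y z w : β} (k : D4 x y z w), Iv (⟨ψ (dt x y z w), h.AX _ k.mem⟩ : X) := fun k =>
    ⟨Subtype.ext (d_sq ψ k), fun e => k.iv.2 (h.hs.inj
      ((congrArg Subtype.val e).trans (map_one ψ).symm))⟩
  have hu : (⟨ψ (dt a b c d), h.AX _ h4.mem⟩ : X) ∈ 𝐂[κ.range] := (hC _).2 (d_cent ψ h4)
  have hv : (⟨ψ (dt a c b d), h.AX _ h4.acb.mem⟩ : X) ∈ 𝐂[κ.range] := (hC _).2 (by
    have := phi_cent ψ h4 (dt 0 2 1 3)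
    rwa [P0.Φ2] at this)
  have hq : IsQuasisimple κ.range := hκ ▸ (qs_L h.hs h4).subgroupOf hL
  have hA : IsStandardSubgroup κ.range := by
    refine ⟨hq, ⟨?_, fun g hg => ?_⟩, fun g _ e => ?_, le_antisymm (norm_cent le_rfl) fun g hg => ?_⟩
    · rw [even_iff_two_dvd, ← Bas.iv_ord (iv h4)]
      exact orderOf_dvd_natCard _ hu
    · by_contra ho
      obtain ⟨t, ht⟩ := exists_prime_orderOf_dvd_card' 2
        (even_iff_two_dvd.1 (Nat.not_odd_iff_even.1 ho))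
      exact hg (norm_cent le_rfl (hte t g (Bas.iv_of_ord (by rw [orderOf_coe, ht])) t.2.1 t.2.2))
    · refine not_le h hc h4 g (cj_le_iff.2 fun x hx => ?_)
      exact (hC (g * ⟨x, hL hx⟩ * g⁻¹)).1 (comm_eq_bot_iff'.1 e (conj_mem_cj (by
        rw [hκ]; exact hx)))
    · exact hte _ g (iv h4) hu (by rw [cj_of_norm hg]; exact hu)
  have hst : St κ := st_of_std (by rw [Fintype.card_fin]; omega) hκi hA
    (fun hn => by
      rcases hn.eq_bot_or_eq_top with e | e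
      · exact hq.ne_bot e
      · have k : (⟨ψ (dt a b c d), h.AX _ h4.mem⟩ : X) ∈ κ.range := by rw [e]; exact mem_top _
        rw [hκ, mem_subgroupOf] at k
        obtain ⟨p, hp, k⟩ := k
        have k2 := (mem_altOn.1 hp).2 a (by simp)
        rw [h.hs.inj k, dt, Perm.mul_apply, swap_apply_of_ne_of_ne h4.ac h4.ad,
          swap_apply_left] at k2
        exact h4.ab k2.symm)
    hu hv (iv h4) (iv h4.acb) (fun e => h4.dt_ne (h.hs.inj (congrArg Subtype.val e)))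
    (Subtype.ext (by
      show ψ _ * ψ _ = ψ _ * ψ _
      rw [← map_mul, ← map_mul, h4.dt_comm]))
    fun L hL hKL => by
      rcases hL.eq_bot_or_eq_top with e | e
      · have := hKL hu
        rw [e, mem_bot] at this
        exact absurd this (iv h4).2
      · rw [e]; exact le_top
  have e := (topEquiv : (⊤ : Subgroup X) ≃* X).symm
  rcases hst.core inferInstance e.symm.isSimpleGroup le_top (fun _ _ _ _ => rfl) with
    ⟨⟨f⟩⟩ | ⟨k, -⟩
  · rw [Fintype.card_fin, hr] at f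
    exact ⟨e.trans f⟩
  · rw [Fintype.card_fin] at k
    omega

end Cfsg.Agent.SAq
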