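import Mathlib
import Cfsg.Agent.SAq.Chi
import Cfsg.Agent.SAq.HsB

/-! The symmetric group on two more points. See `stubs/Cfsg/Agent/SAq/PLAN.md`. -/

set_option autoImplicit false
set_option linter.unusedSectionVars false

namespace Cfsg.Agent.SAq

open Cfsg Cfsg.Agent.GT Cfsg.Agent.Loc.Mss Cfsg.Agent.Sym Cfsg.Agent.Loc.SO Cfsg.Agent.SAn Subgroup Equiv
open Cfsg.Agent.StdB (C1 mem_C1)
open scoped commutatorElement

variable {α β γ : Type} [Fintype α] [DecidableEq α] [Fintype β] [DecidableEq β] [Fintype γ]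
  [DecidableEq γ] {G : Type*} [Group G] [Finite G] {ι κ l : alternatingGroup α →* G}
  {ψ : Perm β →* G} {X P M L : Subgroup G} {t s u g o : G} {p q σ τ π : Perm α} {k j : ℕ}

namespace GlueAux

/-- A symmetric group extending the alternating group. -/
structure Ch (ι : alternatingGroup α →* G) (t : G) (χ : Perm α →* G) : Prop where
  cf : Cf ι t
  h1 : ∀ p ∈ alternatingGroup α, χ p = ev ι p
  h2 : ∀ a b, a ≠ b → T1 ι t (χ (swap a b)) a b

variable {χ χ' : Perm α →* G}

theorem Ch.act (h : Ch ι t χ) (σ : Perm α) : Act ι (χ σ) σ := by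
  induction σ using Perm.swap_induction_on with
  | one => simpa using (Act.one : Act ι 1 1)
  | swap_mul f x y hxy ih => rw [map_mul]; exact (h.h2 x y hxy).act.mul ih

theorem Ch.comm (h : Ch ι t χ) (σ : Perm α) : χ σ * t = t * χ σ := by
  induction σ using Perm.swap_induction_on with
  | one => simp
  | swap_mul f x y hxy ih =>
    rw [map_mul, mul_assoc, ih, ← mul_assoc, (h.h2 x y hxy).comm, mul_assoc]

theorem Ch.inj (h : Ch ι t χ) : Function.Injective χ := fun σ τ e =>
  h.cf.cw.uniq (h.act σ) (e ▸ h.act τ)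

theorem swap_sq (χ : Perm α →* G) (a b : α) : χ (swap a b) * χ (swap a b) = 1 := by
  rw [← map_mul, swap_mul_self, map_one]

theorem permCongr_swap (e : α ≃ β) (a b : α) : e.permCongr (swap a b) = swap (e a) (e b) :=
  symm_trans_swap_trans a b e

theorem permCongr_mem (e : α ≃ β) : e.permCongr p ∈ alternatingGroup β ↔ p ∈ alternatingGroup α := by
  rw [Perm.mem_alternatingGroup, Perm.mem_alternatingGroup, Perm.sign_permCongr]

theorem permCongr_conj (e : α ≃ β) (σ p : Perm α) :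
    e.permCongr (σ * p * σ⁻¹) = e.permCongr σ * e.permCongr p * (e.permCongr σ)⁻¹ := by
  change e.permCongrHom (σ * p * σ⁻¹) = e.permCongrHom σ * e.permCongrHom p * (e.permCongrHom σ)⁻¹
  rw [map_mul, map_mul, map_inv]

theorem act_congr {ι' : alternatingGroup β →* G} (e : β ≃ α)
    (he : ∀ p ∈ alternatingGroup β, ev ι' p = ev ι (e.permCongr p)) {τ : Perm β} :
    Act ι' g τ ↔ Act ι g (e.permCongr τ) := by
  constructor
  · intro h p hp
    obtain ⟨q, rfl⟩ := e.permCongr.surjective p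
    have hq := (permCongr_mem e).1 hp
    rw [← he q hq, h q hq, he _ (conj_mem_alt hq τ), permCongr_conj]
  · intro h p hp
    rw [he p hp, h _ ((permCongr_mem e).2 hp), he _ (conj_mem_alt hp τ), permCongr_conj]

theorem cf_congr {ι' : alternatingGroup β →* G} (h : Cf ι t) (e : β ≃ α)
    (he : ∀ p ∈ alternatingGroup β, ev ι' p = ev ι (e.permCongr p)) : Cf ι' t := by
  have h1 : e.permCongr (1 : Perm β) = 1 := map_one e.permCongrHom
  refine ⟨by rw [Fintype.card_congr e]; exact h.eight, fun p q hpq => ?_, h.iv,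
    (act_congr e he).2 (by rw [h1]; exact h.cen), fun g hg => ?_, fun g hg ha h2 => ?_⟩
  · have : ev ι' p = ev ι' q := by rw [ev_coe, ev_coe, hpq]
    rw [he _ p.2, he _ q.2] at this
    exact Subtype.ext (e.permCongr.injective
      (ev_inj h.inj ((permCongr_mem e).2 p.2) ((permCongr_mem e).2 q.2) this))
  · obtain ⟨σ, hσ⟩ := h.reg g hg
    obtain ⟨τ, rfl⟩ := e.permCongr.surjective σ
    exact ⟨τ, (act_congr e he).2 hσ⟩
  · exact h.ker g hg (by rw [← h1]; exact (act_congr e he).1 ha) h2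

theorem ev_comp (ι : alternatingGroup α →* G) (e : β ≃ α) :
    ∀ p ∈ alternatingGroup β, ev (ι.comp e.altCongrHom.toMonoidHom) p = ev ι (e.permCongr p) := by
  intro p hp
  rw [ev_of_mem hp, ev_of_mem ((permCongr_mem e).2 hp)]
  rfl

theorem sw_congr (h : Sw α s u) (e : β ≃ α) : Sw β s u := by
  obtain ⟨κ, x, y, h1, h2⟩ := h
  refine ⟨κ.comp e.altCongrHom.toMonoidHom, e.symm x, e.symm y, cf_congr h1 e (ev_comp κ e),
    fun hh => h2.ne (e.symm.injective hh), h2.cj, h2.comm, (act_congr e (ev_comp κ e)).2 ?_⟩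
  rw [permCongr_swap, apply_symm_apply, apply_symm_apply]
  exact h2.act

theorem Ch.congr (h : Ch ι t χ) (e : β ≃ α) :
    Ch (ι.comp e.altCongrHom.toMonoidHom) t (χ.comp e.permCongrHom.toMonoidHom) := by
  refine ⟨cf_congr h.cf e (ev_comp ι e), fun p hp => ?_, fun a b hab => ?_⟩
  · rw [ev_comp ι e p hp, ← h.h1 _ ((permCongr_mem e).2 hp)]; rfl
  · have h2 := h.h2 (e a) (e b) (e.injective.ne hab)
    have h3 : (χ.comp e.permCongrHom.toMonoidHom) (swap a b) = χ (swap (e a) (e b)) := by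
      rw [← permCongr_swap]; rfl
    rw [h3]
    refine ⟨hab, h2.cj, h2.comm, (act_congr e (ev_comp ι e)).2 ?_⟩
    rw [permCongr_swap]; exact h2.act

/-- The neighbours of type one agree. -/
theorem star {a b c d p q : α} (h : Ch ι t χ) (h' : Ch κ (χ (swap a b)) χ') (hpq : p ≠ q)
    (ht : χ' (swap p q) = t) (h4 : D4 a b c d) (h3 : Sw α (χ (swap a b)) (χ (swap c d)))
    (h5 : ¬ IsConj t (t * χ (swap a b))) :
    ∃ x y, D4 p q x y ∧ χ (swap c d) = χ' (swap x y) := by
  obtain ⟨x, y, hu⟩ := h3.t1 h'.cf.cw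
  have at' : Act κ t (swap p q) := ht ▸ h'.act _
  have cts : t * χ (swap a b) = χ (swap a b) * t := (h.comm _).symm
  have ctu : t * χ (swap c d) = χ (swap c d) * t := (h.comm _).symm
  have hc : swap p q * swap x y = swap x y * swap p q :=
    Act.comm h'.cf.inj (by have := h'.cf.eight; omega) at' hu.act ctu
  have c2 : t * χ (swap c d) * χ (swap a b) = χ (swap a b) * (t * χ (swap c d)) := by
    rw [mul_assoc, hu.comm, ← mul_assoc, cts, mul_assoc]
  have sq : t * χ (swap c d) * (t * χ (swap c d)) = 1 := by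
    rw [mul_assoc, ← mul_assoc (χ _) t, ← ctu, mul_assoc, swap_sq, mul_one, h.cf.iv.1]
  have tt := h.cf.iv.1
  have hD : D4 p q x y := by
    rcases (commute_swap_swap_iff hpq hu.ne).1 hc with e | ⟨e1, e2, e3, e4⟩
    · exfalso
      have a1 : Act κ (t * χ (swap c d)) 1 := by
        have := at'.mul hu.act
        rwa [e, swap_mul_self] at this
      rcases h'.cf.cw.ker2 _ c2 a1 sq with e | e
      · have e' : χ (swap c d) = t := by
          rw [← mul_left_cancel_iff (a := t), e, tt]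
        have := h.cf.cw.uniq (h.act (swap c d)) (e' ▸ h.cf.cen)
        exact h4.cd (swap_eq_one_iff.1 this)
      · have e' : t = χ (dt a b c d) := by
          rw [dt, map_mul, ← e, mul_assoc, swap_sq, mul_one]
        rw [h.h1 _ h4.mem] at e'
        exact h.cf.cw.not_mem (e' ▸ ev_mem _)
    · exact ⟨hpq, e1, e2, e3, e4, hu.ne⟩
  refine ⟨x, y, hD, ?_⟩
  have a2 : Act κ (t * χ (swap c d)) (dt p q x y) := at'.mul hu.act
  have e2 : ev κ (dt p q x y) = t * χ' (swap x y) := by
    rw [← h'.h1 _ hD.mem, dt, map_mul, ht]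
  rcases h'.cf.cw.of_even c2 sq a2 hD.mem with e | e
  · rw [e2] at e
    exact mul_left_cancel e
  · exfalso
    rw [e2, ← mul_assoc, ← cts, mul_assoc] at e
    have e3 := mul_left_cancel e
    obtain ⟨π, hπ⟩ := isConj_iff.1 (Perm.isConj_swap hpq hu.ne)
    have e4 : χ' π * (t * χ (swap a b)) * (χ' π)⁻¹ = χ (swap c d) := by
      rw [e3, ← hπ, map_mul, map_mul, map_inv, ht, cts, ← mul_assoc, h'.comm π]
      group
    exact h5 ((h.h2 c d h4.cd).cj.trans (isConj_iff.2 ⟨_, e4⟩).symm)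

theorem card_rm {a b p q : α} (hab : a ≠ b) (hpq : p ≠ q) :
    Fintype.card (Rm a b) = Fintype.card (Rm p q) := by
  have := card_Rm hab
  have := card_Rm hpq
  omega

/-- The symmetric group at a transposition, with matching labels. -/
theorem base {a b : α} (h : Ch ι t χ) (hab : a ≠ b)
    (h3 : ∀ c d, D4 a b c d → Sw α (χ (swap a b)) (χ (swap c d)))
    (h5 : ¬ IsConj t (t * χ (swap a b))) :
    ∃ (κ : alternatingGroup α →* G) (χ' : Perm α →* G), Ch κ (χ (swap a b)) χ' ∧
      χ' (swap a b) = t ∧ ∀ c d, D4 a b c d → χ' (swap c d) = χ (swap c d) := by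
  obtain ⟨κ, hκ⟩ := h.cf.emb (h.h2 a b hab).cj
  obtain ⟨p, q, hT⟩ := (h.h2 a b hab).symm h.cf.cw hκ.cw
  obtain ⟨χ', -, c1, c2, -, -, c3⟩ := hT.exists_chi hκ.cw
  have h' : Ch κ (χ (swap a b)) χ' := ⟨hκ, c1, c3⟩
  have hpq := hT.ne
  let j : Perm (Rm a b) →* G := χ.comp Perm.ofSubtype
  let j' : Perm (Rm p q) →* G := χ'.comp Perm.ofSubtype
  have ij : Function.Injective j := h.inj.comp Perm.ofSubtype_injective
  have ij' : Function.Injective j' := h'.inj.comp Perm.ofSubtype_injective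
  have key : ∀ c d : Rm a b, c ≠ d → ∃ x y : Rm p q, x ≠ y ∧ j (swap c d) = j' (swap x y) := by
    intro c d hcd
    have h4 : D4 a b c.1 d.1 :=
      ⟨hab, c.2.1.symm, d.2.1.symm, c.2.2.symm, d.2.2.symm, fun e => hcd (Subtype.ext e)⟩
    obtain ⟨x, y, hD, e⟩ := star h h' hpq c2 h4 (h3 _ _ h4) h5
    refine ⟨⟨x, hD.ac.symm, hD.bc.symm⟩, ⟨y, hD.ad.symm, hD.bd.symm⟩,
      fun e => hD.cd (congrArg Subtype.val e), ?_⟩
    simp only [j, j', MonoidHom.comp_apply, Perm.ofSubtype_swap_eq]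
    exact e
  have hle : ∀ r, j r ∈ j'.range := by
    intro r
    induction r using Perm.swap_induction_on with
    | one => rw [map_one]; exact one_mem _
    | swap_mul f x y hxy ih =>
      obtain ⟨x', y', -, e⟩ := key x y hxy
      rw [map_mul, e]
      exact mul_mem ⟨_, rfl⟩ ih
  let f : Perm (Rm a b) →* Perm (Rm p q) :=
    (MonoidHom.ofInjective ij').symm.toMonoidHom.comp (j.codRestrict _ hle)
  have hf : ∀ r, j' (f r) = j r := fun r => MonoidHom.apply_ofInjective_symm ij' _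
  have fi : Function.Injective f := fun r r' e => ij (by rw [← hf, ← hf, e])
  have c4 : 4 ≤ Fintype.card (Rm a b) := by
    have := card_Rm hab
    have := h.cf.eight
    omega
  obtain ⟨e, he⟩ := exists_equiv_of_isSwap c4 (card_rm hab hpq) f fi (by
    rintro _ ⟨c, d, hcd, rfl⟩
    obtain ⟨x, y, hxy, e⟩ := key c d hcd
    exact ⟨x, y, hxy, ij' (by rw [hf, e])⟩)
  let π : Perm α := e.extendSubtype
  have hπ : π * swap a b * π⁻¹ = swap p q := by
    rw [← swap_apply_apply]
    have ha := e.extendSubtype_not_mem a (fun hh => hh.1 rfl)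
    have hb := e.extendSubtype_not_mem b (fun hh => hh.2 rfl)
    have hne : π a ≠ π b := π.injective.ne hab
    rw [swap_eq_swap_iff hne]
    simp only [not_and_or, not_not] at ha hb
    rcases ha with ha | ha <;> rcases hb with hb | hb
    · exact absurd (ha.trans hb.symm) hne
    · exact Or.inl ⟨ha, hb⟩
    · exact Or.inr ⟨ha, hb⟩
    · exact absurd (ha.trans hb.symm) hne
  refine ⟨rι κ π, χ'.comp (MulAut.conj π).toMonoidHom, ⟨hκ.toR π, fun r hr => ?_, fun c d hcd => ?_⟩,
    ?_, fun c d h4 => ?_⟩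
  · rw [ev_rι _ _ hr, ← c1 _ (conj_mem_alt hr π)]; rfl
  · have h2 := c3 (π c) (π d) (π.injective.ne hcd)
    have e1 : (χ'.comp (MulAut.conj π).toMonoidHom) (swap c d) = χ' (swap (π c) (π d)) := by
      rw [swap_apply_apply]; rfl
    rw [e1]
    refine ⟨hcd, h2.cj, h2.comm, ?_⟩
    have := h2.act.toR π
    rwa [show π⁻¹ * swap (π c) (π d) * π = swap c d by rw [swap_apply_apply]; group] at this
  · change χ' (π * swap a b * π⁻¹) = t
    rw [hπ, c2]
  · change χ' (π * swap c d * π⁻¹) = _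
    rw [← swap_apply_apply]
    have hc : c ≠ a ∧ c ≠ b := ⟨h4.ac.symm, h4.bc.symm⟩
    have hd : d ≠ a ∧ d ≠ b := ⟨h4.ad.symm, h4.bd.symm⟩
    have := hf (swap ⟨c, hc⟩ ⟨d, hd⟩)
    rw [he, permCongr_swap] at this
    simp only [j, j', MonoidHom.comp_apply, Perm.ofSubtype_swap_eq] at this
    rw [e.extendSubtype_apply_of_mem c hc, e.extendSubtype_apply_of_mem d hd]
    exact this

/-- The commutation relation that is not visible in the first symmetric group. -/
theorem far {a b c d e m m' : α} (h : Ch ι t χ) (h' : Ch κ (χ (swap a b)) χ')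
    (ht : χ' (swap a b) = t) (hs : ∀ c d, D4 a b c d → χ' (swap c d) = χ (swap c d))
    (h3 : ∀ a b c d, D4 a b c d → Sw α (χ (swap a b)) (χ (swap c d)))
    (h5 : ∀ a b, a ≠ b → ¬ IsConj t (t * χ (swap a b)))
    (d1 : D4 a b d e) (d2 : D4 a b m m') (d3 : D4 d e m m') (d4 : D4 d e b c) (d5 : D4 b c m m') :
    χ' (swap m' a) * χ (swap b c) = χ (swap b c) * χ' (swap m' a) := by
  obtain ⟨κ2, χ2, h2, ht2, hs2⟩ := base h d1.cd (h3 d e) (h5 d e d1.cd)
  have c5 : 5 ≤ Fintype.card (Rm d e) := by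
    have := card_Rm d1.cd
    have := h.cf.eight
    omega
  have hle := h2.cf.alt_le c5 (sub χ' fun z => z ≠ d ∧ z ≠ e) (fun r => by
    change χ' (Perm.ofSubtype (r : Perm (Rm d e))) * _ = _ * χ' (Perm.ofSubtype (r : Perm (Rm d e)))
    rw [← hs d e d1, ← map_mul, ← map_mul]
    congr 1
    refine (Perm.Disjoint.commute fun z => ?_).eq
    by_cases hz : z ≠ d ∧ z ≠ e
    · exact Or.inr (swap_apply_of_ne_of_ne hz.1 hz.2)
    · exact Or.inl (Perm.ofSubtype_apply_of_not_mem _ hz))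
  let a' : Rm d e := ⟨a, d1.ac, d1.ad⟩
  let b' : Rm d e := ⟨b, d1.bc, d1.bd⟩
  let n' : Rm d e := ⟨m', d3.ad.symm, d3.bd.symm⟩
  have hm : swap a' b' * swap n' a' ∈ alternatingGroup (Rm d e) :=
    Perm.mul_mem_alternatingGroup_of_isSwap ⟨_, _, fun e => d1.ab (congrArg Subtype.val e), rfl⟩
      ⟨_, _, fun e => d2.ad (congrArg Subtype.val e).symm, rfl⟩
  obtain ⟨r, hr, er⟩ := mem_range_iff.1 (hle ⟨⟨_, hm⟩, rfl⟩)
  have er' : χ2 r = t * χ' (swap m' a) := by
    rw [h2.h1 r hr, er]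
    change χ' (Perm.ofSubtype (swap a' b' * swap n' a')) = _
    rw [map_mul, map_mul, Perm.ofSubtype_swap_eq, Perm.ofSubtype_swap_eq, ht]
  have br : χ' (swap m' a) * t * χ' (swap m' a) = t * χ' (swap m' a) * t := by
    rw [← ht, ← map_mul, ← map_mul, ← map_mul, ← map_mul, swap_braid d2.ad.symm d1.ab d2.bd.symm]
  have ew : χ' (swap m' a) = χ2 (swap (r d) (r e)) := by
    rw [swap_apply_apply, map_mul, map_mul, map_inv, er', ht2, mul_inv_rev,
      inv_eq_of_mul_eq_one_right (swap_sq χ' m' a), inv_eq_of_mul_eq_one_right h.cf.iv.1, ← br]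
    have : ∀ w : G, w * w = 1 → w * t * w = t * w * t → w = w * t * w * (w * t) := by
      intro w h1 _
      rw [mul_assoc (w * t), ← mul_assoc w w, h1, one_mul, mul_assoc, h.cf.iv.1, mul_one]
    exact this _ (swap_sq _ _ _) br
  have hne : r d ≠ r e := r.injective.ne d1.cd
  have n1 : ¬ Commute (swap (r d) (r e)) (swap d e) := fun hc => by
    have e1 := congrArg χ2 hc.eq
    rw [map_mul, map_mul, ← ew, ht2, ← ht, ← map_mul, ← map_mul] at e1
    rcases (commute_swap_swap_iff d2.ad.symm d1.ab).1 (h'.inj e1) with e | e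
    · rcases (swap_eq_swap_iff d2.ad.symm).1 e with e | e
      · exact d2.ad e.1.symm
      · exact d2.bd e.1.symm
    · exact e.2.2.1 rfl
  have n2 : ¬ Commute (swap (r d) (r e)) (swap m m') := fun hc => by
    have e1 := congrArg χ2 hc.eq
    rw [map_mul, map_mul, ← ew, hs2 _ _ d3, ← hs _ _ d2, ← map_mul, ← map_mul] at e1
    rcases (commute_swap_swap_iff d2.ad.symm d2.cd).1 (h'.inj e1) with e | e
    · rcases (swap_eq_swap_iff d2.ad.symm).1 e with e | e
      · exact d2.cd e.1.symm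
      · exact d2.ac e.2
    · exact e.2.1 rfl
  rw [commute_swap_swap_iff hne d1.cd, not_or] at n1
  rw [commute_swap_swap_iff hne d2.cd, not_or] at n2
  have hc : Commute (swap (r d) (r e)) (swap b c) := by
    have := n1.2
    have := n2.2
    have := d3.ac
    have := d3.ad
    have := d3.bc
    have := d3.bd
    have := d4.ac
    have := d4.ad
    have := d4.bc
    have := d4.bd
    have := d5.ac
    have := d5.ad
    have := d5.bc
    have := d5.bd
    refine commute_swap_swap ?_ ?_ ?_ ?_ <;> grind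
  rw [ew, ← hs2 _ _ d4, ← map_mul, ← map_mul, hc.eq]

end GlueAux

open GlueAux

/-- The extra Coxeter generator. -/
theorem Cf.exists_w {n : ℕ} {ι : alternatingGroup (Fin (n + 1)) →* G} {χ : Perm (Fin (n + 1)) →* G}
    (h : Cf ι t) (h1 : ∀ p ∈ alternatingGroup _, χ p = ev ι p)
    (h2 : ∀ a b, a ≠ b → T1 ι t (χ (swap a b)) a b)
    (h3 : ∀ a b c d, D4 a b c d → Sw (Fin (n + 1)) (χ (swap a b)) (χ (swap c d)))
    (h4 : ∀ a b, a ≠ b → ¬ IsConj t (t * χ (swap a b))) :
    ∃ w, w * w = 1 ∧ w * t * w = t * w * t ∧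
      ∀ i : Fin n, (i.val + 1 < n → w * χ (swap i.castSucc i.succ) = χ (swap i.castSucc i.succ) * w) ∧
        (i.val + 1 = n → w * χ (swap i.castSucc i.succ) * w =
          χ (swap i.castSucc i.succ) * w * χ (swap i.castSucc i.succ)) := by
  have hC : Ch ι t χ := ⟨h, h1, h2⟩
  have h7 : 7 ≤ n := by have := h.eight; rw [Fintype.card_fin] at this; omega
  let P : ∀ i : ℕ, i ≤ n → Fin (n + 1) := fun i hi => ⟨i, by omega⟩
  have ne : ∀ {x y : Fin (n + 1)}, x.val ≠ y.val → x ≠ y := fun hh e => hh (congrArg Fin.val e)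
  have h01 : P 0 (by omega) ≠ P 1 (by omega) := ne (by simp [P])
  obtain ⟨κ, χ', h', ht, hs⟩ := base hC h01 (h3 _ _) (h4 _ _ h01)
  refine ⟨χ' (swap (P n le_rfl) (P 0 (by omega))), swap_sq _ _ _, ?_, fun i => ⟨fun hi => ?_, fun hi => ?_⟩⟩
  · rw [← ht, ← map_mul, ← map_mul, ← map_mul, ← map_mul,
      swap_braid (ne (by simp only [P]; omega)) h01 (ne (by simp only [P]; omega))]
  · rcases Nat.lt_trichotomy i.val 1 with h0 | h0 | h0
    · have e1 : i.castSucc = P 0 (by omega) := Fin.ext (by simp only [P, Fin.val_castSucc]; omega)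
      have e2 : i.succ = P 1 (by omega) := Fin.ext (by simp only [P, Fin.val_succ]; omega)
      rw [e1, e2]
      exact h'.comm _
    · have e1 : i.castSucc = P 1 (by omega) := Fin.ext (by simp only [P, Fin.val_castSucc]; omega)
      have e2 : i.succ = P 2 (by omega) := Fin.ext (by simp only [P, Fin.val_succ]; omega)
      rw [e1, e2]
      refine far (d := P 3 (by omega)) (e := P 4 (by omega)) (m := P (n - 1) (by omega)) hC h' ht hs
        h3 h4 ?_ ?_ ?_ ?_ ?_ <;>
        refine ⟨ne ?_, ne ?_, ne ?_, ne ?_, ne ?_, ne ?_⟩ <;> simp only [P] <;> omega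
    · rw [← hs _ _ (by
        refine ⟨ne ?_, ne ?_, ne ?_, ne ?_, ne ?_, ne ?_⟩ <;>
          simp only [P, Fin.val_castSucc, Fin.val_succ] <;> omega), ← map_mul, ← map_mul]
      congr 1
      refine (commute_swap_swap (ne ?_) (ne ?_) (ne ?_) (ne ?_)).eq <;>
        simp only [P, Fin.val_castSucc, Fin.val_succ] <;> omega
  · rw [← hs _ _ (by
        refine ⟨ne ?_, ne ?_, ne ?_, ne ?_, ne ?_, ne ?_⟩ <;>
          simp only [P, Fin.val_castSucc, Fin.val_succ] <;> omega), ← map_mul, ← map_mul,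
      ← map_mul, ← map_mul]
    congr 1
    have e2 : i.succ = P n le_rfl := Fin.ext (by simp only [P, Fin.val_succ]; omega)
    rw [e2, swap_comm (P n le_rfl), swap_comm i.castSucc]
    refine swap_braid (ne ?_) (ne ?_) (ne ?_) <;> simp only [P, Fin.val_castSucc] <;> omega

namespace GlueAux

/-- The first `n + 1` points. -/
def low (n : ℕ) : Rm (⟨n + 1, by omega⟩ : Fin (n + 2 + 1)) ⟨n + 2, by omega⟩ ≃ Fin (n + 1) where
  toFun z := ⟨z.1.val, by
    have h1 : z.1.val ≠ n + 1 := fun e => z.2.1 (Fin.ext e)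
    have h2 : z.1.val ≠ n + 2 := fun e => z.2.2 (Fin.ext e)
    have := z.1.2
    omega⟩
  invFun a := ⟨⟨a.val, by omega⟩, fun e => by have := congrArg Fin.val e; have := a.2; simp at *; omega,
    fun e => by have := congrArg Fin.val e; have := a.2; simp at *; omega⟩
  left_inv _ := rfl
  right_inv _ := rfl

theorem glue_fin {n : ℕ} {ι : alternatingGroup (Fin (n + 1)) →* G} {χ : Perm (Fin (n + 1)) →* G}
    (h : Ch ι t χ) (h3 : ∀ a b c d, D4 a b c d → Sw (Fin (n + 1)) (χ (swap a b)) (χ (swap c d)))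
    (h4 : ∀ a b, a ≠ b → ¬ IsConj t (t * χ (swap a b))) :
    ∃ (ψ : Perm (Fin (n + 2 + 1)) →* G) (x y : Fin (n + 2 + 1)), x ≠ y ∧ Hs ψ ∧ ψ (swap x y) = t := by
  obtain ⟨w, w2, wt, hw⟩ := h.cf.exists_w h.h1 h.h2 h3 h4
  have h7 : 7 ≤ n := by have := h.cf.eight; rw [Fintype.card_fin] at this; omega
  have ne : ∀ {x y : Fin (n + 1)}, x.val ≠ y.val → x ≠ y := fun hh e => hh (congrArg Fin.val e)
  let S : Fin n → G := fun i => χ (swap i.castSucc i.succ)
  let T : Fin (n + 2) → G := fun i => if hi : i.val < n then S ⟨i, hi⟩ else if i.val = n then w else t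
  have T1 : ∀ (i : Fin (n + 2)) (hi : i.val < n), T i = S ⟨i, hi⟩ := fun i hi => dif_pos hi
  have T2 : ∀ i : Fin (n + 2), i.val = n → T i = w := fun i hi => by
    simp only [T]; rw [dif_neg (by omega), if_pos hi]
  have T3 : ∀ i : Fin (n + 2), i.val = n + 1 → T i = t := fun i hi => by
    simp only [T]; rw [dif_neg (by omega), if_neg (by omega)]
  obtain ⟨ψ, hψ⟩ := exists_hom_of_coxeter (n + 2) T (fun i => by
      have := i.2
      rcases Nat.lt_trichotomy i.val n with hi | hi | hi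
      · rw [T1 i hi]; exact swap_sq _ _ _
      · rw [T2 i hi]; exact w2
      · rw [T3 i (by omega)]; exact h.cf.iv.1)
    (fun i j hij => by
      have := j.2
      rcases Nat.lt_trichotomy j.val n with hj | hj | hj
      · rw [T1 i (by omega), T1 j hj]
        simp only [S]
        rw [← map_mul, ← map_mul, ← map_mul, ← map_mul]
        congr 1
        have e : (⟨j, hj⟩ : Fin n).castSucc = (⟨i, by omega⟩ : Fin n).succ :=
          Fin.ext (by simp only [Fin.val_castSucc, Fin.val_succ]; omega)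
        rw [e]
        refine swap_braid (ne ?_) (ne ?_) (ne ?_) <;>
          simp only [Fin.val_castSucc, Fin.val_succ] <;> omega
      · rw [T1 i (by omega), T2 j hj]
        exact ((hw ⟨i, by omega⟩).2 (by simp only; omega)).symm
      · rw [T2 i (by omega), T3 j (by omega)]
        exact wt)
    (fun i j hij => by
      have := j.2
      rcases Nat.lt_trichotomy j.val n with hj | hj | hj
      · rw [T1 i (by omega), T1 j hj]
        refine Commute.map (commute_swap_swap (ne ?_) (ne ?_) (ne ?_) (ne ?_)) χ <;>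
          simp only [Fin.val_castSucc, Fin.val_succ] <;> omega
      · rw [T1 i (by omega), T2 j hj]
        exact ((hw ⟨i, by omega⟩).1 (by simp only; omega)).symm
      · rw [T1 i (by omega), T3 j (by omega)]
        exact h.comm _)
  have hxy : (⟨n + 1, by omega⟩ : Fin (n + 2 + 1)) ≠ ⟨n + 2, by omega⟩ := by simp
  have ht : ψ (swap ⟨n + 1, by omega⟩ ⟨n + 2, by omega⟩) = t :=
    (hψ ⟨n + 1, by omega⟩).trans (T3 _ rfl)
  have hres : (ψ.comp Perm.ofSubtype).comp (low n).symm.permCongrHom.toMonoidHom = χ := by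
    refine MonoidHom.eq_of_eqOn_dense (closure_swap_castSucc_succ n) ?_
    rintro _ ⟨i, rfl⟩
    change ψ (Perm.ofSubtype ((low n).symm.permCongr (swap i.castSucc i.succ))) = _
    rw [permCongr_swap, Perm.ofSubtype_swap_eq]
    exact (hψ ⟨i, by omega⟩).trans (T1 _ i.2)
  have hres' : ∀ r, ψ (Perm.ofSubtype r) = χ ((low n).permCongr r) := fun r => by
    rw [← hres]
    change _ = ψ (Perm.ofSubtype ((low n).permCongr.symm ((low n).permCongr r)))
    rw [symm_apply_apply]
  obtain ⟨a, b, c, d, hD⟩ := exists_D4 (α := Fin (n + 1)) (by rw [Fintype.card_fin]; omega)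
  have hi : Function.Injective ψ := by
    refine injective_of_apply_ne_one (by rw [Fintype.card_fin]; omega) ψ
      (g := Perm.ofSubtype ((low n).symm.permCongr (dt a b c d)))
      (ofSubtype_mem ((permCongr_mem _).2 hD.mem)) fun e => hD.iv.2 (h.inj ?_)
    rw [map_one, ← e, ← hres]
    rfl
  refine ⟨ψ, _, _, hxy, hs_of_cf hxy hi ?_, ht⟩
  rw [ht]
  refine cf_congr h.cf (low n) fun p hp => ?_
  rw [ev_sub _ _ hp, hres', h.h1 _ ((permCongr_mem _).2 hp)]

end GlueAux

theorem Cf.glue (h : Cf ι t) (h2 : G2 ι t) : ∃ (β : Type) (_ : Fintype β) (_ : DecidableEq β)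
    (ψ : Perm β →* G) (x y : β), Fintype.card β = Fintype.card α + 2 ∧ x ≠ y ∧ Hs ψ ∧
      ψ (swap x y) = t := by
  obtain ⟨u, x, y, z, w, hD, hT, hS, hn⟩ := h2
  obtain ⟨χ, -, c1, c2, -, -, c3⟩ := hT.exists_chi h.cw
  have hC : Ch ι t χ := ⟨h, c1, c3⟩
  have e1 : u * ev ι (dt x y z w) = χ (swap z w) := by
    rw [← c1 _ hD.mem, dt, map_mul, ← mul_assoc, ← c2, swap_sq, one_mul]
  rw [e1, ← c2] at hS
  rw [← c2] at hn
  have h3 : ∀ a b c d, D4 a b c d → Sw α (χ (swap a b)) (χ (swap c d)) := by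
    intro a b c d h4
    obtain ⟨π, -, h1, h2, h3⟩ := P0.trans hD h4
    have := hS.conj (χ π)
    rw [← map_inv, ← map_mul, ← map_mul, ← map_mul, ← map_mul, ← swap_apply_apply,
      ← swap_apply_apply, h2, h3] at this
    rcases h1 with ⟨h1, h1'⟩ | ⟨h1, h1'⟩ <;> rw [h1, h1'] at this
    · exact this
    · rwa [swap_comm b a] at this
  have h4 : ∀ a b, a ≠ b → ¬ IsConj t (t * χ (swap a b)) := by
    intro a b hab hc
    obtain ⟨π, hπ⟩ := isConj_iff.1 (Perm.isConj_swap hab hD.ab)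
    refine hn (hc.trans (isConj_iff.2 ⟨χ π, ?_⟩))
    rw [← hπ, map_mul, map_mul, map_inv, ← mul_assoc, hC.comm π]
    group
  obtain ⟨n, hn'⟩ : ∃ n, Fintype.card α = n + 1 := ⟨Fintype.card α - 1, by have := h.eight; omega⟩
  let e : Fin (n + 1) ≃ α := (Fintype.equivFinOfCardEq hn').symm
  have hs : ∀ a b, (χ.comp e.permCongrHom.toMonoidHom) (swap a b) = χ (swap (e a) (e b)) :=
    fun a b => by rw [← permCongr_swap]; rfl
  obtain ⟨ψ, x', y', h1, h2, h5⟩ := glue_fin (hC.congr e) (fun a b c d h4 => by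
      rw [hs, hs]
      exact sw_congr (h3 _ _ _ _ ⟨e.injective.ne h4.ab, e.injective.ne h4.ac, e.injective.ne h4.ad,
        e.injective.ne h4.bc, e.injective.ne h4.bd, e.injective.ne h4.cd⟩) e)
    (fun a b hab => by rw [hs]; exact h4 _ _ (e.injective.ne hab))
  exact ⟨Fin (n + 2 + 1), inferInstance, inferInstance, ψ, x', y', by rw [Fintype.card_fin, hn'],
    h1, h2, h5⟩

end Cfsg.Agent.SAq
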