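import Mathlib
import Cfsg.Agent.SAq.HN0
import Cfsg.Agent.SAq.BP

/-! The quotient of the normalizer of a cyclic group of order four. See `stubs/Cfsg/Agent/SAq/HN.md`. -/

set_option autoImplicit false
set_option linter.unusedSectionVars false

namespace Cfsg.Agent.SAq

open Cfsg Cfsg.Agent.GT Cfsg.Agent.Loc.Mss Cfsg.Agent.Sym Cfsg.Agent.Loc.SO Cfsg.Agent.SAn Subgroup Equiv
open Cfsg.Agent.StdB (C1 mem_C1)
open scoped commutatorElement Pointwise

variable {G : Type*} [Group G] [Finite G] {Q : Type*} [Group Q] [Finite Q] {φ n a b : G} {θ : NN φ →* Q}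

namespace HQa

theorem conj_mem (hn : n ∈ NN φ) (ha : a ∈ zpowers φ) : n * a * n⁻¹ ∈ zpowers φ :=
  (mem_normalizer_iff.1 hn a).1 ha

theorem nat_pow (ha : a ∈ zpowers φ) : ∃ k : ℕ, a = φ ^ k := by
  obtain ⟨k, hk⟩ := (mem_powers_iff_mem_zpowers.2 ha)
  exact ⟨k, hk.symm⟩

theorem Oc_odd {H : Subgroup G} {o : G} (ho : o ∈ Oc H) : Odd (orderOf o) := by
  obtain ⟨x, hx, rfl⟩ := ho
  have h1 : orderOf x ∣ Nat.card (oddCore H) := orderOf_dvd_natCard _ hx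
  have h2 : orderOf (H.subtype x) = orderOf x := orderOf_injective H.subtype H.subtype_injective x
  rw [h2]
  exact Odd.of_dvd_nat odd_card_oddCore h1

theorem Oc_le {H : Subgroup G} : Oc H ≤ H := map_subtype_le _

/-- The abstract quotient. -/
theorem exists_quot.{u} {N : Type u} [Group N] [Finite N] {x : N}
    (hc : ∀ n : N, n * (x * x) = x * x * n) (hi : ∀ n : N, n * x * n⁻¹ * x⁻¹ ∈ zpowers (x * x)) :
    ∃ (Q : Type u) (_ : Group Q) (_ : Finite Q) (θ : N →* Q), Function.Surjective θ ∧ oddCore Q = ⊥ ∧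
      θ.ker = zpowers x ⊔ oddCore N := by
  have c1 : zpowers (x * x) ≤ center N := by
    rw [zpowers_le]; exact mem_center_iff.2 hc
  have n1 : (zpowers (x * x)).Normal := ⟨fun y hy g => by
    rw [mem_center_iff.1 (c1 hy) g, mul_inv_cancel_right]; exact hy⟩
  let f1 := QuotientGroup.mk' (zpowers (x * x))
  have s1 : Function.Surjective f1 := QuotientGroup.mk'_surjective _
  have k1 : f1.ker = zpowers (x * x) := QuotientGroup.ker_mk' _
  have c2 : zpowers (f1 x) ≤ center (N ⧸ zpowers (x * x)) := by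
    rw [zpowers_le]
    refine mem_center_iff.2 fun g => ?_
    obtain ⟨g, rfl⟩ := s1 g
    have h : f1 (g * x * g⁻¹ * x⁻¹) = 1 := by rw [← MonoidHom.mem_ker, k1]; exact hi g
    rw [map_mul, map_mul, map_mul, map_inv, map_inv, mul_inv_eq_one, mul_inv_eq_iff_eq_mul] at h
    exact h
  have n2 : (zpowers (f1 x)).Normal := ⟨fun y hy g => by
    rw [mem_center_iff.1 (c2 hy) g, mul_inv_cancel_right]; exact hy⟩
  let f2 := QuotientGroup.mk' (zpowers (f1 x))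
  have s2 : Function.Surjective f2 := QuotientGroup.mk'_surjective _
  have k2 : f2.ker = zpowers (f1 x) := QuotientGroup.ker_mk' _
  let f3 := QuotientGroup.mk' (oddCore ((N ⧸ zpowers (x * x)) ⧸ zpowers (f1 x)))
  have s3 : Function.Surjective f3 := QuotientGroup.mk'_surjective _
  have k3 : f3.ker = oddCore _ := QuotientGroup.ker_mk' _
  refine ⟨_, inferInstance, inferInstance, f3.comp (f2.comp f1), s3.comp (s2.comp s1),
    pPrimeCore_quotient_pPrimeCore, le_antisymm (fun n hn => ?_) (sup_le ?_ fun o ho => ?_)⟩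
  · have h3 : f2 (f1 n) ∈ f3.ker := hn
    rw [k3] at h3
    obtain ⟨y, hy, e2⟩ := KFI.oddCore_le_map s2 (k2.le.trans c2) h3
    obtain ⟨o, ho, rfl⟩ := KFI.oddCore_le_map s1 (k1.le.trans c1) hy
    have h4 : f1 (n * o⁻¹) ∈ f2.ker := by
      rw [MonoidHom.mem_ker, map_mul, map_mul, map_inv, map_inv, e2, mul_inv_cancel]
    rw [k2] at h4
    obtain ⟨k, hk⟩ := mem_zpowers_iff.1 h4
    have h5 : n * o⁻¹ * (x ^ k)⁻¹ ∈ f1.ker := by
      rw [MonoidHom.mem_ker, map_mul, map_inv, map_zpow, hk, mul_inv_cancel]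
    rw [k1] at h5
    have h6 : zpowers (x * x) ≤ zpowers x := by
      rw [zpowers_le]; exact mul_mem (mem_zpowers x) (mem_zpowers x)
    have e : n = n * o⁻¹ * (x ^ k)⁻¹ * x ^ k * o := by group
    rw [e]
    exact mul_mem (mem_sup_left (mul_mem (h6 h5) (zpow_mem (mem_zpowers x) k))) (mem_sup_right ho)
  · rw [zpowers_le]
    have : f2 (f1 x) = 1 := by rw [← MonoidHom.mem_ker, k2]; exact mem_zpowers _
    show f3 (f2 (f1 x)) = 1
    rw [this, map_one]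
  · show f2 (f1 o) ∈ f3.ker
    rw [k3]
    exact map_pPrimeCore_le s2 (mem_map_of_mem _ (map_pPrimeCore_le s1 (mem_map_of_mem _ ho)))

end HQa

open HQa

theorem NN_cases (h4 : φ ^ 4 = 1) (hn : n ∈ NN φ) : n * φ = φ * n ∨ n * φ * n⁻¹ = φ⁻¹ := by
  obtain ⟨k, hk⟩ := nat_pow (conj_mem hn (mem_zpowers φ))
  rw [pow_eq_pow_mod k h4] at hk
  have hlt : k % 4 < 4 := Nat.mod_lt _ (by norm_num)
  have h1 : n * φ * n⁻¹ = 1 → n * φ = φ * n := fun h => by
    have : φ = 1 := by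
      calc φ = n⁻¹ * (n * φ * n⁻¹) * n := by group
        _ = 1 := by rw [h]; group
    rw [this, mul_one, one_mul]
  generalize k % 4 = r at hk hlt
  interval_cases r
  · exact Or.inl (h1 (by rw [hk, pow_zero]))
  · left
    rw [pow_one] at hk
    rw [← mul_inv_eq_iff_eq_mul, hk]
  · left
    apply h1
    have h2 : φ ^ 2 = 1 := by
      calc φ ^ 2 = n⁻¹ * ((n * φ * n⁻¹) ^ 2) * n := by rw [conj_pow]; group
        _ = 1 := by rw [hk, ← pow_mul, h4]; group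
    rw [hk, h2]
  · right
    rw [hk, eq_inv_iff_mul_eq_one, ← pow_succ, h4]

theorem NN_comm_sq (h4 : φ ^ 4 = 1) (hn : n ∈ NN φ) : n * (φ * φ) = φ * φ * n := by
  rcases NN_cases h4 hn with h | h
  · rw [← mul_assoc, h, mul_assoc, h, mul_assoc]
  · have e : φ⁻¹ * φ⁻¹ = φ * φ := by
      calc φ⁻¹ * φ⁻¹ = φ⁻¹ * φ⁻¹ * φ ^ 4 := by rw [h4, mul_one]
        _ = φ * φ := by group; exact zpow_two φ
    calc n * (φ * φ) = (n * φ * n⁻¹) * (n * φ * n⁻¹) * n := by group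
      _ = φ * φ * n := by rw [h, e]

theorem exists_qd.{u} {G : Type u} [Group G] [Finite G] {φ : G} (h4 : φ ^ 4 = 1) :
    ∃ (Q : Type u) (_ : Group Q) (_ : Finite Q) (θ : NN φ →* Q), QD φ θ := by
  let x : NN φ := ⟨φ, ph_mem⟩
  have hz : ∀ y : NN φ, ∀ w : NN φ, (y : G) ∈ zpowers (w : G) → y ∈ zpowers w := by
    intro y w hy
    obtain ⟨k, hk⟩ := mem_zpowers_iff.1 hy
    exact mem_zpowers_iff.2 ⟨k, Subtype.ext (by rw [← hk]; rfl)⟩
  obtain ⟨Q, i1, i2, θ, hs, hc, hk⟩ := exists_quot (x := x)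
    (fun n => Subtype.ext (NN_comm_sq h4 n.2)) (fun n => by
      apply hz
      show (n : G) * φ * (n : G)⁻¹ * φ⁻¹ ∈ zpowers (φ * φ)
      rcases NN_cases h4 n.2 with h | h
      · rw [h, mul_inv_cancel_right, mul_inv_cancel]; exact one_mem _
      · rw [h, ← mul_inv_rev]; exact inv_mem (mem_zpowers _))
  refine ⟨Q, i1, i2, θ, h4, fun q => ?_, hc, fun n hn => ?_⟩
  · obtain ⟨n, rfl⟩ := hs q
    exact ⟨n, n.2, th_coe n⟩
  · rw [th_of_mem hn, ← MonoidHom.mem_ker, hk]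
    have e : zpowers φ ⊔ Oc (NN φ) = (zpowers x ⊔ oddCore (NN φ)).map (NN φ).subtype := by
      rw [Subgroup.map_sup, MonoidHom.map_zpowers]; rfl
    rw [e]
    exact (mem_map_iff_mem (f := (NN φ).subtype) (NN φ).subtype_injective (x := ⟨n, hn⟩)).symm

theorem QD.th_phi (h : QD φ θ) : th θ φ = 1 := (h.ker φ ph_mem).2 (mem_sup_left (mem_zpowers φ))

theorem QD.ker_dec (h : QD φ θ) (hn : n ∈ NN φ) (h1 : th θ n = 1) :
    ∃ k : ℕ, ∃ o ∈ Oc (NN φ), n = φ ^ k * o := by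
  have h2 : n ∈ ((zpowers φ ⊔ Oc (NN φ) : Subgroup G) : Set G) := (h.ker n hn).1 h1
  rw [coe_mul_of_right_le_normalizer_left _ _ Oc_le] at h2
  obtain ⟨y, hy, o, ho, rfl⟩ := h2
  obtain ⟨k, rfl⟩ := nat_pow hy
  exact ⟨k, o, ho, rfl⟩

theorem HQa.Oc_comm (h4 : φ ^ 4 = 1) {o : G} (ho : o ∈ Oc (NN φ)) : o * φ = φ * o := by
  rcases NN_cases h4 (Oc_le ho) with h | h
  · exact h
  · have h2 : Commute (o * o) φ := by
      have h3 : o * φ⁻¹ * o⁻¹ = φ := by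
        rw [show o * φ⁻¹ * o⁻¹ = (o * φ * o⁻¹)⁻¹ by group, h, inv_inv]
      show o * o * φ = φ * (o * o)
      calc o * o * φ = o * (o * φ * o⁻¹) * o⁻¹ * (o * o) := by group
        _ = φ * (o * o) := by rw [h, h3]
    obtain ⟨m, hm⟩ := Oc_odd ho
    have e : (o * o) ^ (m + 1) = o := by
      rw [← pow_two, ← pow_mul, show 2 * (m + 1) = 2 * m + 1 + 1 by ring, ← hm, pow_succ,
        pow_orderOf_eq_one, one_mul]
    have h5 := h2.pow_left (m + 1)
    rw [e] at h5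
    exact h5.eq

theorem QD.ker_comm (h : QD φ θ) (hn : n ∈ NN φ) (h1 : th θ n = 1) : n * φ = φ * n := by
  obtain ⟨k, o, ho, rfl⟩ := h.ker_dec hn h1
  exact (Commute.mul_left ((Commute.refl φ).pow_left k) (Oc_comm h.four ho)).eq

theorem QD.ker_two (h : QD φ θ) (hn : n ∈ NN φ) (h1 : th θ n = 1) (h2 : E2 n) : n ∈ zpowers φ := by
  obtain ⟨k, o, ho, rfl⟩ := h.ker_dec hn h1
  obtain ⟨m, hm⟩ := h2
  have hc : Commute (φ ^ k) o := (Commute.symm (Oc_comm h.four ho)).pow_left k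
  have h3 : o ^ 2 ^ (m + 2) = 1 := by
    have h4 : (φ ^ k * o) ^ 2 ^ (m + 2) = 1 := by rw [pow_add, pow_mul, hm, one_pow]
    have h5 : (φ ^ k) ^ 2 ^ (m + 2) = 1 := by
      rw [← pow_mul, show k * 2 ^ (m + 2) = 4 * (k * 2 ^ m) by ring, pow_mul, h.four, one_pow]
    rwa [hc.mul_pow, h5, one_mul] at h4
  have h6 : orderOf o = 1 :=
    Nat.Coprime.eq_one_of_dvd ((Nat.coprime_two_right.2 (Oc_odd ho)).pow_right _)
      (orderOf_dvd_of_pow_eq_one h3)
  rw [orderOf_eq_one_iff.1 h6, mul_one]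
  exact pow_mem (mem_zpowers φ) k

theorem QD.lift0 (h : QD φ θ) (ha : a ∈ NN φ) (hb : b ∈ NN φ) (a2 : a * a ∈ zpowers φ)
    (b2 : b * b ∈ zpowers φ) (e : th θ a = th θ b) :
    ∃ j ∈ NN φ, th θ j = 1 ∧ ∃ k : ℕ, j * a * j⁻¹ = b * φ ^ k := by
  have hab : th θ (a * b) = 1 := by
    rw [th_mul ha hb, ← e, ← th_mul ha ha]
    exact (h.ker _ (mul_mem ha ha)).2 (mem_sup_left a2)
  obtain ⟨k, o, ho, eo⟩ := h.ker_dec (mul_mem ha hb) hab
  let f := QuotientGroup.mk' ((zpowers φ).subgroupOf (NN φ))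
  have kf : ∀ y : NN φ, f y = 1 ↔ (y : G) ∈ zpowers φ := fun y => by
    rw [← MonoidHom.mem_ker, QuotientGroup.ker_mk', mem_subgroupOf]
  let a' : NN φ := ⟨a, ha⟩
  let b' : NN φ := ⟨b, hb⟩
  let o' : NN φ := ⟨o, Oc_le ho⟩
  have e1 : f a' * f b' = f o' := by
    have e2 : a' * b' = (a' * b' * o'⁻¹) * o' := by group
    rw [← map_mul, e2, map_mul, (kf _).2, one_mul]
    show a * b * o⁻¹ ∈ zpowers φ
    rw [eo, mul_inv_cancel_right]
    exact pow_mem (mem_zpowers φ) k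
  have hodd : Odd (orderOf (f a' * f b')) := by
    rw [e1]
    refine Odd.of_dvd_nat (Oc_odd ho) ((orderOf_map_dvd f o').trans ?_)
    exact (orderOf_injective (NN φ).subtype (NN φ).subtype_injective o').symm.dvd
  obtain ⟨j, hj, ej⟩ := conj_of_odd (s := f a') (t := f b') (by rw [← map_mul]; exact (kf _).2 a2)
    (by rw [← map_mul]; exact (kf _).2 b2) hodd
  obtain ⟨i, rfl⟩ := mem_zpowers_iff.1 hj
  let j : NN φ := (a' * b') ^ i
  have h1 : θ j = 1 := by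
    have : θ (a' * b') = 1 := by rw [← th_coe]; exact hab
    rw [map_zpow, this, one_zpow]
  have h2 : f (b'⁻¹ * (j * a' * j⁻¹)) = 1 := by
    rw [map_mul, map_mul, map_mul, map_inv, map_inv, map_zpow, map_mul, ej, inv_mul_cancel]
  obtain ⟨l, hl⟩ := nat_pow ((kf _).1 h2)
  refine ⟨j, j.2, by rw [th_coe, h1], l, ?_⟩
  rw [← hl]
  show (j : G) * a * (j : G)⁻¹ = b * (b⁻¹ * ((j : G) * a * (j : G)⁻¹))
  group

theorem QD.lift (h : QD φ θ) (ha : a ∈ NN φ) (hb : b ∈ NN φ) (a2 : a * a ∈ zpowers φ)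
    (b2 : b * b ∈ zpowers φ) (e : IsConj (th θ a) (th θ b)) :
    ∃ j ∈ NN φ, ∃ k : ℕ, j * a * j⁻¹ = b * φ ^ k := by
  obtain ⟨c, hc⟩ := isConj_iff.1 e
  obtain ⟨m, hm, rfl⟩ := h.surj c
  obtain ⟨j, hj, -, k, ej⟩ := h.lift0 (a := m * a * m⁻¹) (mul_mem (mul_mem hm ha) (inv_mem hm)) hb
    (by rw [show m * a * m⁻¹ * (m * a * m⁻¹) = m * (a * a) * m⁻¹ by group]; exact conj_mem hm a2) b2
    (by rw [th_conj hm ha, hc])
  exact ⟨j * m, mul_mem hj hm, k, by rw [← ej]; group⟩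

theorem E2.mul_phi (h4 : φ ^ 4 = 1) (hn : n ∈ NN φ) (h2 : E2 n) : E2 (n * φ) := by
  have key : ∀ m : ℕ, ∃ y ∈ zpowers φ, (n * φ) ^ m = n ^ m * y := by
    intro m
    induction m with
    | zero => exact ⟨1, one_mem _, by simp⟩
    | succ m ih =>
      obtain ⟨y, hy, e⟩ := ih
      refine ⟨n⁻¹ * y * n⁻¹⁻¹ * φ, mul_mem (conj_mem (inv_mem hn) hy) (mem_zpowers φ), ?_⟩
      rw [pow_succ, e, pow_succ]; group
  obtain ⟨m, hm⟩ := h2
  obtain ⟨y, hy, e⟩ := key (2 ^ m)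
  obtain ⟨k, rfl⟩ := nat_pow hy
  refine ⟨m + 2, ?_⟩
  rw [pow_add, pow_mul, e, hm, one_mul, ← pow_mul, show k * 2 ^ 2 = 4 * k by ring, pow_mul, h4, one_pow]

end Cfsg.Agent.SAq
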