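import Mathlib
import Cfsg.Agent.SAq.HS4

/-! Higman-Sims end game of S3124: lifting the letters over a central subgroup of odd order. -/

set_option autoImplicit false
set_option linter.unusedSectionVars false

namespace Cfsg.Agent.SAq.HSx

open Cfsg Cfsg.Agent.GT Cfsg.Agent.Loc.Mss Cfsg.Agent.Sym Cfsg.Agent.SAn Subgroup Equiv

section

variable {C H : Type*} [Group C] [Group H]

/-- The image under a homomorphism. -/
def K0.map (k : K0 C) (f : C →* H) (hf : Function.Injective (f.comp k.κ)) : K0 H where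
  s := f k.s
  κ := f.comp k.κ
  inj := hf
  s2 := by rw [← map_mul, k.s2, map_one]
  comm p := by rw [MonoidHom.comp_apply, ← map_mul, ← map_mul, k.comm]

theorem K0.Rr.map {k : K0 C} {x : C} {i : Fin 8} (r : k.Rr x i) (f : C →* H)
    (hf : Function.Injective (f.comp k.κ)) : (k.map f hf).Rr (f x) i :=
  ⟨fun j => by simpa [K0.map] using congrArg f (r.1 j), by simpa [K0.map] using congrArg f r.2⟩

theorem K0.Let.map {k : K0 C} {b : C} (l : k.Let b) (f : C →* H) (hf : Function.Injective (f.comp k.κ)) :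
    (k.map f hf).Let (f b) :=
  ⟨by simpa [K0.map] using congrArg f l.sq, by simpa [K0.map] using congrArg f l.sb,
    by simpa [K0.map] using congrArg f l.θb, by simpa [K0.map] using congrArg f l.c1,
    by simpa [K0.map] using congrArg f l.c2, by simpa [K0.map] using congrArg f l.z3,
    by simpa [K0.map] using congrArg f l.t0, by simpa [K0.map] using congrArg f l.t1⟩

theorem lift_let [Finite C] (k : K0 C) (Z : Subgroup C) (hz : ∀ z ∈ Z, ∀ g, g * z = z * g)
    (ho : Odd (Nat.card Z))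
    (cen : ∀ g, g * k.s = k.s * g → g * k.κ v1 = k.κ v1 * g →
      ∃ σ : Perm (Fin 8), ∀ p, g * k.κ p * g⁻¹ = k.κ (MulAut.conjNormal σ p))
    (ker : ∀ g, g * k.s = k.s * g → (∀ p, g * k.κ p = k.κ p * g) → g ∈ Z ∨ g * k.s ∈ Z)
    (r : ∃ x, k.Rr x 3) (r' : ∃ x, k.tw.Rr x 3)
    (n2 : ∀ p : A8, Tp (p : Perm (Fin 8)) 2 → ¬ IsConj k.s (k.s * k.κ p)) :
    ∃ b, k.Let b ∧ IsConj (b * k.s) (k.s * k.κ l0) := by
  have : Z.Normal := ⟨fun z h g => by rwa [hz z h, mul_inv_cancel_right]⟩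
  obtain ⟨π, hπ⟩ : ∃ π, π = QuotientGroup.mk' Z := ⟨_, rfl⟩
  have sj : Function.Surjective π := hπ ▸ QuotientGroup.mk'_surjective Z
  have kπ : ∀ x, π x = 1 ↔ x ∈ Z := fun x => hπ ▸ QuotientGroup.eq_one_iff x
  have L : ∀ {x y : C}, x ^ 4 = 1 → y ^ 4 = 1 → π x = π y → x = y := fun {x y} hx hy e => by
    have m : x⁻¹ * y ∈ Z := (kπ _).1 (by rw [map_mul, map_inv, e, inv_mul_cancel])
    have c : Commute x (x⁻¹ * y) := hz _ m x
    have e4 : (x⁻¹ * y) ^ 4 = 1 := by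
      have := c.mul_pow 4
      rwa [mul_inv_cancel_left, hx, hy, one_mul, eq_comm] at this
    have h1 := (ho.of_dvd_nat (Z.orderOf_dvd_natCard m)).coprime_two_right.pow_right 2
    exact inv_mul_eq_one.1 (orderOf_eq_one_iff.1 (h1.eq_one_of_dvd (orderOf_dvd_of_pow_eq_one e4)))
  have p4 : ∀ {x : C}, x * x = 1 → x ^ 4 = 1 := fun {x} h => by
    rw [show 4 = 2 * 2 from rfl, pow_mul, pow_two x, h, one_pow]
  have c4 : ∀ {x : C} (g : C), x ^ 4 = 1 → (g * x * g⁻¹) ^ 4 = 1 := fun g h => by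
    rw [conj_pow, h, mul_one, mul_inv_cancel]
  have Lc : ∀ {g x : C}, x ^ 4 = 1 → π g * π x = π x * π g → g * x = x * g := fun {g x} hx e =>
    mul_inv_eq_iff_eq_mul.1 (L (c4 g hx) hx (by rw [map_mul, map_mul, map_inv, e, mul_inv_cancel_right]))
  have vv : k.κ v1 * k.κ v1 = 1 := tr3 ▸ k.t_sq 3
  have sk : ∀ p : A8, p * p = 1 → k.s * k.κ p * (k.s * k.κ p) = 1 := fun p e => by
    rw [mul_assoc, ← mul_assoc (k.κ p), k.comm, mul_assoc, ← map_mul, e, map_one, mul_one, k.s2]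
  have inj : Function.Injective (π.comp k.κ) := (injective_iff_map_eq_one _).2 fun p hp => by
    have c : ∀ q, q * p = p * q := fun q => k.inj (by rw [map_mul, map_mul]; exact hz _ ((kπ _).1 hp) _)
    have e1 := HS1.cent_tr fun j => congrArg Subtype.val (c (tr j)).symm
    have e2 := congrArg Subtype.val (c ze)
    obtain ⟨σ, hσ⟩ := p
    change H3.ze * σ = σ * H3.ze at e2
    change σ = H3.tr (σ 0) at e1
    generalize σ 0 = m at e1
    subst e1
    obtain rfl : m = 0 := by clear c hp hσ; revert m; decide +kernel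
    exact tr0
  let h : HS1 (C ⧸ Z) :=
    { toK0 := k.map π inj
      cen := fun g h1 h2 => by
        obtain ⟨g, rfl⟩ := sj g
        obtain ⟨σ, e⟩ := cen g (Lc (p4 k.s2) h1) (Lc (p4 vv) h2)
        exact ⟨σ, fun p => by simpa [K0.map] using congrArg π (e p)⟩
      ker := fun g h1 h2 => by
        obtain ⟨g, rfl⟩ := sj g
        obtain ⟨σ, e⟩ := cen g (Lc (p4 k.s2) h1) (Lc (p4 vv) (h2 v1))
        refine (ker g (Lc (p4 k.s2) h1) fun p => ?_).imp (kπ _).2 fun m => ?_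
        · have e1 : (π.comp k.κ) (MulAut.conjNormal σ p) = (π.comp k.κ) p := by
            rw [MonoidHom.comp_apply, ← e, map_mul, map_mul, map_inv]
            exact mul_inv_eq_iff_eq_mul.2 (h2 p)
          rw [← mul_inv_eq_iff_eq_mul, e, inj e1]
        · have := (kπ _).2 m
          rw [map_mul, mul_eq_one_iff_eq_inv, ← map_inv, k.s_inv] at this
          exact this
      rr := r.elim fun x r => ⟨_, r.map π inj⟩
      n2 := fun p hp c => by
        obtain ⟨g, e⟩ := isConj_iff.1 c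
        obtain ⟨g, rfl⟩ := sj g
        exact n2 p hp (isConj_iff.2 ⟨g, L (c4 g (p4 k.s2)) (p4 (sk p (Subtype.ext hp.1)))
          (by simpa [K0.map] using e)⟩) }
  obtain ⟨b, l⟩ := h.exists_let
  have al := h.alpha (r'.elim fun x r => ⟨_, r.map π (inj.comp (MulAut.conjNormal τ0 : MulAut A8).injective)⟩) l
  change (k.map π inj).Let b at l
  obtain ⟨b, rfl, b4⟩ : ∃ c, π c = b ∧ c ^ 4 = 1 := by
    obtain ⟨c, rfl⟩ := sj b
    obtain ⟨m, hm⟩ := ho
    have m4 : c ^ 4 ∈ Z := (kπ _).1 (by rw [map_pow, l.p0])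
    refine ⟨c ^ (Nat.card Z * Nat.card Z), ?_, ?_⟩
    · rw [map_pow, hm, show (2 * m + 1) * (2 * m + 1) = 4 * (m * m + m) + 1 by ring, pow_succ, pow_mul, l.p0,
        one_pow, one_mul]
    · rw [← pow_mul, mul_comm, pow_mul, pow_mul, show (c ^ 4) ^ Nat.card Z = 1 from
        congrArg Subtype.val (pow_card_eq_one' (x := (⟨_, m4⟩ : Z))), one_pow]
  have i4 : b⁻¹ ^ 4 = 1 := by rw [inv_pow, b4, inv_one]
  have sb : k.s * b * k.s⁻¹ = b⁻¹ := L (c4 _ b4) i4 (by simpa [K0.map] using l.sb)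
  have c1 : Commute b (k.κ ze * b * (k.κ ze)⁻¹) := Lc (c4 _ b4) (by simpa [K0.map] using l.c1)
  have c2 : Commute b (k.κ (ze ^ 2) * b * (k.κ (ze ^ 2))⁻¹) := Lc (c4 _ b4) (by simpa [K0.map] using l.c2)
  have c3 : Commute (k.κ ze * b * (k.κ ze)⁻¹) (k.κ (ze ^ 2) * b * (k.κ (ze ^ 2))⁻¹) :=
    Lc (c4 _ b4) (by simpa [K0.map, K0.b1, K0.b2] using l.d3.eq)
  refine ⟨b, ⟨L (by rw [← pow_two, ← pow_mul, mul_comm, pow_mul, b4, one_pow]) (p4 vv) (by simpa [K0.map] using l.sq),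
    sb, Lc b4 l.θb, c1, c2, L (c4 _ b4) ?_ (by simpa [K0.map] using l.z3),
    L (c4 _ b4) i4 (by simpa [K0.map] using l.t0), Lc (c4 _ b4) (by simpa [K0.map] using l.t1)⟩, ?_⟩
  · rw [((c2.pow_right 2).mul_left (c3.pow_pow 3 2)).mul_pow, (c1.pow_right 3).mul_pow, b4, ← pow_mul, ← pow_mul,
      mul_comm 3, mul_comm 2, pow_mul, pow_mul, c4 _ b4, c4 _ b4]
    simp
  · obtain ⟨g, e⟩ := isConj_iff.1 al
    obtain ⟨g, rfl⟩ := sj g
    refine isConj_iff.2 ⟨g, L (c4 g (p4 ?_)) (p4 (sk _ (by decide +kernel))) (by simpa [h, K0.map] using e)⟩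
    rw [k.s_inv] at sb
    rw [mul_assoc, ← mul_assoc k.s, sb, mul_inv_cancel]

end

variable {α : Type} [Fintype α] [DecidableEq α] {G : Type*} [Group G] [Finite G]
  {ι : alternatingGroup α →* G} {t : G}

theorem exists_on (h : Cf ι t) (h9 : Fintype.card α ≤ 9) (h4 : Sg ι t 4) (h2 : ¬ Sg ι t 2) :
    ∃ (e : Fin 8 ↪ α) (k : K0 G) (b : G), On ι t e k ∧ k.Let b ∧ IsConj (b * k.s) (k.s * k.κ l0) := by
  obtain ⟨e⟩ : Nonempty (Fin 8 ↪ α) := Function.Embedding.nonempty_of_card_le (by simpa using h.eight)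
  obtain ⟨O, hO, oO, -⟩ := h.exists_O
  have mt : t ∈ 𝐂[O] := mem_cent.2 fun z hz => ((hO z).1 hz).1
  have mκ : ∀ p, (ι.comp (altEmb e)) p ∈ 𝐂[O] := fun p =>
    mem_cent.2 fun z hz => (Der.od_comm ((hO z).1 hz) ⟨_, rfl⟩).symm.eq
  let k : K0 𝐂[O] :=
    { s := ⟨t, mt⟩
      κ := (ι.comp (altEmb e)).codRestrict _ mκ
      inj := fun p q e1 => altEmb_injective e (h.inj (congrArg Subtype.val e1))
      s2 := Subtype.ext h.iv.1
      comm := fun p => Subtype.ext (by simpa using h.cw.comm_ev (altEmb e p)) }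
  have inj : Function.Injective ((𝐂[O]).subtype.comp k.κ) := (subtype_injective _).comp k.inj
  have o : On ι t e (k.map _ inj) := ⟨rfl, fun _ => rfl⟩
  have mx : ∀ {x}, (∀ z, Od ι t z → x * z = z * x) → x ∈ 𝐂[O] := fun c =>
    mem_cent.2 fun z hz => (c z ((hO z).1 hz)).symm
  obtain ⟨b, l, a⟩ := lift_let k (O.subgroupOf _) (fun z hz g => Subtype.ext (mem_cent.1 g.2 _ hz).symm)
    (oO.of_dvd_nat (card_comap_dvd_of_injective _ _ (subtype_injective _)))
    (fun g h1 h2 => (o.act h h9 (congrArg Subtype.val h1) (congrArg Subtype.val h2)).imp fun σ a p =>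
      Subtype.ext (a.2 p))
    (fun g h1 h2 => by
      obtain ⟨z, hz, e1⟩ := h.ker' (congrArg Subtype.val h1)
        (o.triv h h9 (congrArg Subtype.val h1) fun p => congrArg Subtype.val (h2 p))
      refine e1.imp (fun e1 => ?_) fun e1 => ?_
      · exact mem_subgroupOf.2 (e1 ▸ (hO z).2 hz)
      · refine mem_subgroupOf.2 (show (g : G) * t ∈ O from ?_)
        rw [show (g : G) = z * t from e1, mul_assoc, h.iv.1, mul_one]
        exact (hO z).2 hz)
    ((o.rr h h9 h4 h2).elim fun x r => ⟨⟨x, mx r.1⟩, fun j => Subtype.ext (r.2.1 j), Subtype.ext r.2.2⟩)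
    ((o.tw.rr h h9 h4 h2).elim fun x r => ⟨⟨x, mx r.1⟩, fun j => Subtype.ext (r.2.1 j), Subtype.ext r.2.2⟩)
    fun p hp c => o.n2 h h2 p hp ((𝐂[O]).subtype.map_isConj c)
  exact ⟨e, _, b, o, l.map _ inj, (𝐂[O]).subtype.map_isConj a⟩

end Cfsg.Agent.SAq.HSx
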