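import Mathlib
import Cfsg.Agent.SAq.HS5
import Cfsg.Agent.H3.HSb
import Cfsg.Agent.Spor.LC.HSMcL

/-! Higman-Sims end game of S3124: the Sylow 2-subgroup and the transfer (after `H3/HSb`). -/

set_option autoImplicit false
set_option linter.unusedSectionVars false

namespace Cfsg.Agent.SAq.HSx

open Cfsg Cfsg.Agent.Spor Cfsg.Agent.Rec Cfsg.Agent.GT Cfsg.Agent.Loc.Mss Cfsg.Agent.SAn Subgroup Equiv
open Cfsg.Agent.StdB (C1 mem_C1)
open scoped commutatorElement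

variable {α : Type} [Fintype α] [DecidableEq α] {G : Type*} [Group G] [Finite G]
  {ι : alternatingGroup α →* G} {t b : G} {e : Fin 8 ↪ α} {h : K0 G}

namespace K0.Let

variable (l : h.Let b)
include l

theorem V_le : h.V b ≤ h.κ.range := by
  rw [V, l.sq, l.sq1, l.sq2, clos_le]
  simp only [List.mem_cons, List.not_mem_nil, or_false, forall_eq_or_imp, forall_eq]
  exact ⟨⟨_, rfl⟩, ⟨_, rfl⟩, ⟨_, rfl⟩⟩

omit l in
theorem D_le : h.D ≤ h.κ.range := by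
  rw [D, clos_le]
  simp only [List.mem_cons, List.not_mem_nil, or_false, forall_eq_or_imp, forall_eq]
  exact ⟨⟨_, rfl⟩, ⟨_, rfl⟩⟩

theorem t_mem {K : Subgroup G} (h1 : b * b ∈ K) (h2 : h.b1 b * h.b1 b ∈ K) (h3 : h.b2 b * h.b2 b ∈ K)
    (j : Fin 8) : h.κ (tr j) ∈ K := by
  rw [l.sq] at h1
  rw [l.sq1] at h2
  rw [l.sq2] at h3
  obtain ⟨x, y, z, e⟩ : ∃ x y z : Fin 2,
      tr j = v1 ^ x.1 * (ze * v1 * ze⁻¹) ^ y.1 * (ze ^ 2 * v1 * (ze ^ 2)⁻¹) ^ z.1 := by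
    revert j; decide +kernel
  rw [e, map_mul, map_mul, map_pow, map_pow, map_pow]
  exact mul_mem (mul_mem (pow_mem h1 _) (pow_mem h2 _)) (pow_mem h3 _)

theorem pT : IsPGroup 2 (h.T b) := .of_card (n := 10) l.card_T

theorem U_le {K : Subgroup G} [hK : K.Normal] (a : ∀ p, h.κ p ∈ K) : h.U b ≤ K := by
  have q : ∀ {x}, x ∈ K ↔ QuotientGroup.mk' K x = 1 := (QuotientGroup.eq_one_iff _).symm
  have z := q.1 (a ze)
  have hb : b ∈ K := by
    have := congrArg (QuotientGroup.mk' K) l.z3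
    have k := q.1 (l.sq ▸ a v1 : b * b ∈ K)
    simp only [map_mul, map_pow, map_inv, z, one_pow, inv_one, one_mul, mul_one] at this k
    rw [pow_two, k, mul_one, pow_succ, pow_two, k, one_mul, k] at this
    exact q.2 this
  refine clos_le.2 ?_
  simp only [List.mem_cons, List.not_mem_nil, or_false, forall_eq_or_imp, forall_eq]
  exact ⟨a _, a _, mul_mem (mul_mem (a _) (hK.conj_mem _ hb _)) (hK.conj_mem _ hb _)⟩

theorem iso {N : Subgroup G} [N.Normal] [IsSimpleGroup N] (sT : Syl 2 (h.T b) ⊤) (a : ∀ p, h.κ p ∈ N)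
    (sN : h.s ∉ N) : Nonempty (N ≃* Cfsg.Spor.HS) := by
  have := Fact.mk Nat.prime_two
  obtain ⟨i1, -, -, -, i5, -⟩ := l.incl
  have UN := l.U_le a
  have sU : Syl 2 (h.U b) N := by
    have s := sT.inf (M := N) le_top le_normalizer_of_normal
    refine s.of_card_le (l.pT.to_le i1) UN ?_
    have lt : h.T b ⊓ N < h.T b := lt_of_le_of_ne inf_le_left fun e => sN (e.ge i5).2
    obtain ⟨c, hc⟩ := card_dvd_of_le lt.le
    have := card_lt_of_lt lt
    rw [l.card_T] at hc this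
    rw [l.card_U]
    rcases c with _ | _ | c <;> nlinarith
  have mU : h.κ ta ∈ h.U b ∧ h.κ qa ∈ h.U b ∧ h.dd b ∈ h.U b :=
    ⟨mem_clos (by simp), mem_clos (by simp), mem_clos (by simp)⟩
  have e : (clos [(⟨_, UN mU.1⟩ : N), ⟨_, UN mU.2.1⟩, ⟨_, UN mU.2.2⟩]).map N.subtype = h.U b := map_clos _ _
  have e2 := (comap_map_eq_self_of_injective (subtype_injective N) _).symm.trans (congrArg (comap N.subtype) e)
  have s2 := sU.subgroupOf le_rfl
  rw [subgroupOf_self, subgroupOf, ← e2] at s2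
  have e3 := l.card_U
  rw [← e, card_map_of_injective (subtype_injective N)] at e3
  obtain ⟨s⟩ := H3.hsb_st (H3.hsb_sat (ws := HSy.relS) (subtype_injective N) (by exact l.satS)) e3
    ⟨le_top, s2.pg, fun Q h1 h2 h3 => s2.eq_of_le h1 h3 h2⟩
  exact s.isoHS

variable (c : Cf ι t) (h9 : Fintype.card α ≤ 9) (o : On ι t e h)
include c o

theorem not_V {x : G} (hx : IsConj h.s x) : x ∉ h.V b := fun k => by
  obtain ⟨p, rfl⟩ := l.V_le k
  exact o.n0 c p hx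

theorem exists_N0 (sT : Syl 2 (h.T b) ⊤) : ∃ M : Subgroup G, M.index = 2 ∧ h.s ∉ M := by
  have cC : 128 ≤ Nat.card ↥(h.T b ⊓ C1 h.s) := by
    have a := Set.ncard_union_le (h.T b ⊓ C1 h.s : Subgroup G) {y | y ∈ h.T b ∧ y * h.s ≠ h.s * y}
    have a2 := card_le_ncard (F := h.T b)
      (T := ((h.T b ⊓ C1 h.s : Subgroup G) : Set G) ∪ {y | y ∈ h.T b ∧ y * h.s ≠ h.s * y}) fun x hx =>
        (em (x * h.s = h.s * x)).imp (fun k => ⟨hx, mem_C1.2 k⟩) fun k => ⟨hx, k⟩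
    have a3 := l.csT
    rw [l.card_T] at a2
    rw [← SetLike.coe_sort_coe, Nat.card_coe_set_eq]
    omega
  have ix : (h.U b).relIndex (h.T b) = 2 := by
    have := ((h.U b).subgroupOf (h.T b)).card_mul_index
    rw [← relIndex, Nat.card_congr (subgroupOfEquivOfLe l.incl.1).toEquiv, l.card_T, l.card_U] at this
    omega
  refine (Dz.thompson_ext (C := h.T b ⊓ C1 h.s) (by simpa using sT.nd) ix ((pow_two _).trans h.s2)
    l.pT.to_inf_left fun x hx => mem_C1.1 hx.2).resolve_right ?_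
  rintro ⟨g, -, h2, h3⟩
  have cg : IsConj h.s (g⁻¹ * h.s * g) := isConj_iff.2 ⟨g⁻¹, by rw [inv_inv]⟩
  have k := l.cnt _ h2 ⟨by simp [mul_assoc, ← mul_assoc h.s, h.s2], l.not_V c o cg, fun d _ => by
    have cd : IsConj h.s (d * (g⁻¹ * h.s * g) * d⁻¹) := cg.trans (isConj_iff.2 ⟨d, rfl⟩)
    refine ⟨fun k => ?_, fun k => ?_⟩
    · obtain ⟨p, hp⟩ := D_le k
      exact o.n0 c p (hp ▸ cd)
    · obtain ⟨w1, w2, w3⟩ := l.w0
      rw [k] at cd
      refine c.not_der (o.s ▸ cd) ?_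
      have := commutator_mem_commutator (mem_C1.2 w1) (mem_C1.2 w2)
      rwa [commutatorElement_def, w3] at this⟩
  have := (card_le_ncard (F := cj(g⁻¹, h.T b ⊓ C1 h.s)) (by
    rintro _ ⟨x, hx, rfl⟩
    refine ⟨by simpa using h3 x hx, ?_⟩
    have := mem_C1.1 hx.2
    simp [mul_assoc, ← mul_assoc h.s, ← this])).trans k
  rw [card_cj] at this
  omega

include h9

theorem mem_T {Q : Subgroup G} (hQ : IsPGroup 2 Q) (hT : h.T b ≤ Q) {g : G} (hg : g ∈ Q)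
    (h0 : g * h.s * g⁻¹ = h.s) (h1 : g * (b * b) * g⁻¹ = b * b)
    (h2 : g * (h.b1 b * h.b1 b) * g⁻¹ = h.b1 b * h.b1 b) (h3 : g * (h.b2 b * h.b2 b) * g⁻¹ = h.b2 b * h.b2 b) :
    g ∈ h.T b := by
  obtain ⟨-, i2, -, -, i5, -, -, -, -, j1, j2, j3, -⟩ := l.incl
  rw [mul_inv_eq_iff_eq_mul] at h0 h1 h2 h3
  have a := fun j => (mem_C1.1 (l.t_mem (mem_C1.2 h1.symm) (mem_C1.2 h2.symm) (mem_C1.2 h3.symm) j)).symm
  have m := fun j => i2 (l.t_mem j1 j2 j3 j)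
  obtain ⟨σ, -, e⟩ := o.act c h9 h0 (tr3 ▸ a 3)
  have e1 : σ = H3.tr (σ 0) := HS1.cent_tr fun j => by
    have := h.inj ((e (tr j)).symm.trans (mul_inv_eq_iff_eq_mul.2 (a j)))
    exact mul_inv_eq_iff_eq_mul.1 (congrArg Subtype.val this)
  generalize σ 0 = k at e1
  subst e1
  have e2 : ∀ p, g * h.κ p * g⁻¹ = h.κ (tr k) * h.κ p * (h.κ (tr k))⁻¹ := fun p => by
    rw [e, ← map_inv, ← map_mul, ← map_mul]; rfl
  have c1 : g * (h.κ (tr k))⁻¹ * h.s = h.s * (g * (h.κ (tr k))⁻¹) := by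
    rw [← map_inv, mul_assoc, h.comm, ← mul_assoc, h0, mul_assoc]
  rcases c.ker _ (o.s ▸ c1) (o.triv c h9 c1 fun p => by
      have := e2 ((tr k)⁻¹ * p * tr k)
      rw [map_mul, map_mul, map_inv] at this
      calc _ = g * ((h.κ (tr k))⁻¹ * h.κ p * h.κ (tr k)) * g⁻¹ * (g * (h.κ (tr k))⁻¹) := by group
        _ = _ := by rw [this]; group)
    (pg_iff.1 hQ _ (mul_mem hg (inv_mem (hT (m k))))) with k1 | k1
  · exact mul_inv_eq_one.1 k1 ▸ m k
  · exact mul_inv_eq_iff_eq_mul.1 k1 ▸ mul_mem (o.s ▸ i5) (m k)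

theorem sylT (nb : ¬ IsConj h.s (b * h.s)) : Syl 2 (h.T b) ⊤ := by
  have := Fact.mk Nat.prime_two
  refine Syl.of_norm l.pT le_top fun Q hQ hT _ hn => ?_
  obtain ⟨-, i2, i3, i4, i5, -, i7, i8, i9, j1, j2, j3, n1, n2, n3, n4, n5, n6, r1, r2⟩ := l.incl
  have key : ∀ g ∈ Q, g * h.s * g⁻¹ = h.s → g ∈ h.T b := fun g hq e => by
    have hg := hn hq
    have cj : ∀ {x y : G}, x ≠ y → g * x * g⁻¹ ≠ g * y * g⁻¹ := fun n k => n (by simpa using k)
    have c1 : ∀ {x : G}, x ≠ 1 → g * x * g⁻¹ ≠ 1 := fun n k => n (by simpa using k)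
    have nV : ∀ v ∈ h.V b, g * v * g⁻¹ ∈ h.V b := fun v hv => by
      obtain ⟨⟨d, hd, k⟩, -⟩ := l.mv v hv
      have := (l.cs _ (conj_mem_of_norm hg (i3 hd))).1.2
      rwa [show h.s * (g * d * g⁻¹ * h.s * (g * d * g⁻¹)⁻¹) = g * v * g⁻¹ by
        conv_lhs => rw [← e]
        rw [show g * h.s * g⁻¹ * (g * d * g⁻¹ * (g * h.s * g⁻¹) * (g * d * g⁻¹)⁻¹) =
          g * (h.s * (d * h.s * d⁻¹)) * g⁻¹ by group, k, ← mul_assoc h.s, h.s2, one_mul]] at this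
    have tr : ∀ {x y : G}, ∀ t, g⁻¹ * t * g * x = y * (g⁻¹ * t * g) → t * (g * x * g⁻¹) = g * y * g⁻¹ * t :=
      fun {x y} t k => by
        rw [show t * (g * x * g⁻¹) = g * (g⁻¹ * t * g * x) * g⁻¹ by group, k]; group
    have cz : ∀ t ∈ h.T b, g * (b * b) * g⁻¹ * t = t * (g * (b * b) * g⁻¹) := fun t ht =>
      (tr t (l.cs _ (conj_mem_of_norm' hg ht)).2.1).symm
    have ez := (l.cenT _ (i2 (nV _ j1)) (cz _ i5) (cz _ i9) (cz _ i7) (cz _ i8)).resolve_left (c1 l.z_ne)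
    have ln : ∀ t ∈ h.T b, t * (g * (h.b1 b * h.b1 b) * g⁻¹) = g * (h.b1 b * h.b1 b) * g⁻¹ * t ∨
        t * (g * (h.b1 b * h.b1 b) * g⁻¹) = g * (h.b1 b * h.b1 b) * g⁻¹ * (b * b) * t := fun t ht =>
      (l.cs _ (conj_mem_of_norm' hg ht)).2.2.imp (tr t) fun k => by rw [tr t k, ← conj_mul, ez]
    obtain ⟨d, hd, d1, d2, d3, d4⟩ := l.flag _ (nV _ j2) _ (nV _ j3) (c1 n1) (ez ▸ cj n2) (ln _ i7) (ln _ i8)
      (c1 n3) (ez ▸ cj n4) (cj n5) (by rw [← ez, conj_mul]; exact cj n6)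
    have f : ∀ {x : G}, d * x * d⁻¹ = g * x * g⁻¹ → d⁻¹ * g * x * (d⁻¹ * g)⁻¹ = x := fun {x} k => by
      rw [show d⁻¹ * g * x * (d⁻¹ * g)⁻¹ = d⁻¹ * (g * x * g⁻¹) * d by group, ← k]; group
    exact (mul_mem_cancel_left (inv_mem (i4 hd))).1 (l.mem_T c h9 o hQ hT (mul_mem (hT (inv_mem (i4 hd))) hq)
      (f (d4.trans e.symm)) (f (d1.trans ez.symm)) (f d2) (f d3))
  intro g hq
  have hg := hn hq
  have dd : IsConj h.s (g * h.s * g⁻¹) := isConj_iff.2 ⟨g, rfl⟩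
  have x2 : g * h.s * g⁻¹ * (g * h.s * g⁻¹) = 1 := by rw [conj_mul, h.s2, mul_one, mul_inv_cancel]
  have k : h.s * (g * h.s * g⁻¹) ∈ h.V b := by
    by_contra k
    by_cases k2 : b * h.s * (g * h.s * g⁻¹) ∈ h.V b
    · obtain ⟨-, d, -, e⟩ := l.mv _ k2
      rw [← mul_assoc (b * h.s), ← r2, r2, show b * h.s * (b * h.s) = 1 by
        nth_rewrite 1 [← r2]; exact inv_mul_cancel _, one_mul] at e
      exact nb (dd.trans (isConj_iff.2 ⟨d, e⟩).symm)
    · obtain ⟨y, hy, n⟩ := l.ab _ (conj_mem_of_norm hg i5) x2 (l.not_V c o dd) k k2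
      have := congrArg (fun x => g * x * g⁻¹) (l.cs _ (conj_mem_of_norm' hg hy)).1.1
      exact n (by simpa [mul_assoc] using this)
  obtain ⟨⟨d, hd, e⟩, -⟩ := l.mv _ k
  rw [← mul_assoc h.s, h.s2, one_mul] at e
  exact (mul_mem_cancel_left (inv_mem (i3 hd))).1 (key _ (mul_mem (hT (inv_mem (i3 hd))) hq) (by
    rw [show d⁻¹ * g * h.s * (d⁻¹ * g)⁻¹ = d⁻¹ * (g * h.s * g⁻¹) * d by group, ← e]; group))

end K0.Let

theorem main (c : Cf ι t) (h9 : Fintype.card α ≤ 9) (h4 : Sg ι t 4) (h2 : ¬ Sg ι t 2) :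
    (∀ P : Subgroup G, IsPGroup 2 P → Nat.card P ≤ 1024) ∧
      ∀ X : Subgroup G, X.Normal → IsSimpleGroup X → ι.range ≤ X →
        Fintype.card α = 8 ∧ Cfsg.Spor.IsoHS X ∧ t ∉ X := by
  have := Fact.mk Nat.prime_two
  obtain ⟨e, h, b, o, l, a⟩ := exists_on c h9 h4 h2
  have sT := l.sylT c h9 o fun k => o.n2 c h2 l0 ⟨by decide +kernel, by decide +kernel⟩ (k.trans a)
  refine ⟨fun P hP => ?_, fun X nX sX hX => ?_⟩
  · obtain ⟨g, -, hg⟩ := sT.conj_le hP le_top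
    have := card_le_of_le hg
    rwa [card_cj, l.card_T] at this
  obtain ⟨M, hM, sM⟩ := l.exists_N0 c o sT
  have := normal_of_index_eq_two hM
  have m : ∀ p, h.κ p ∈ X := fun p => hX ⟨_, (o.κ p).symm⟩
  have sN : h.s ∉ X := fun k => by
    rcases (inferInstance : (M.subgroupOf X).Normal).eq_bot_or_eq_top with e1 | e1
    · have h3 : h.κ th ∈ M := by
        rw [show th = (th * th) ^ 2 by decide +kernel, map_pow]
        exact sq_mem_of_index_two hM _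
      have := congrArg Subtype.val (mem_bot.1 (e1.le (show (⟨_, m th⟩ : X) ∈ M.subgroupOf X from h3)))
      exact absurd ((map_eq_one_iff _ h.inj).1 this) (by decide +kernel)
    · exact sM (e1.ge (mem_top (⟨_, k⟩ : X)))
  obtain ⟨f⟩ := l.iso sT m sN
  refine ⟨?_, ⟨f⟩, o.s ▸ sN⟩
  by_contra n
  have h8 := c.eight
  have e9 : Fintype.card α = 9 := by omega
  have : Nontrivial α := Fintype.one_lt_card_iff_nontrivial.1 (by omega)
  have d := card_dvd_of_le hX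
  rw [Nat.card_congr f.toEquiv, LC.card_SporHS, ← Nat.card_congr (MonoidHom.ofInjective c.inj).toEquiv,
    Nat.card_eq_fintype_card, card_alternatingGroup, e9] at d
  exact absurd d (by decide +kernel)

end Cfsg.Agent.SAq.HSx
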