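import Mathlib
import Cfsg.Agent.SAq.HN0
import Cfsg.Agent.Std.HNg

/-! Involutions of the automorphism group of the Higman-Sims group. See `stubs/Cfsg/Agent/SAq/HN.md`. -/

set_option autoImplicit false
set_option linter.unusedSectionVars false

namespace Cfsg.Agent.SAq

namespace HQm1

open Cfsg.Agent.Spor Cfsg.Agent.Spor.MHN Cfsg.Agent.Spor.MX Cfsg.Agent.Ch Cfsg.Agent.Rec Cfsg.Agent.Rec.HN
  Cfsg.Agent.Std.HN Cfsg.Spor Subgroup

/-- Two inner and two outer classes of involutions. -/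
theorem aut_classes : ∃ a b c e : MulAut HS, (Inn HS).index = 2 ∧ ∀ x : MulAut HS, x * x = 1 → x ≠ 1 →
    (x ∈ Inn HS → IsConj a x ∨ IsConj b x) ∧ (x ∉ Inn HS → IsConj c x ∨ IsConj e x) := by
  obtain ⟨d, K, hN, m, hK, -⟩ := exists_model
  have tK : d.t ∈ K := m.TK d.b1.1
  have sK : d.s ∈ K := m.TK d.b1.2.1
  have uK : d.u ∈ K := m.TK d.b1.2.2.1
  have xK : d.xx ∈ K := m.TK d.b1.2.2.2.2.2.1
  have wK : d.w ∉ K := fun h => m.zK ((K.mul_mem_cancel_right sK).1 (d.a0.2.2.1 ▸ h))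
  obtain ⟨σ, π, hσ, -, hπ, h6, hπ', -⟩ :=
    exists_pi m.i2 (fun c hc => zpowers_le.2 tK (m.cen hc)) hK m.ct d.toSt.t1
  have hB : ∀ b, π b ∈ Inn HS ↔ b ∈ K := fun b => by
    refine ⟨fun ⟨h, e⟩ => ?_, fun hb => ⟨σ ⟨b, hb⟩, (hπ' ⟨b, hb⟩).symm⟩⟩
    obtain ⟨k, rfl⟩ := hσ.1 h
    have h1 : π (b * (k : HH)⁻¹) = 1 := by rw [map_mul, map_inv, hπ', e, mul_inv_cancel]
    have h2 : b * (k : HH)⁻¹ ∈ K := ((h6 _).1 h1).elim (fun e => e ▸ one_mem _) fun e => e ▸ tK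
    exact (K.mul_mem_cancel_right (inv_mem k.2)).1 h2
  have hi : (Inn HS).index = 2 := by
    have : (Inn HS).comap π = K := Subgroup.ext hB
    rw [← m.i2, ← this, index_comap_of_surjective _ hπ.surj]
  refine ⟨π d.s, π d.xx, π d.z, π d.w, hi, fun x x2 x1 => ?_⟩
  obtain ⟨b, rfl⟩ := hπ.surj x
  rw [hB]
  rcases m.cls ((h6 (b * b)).1 (by rw [map_mul, x2])) with k | ⟨c, ρ, rfl, k⟩
  · exact absurd ((h6 b).2 k) x1
  have hc : IsConj (π ρ) (π (c * ρ * c⁻¹)) := isConj_iff.2 ⟨π c, by simp⟩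
  have hm : c * ρ * c⁻¹ ∈ K ↔ ρ ∈ K := ⟨fun h => by simpa [mul_assoc] using m.cj h c⁻¹, fun h => m.cj h c⟩
  have hu : π d.u = π d.s := by rw [← d.a0.1, map_mul, (h6 d.t).2 (.inr rfl), mul_one]
  rw [hm]
  rcases k with rfl | rfl | rfl | rfl | rfl
  · exact ⟨fun _ => .inl (hu ▸ hc), fun h => absurd uK h⟩
  · exact ⟨fun _ => .inl hc, fun h => absurd sK h⟩
  · exact ⟨fun h => absurd h m.zK, fun _ => .inl hc⟩
  · exact ⟨fun h => absurd h wK, fun _ => .inr hc⟩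
  · exact ⟨fun _ => .inr hc, fun h => absurd xK h⟩

theorem ker_le {Γ : Type*} [Group Γ] [Finite Γ] {σ : Γ →* HS} (hσ : IsStemExtension σ) : Nat.card σ.ker ∣ 2 := by
  have := LC.simple_SporHS
  have : Group.IsPerfect HS := Group.isPerfect_def.2 (perfect_of_simple LC.card_SporHS (by decide +kernel))
  obtain ⟨d, K, hN, m, hK, -⟩ := exists_model
  obtain ⟨σ0, hσ0, hk0⟩ := stem_of_nonsplit hK
  obtain ⟨η0, hη0⟩ := exists_lift_of_cover S2046.result hσ0 (hk0.trans (card_multiplicative_zmod 2).symm) hσ.1 hσ.2.1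
  have s0 := surjective_of_lift_of_ker_le_commutator η0 σ hσ.2.1 hσ.2.2 (hη0 ▸ hσ0.1)
  have h1 : σ0.ker.map η0 = σ.ker := by
    rw [← hη0, ← MonoidHom.comap_ker, map_comap_eq_self_of_surjective s0]
  rw [← h1, ← hk0]
  exact card_map_dvd _ _

end HQm1

open Cfsg Cfsg.Agent.GT Cfsg.Agent.Loc.Mss Cfsg.Agent.Sym Cfsg.Agent.Loc.SO Cfsg.Agent.SAn Subgroup Equiv
open Cfsg.Agent.StdB (C1 mem_C1)
open scoped commutatorElement

variable {Γ : Type*} [Group Γ] [Finite Γ] {M : Subgroup Γ} {t : Γ}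

theorem hs_classes [M.Normal] (hM : Cfsg.Spor.IsoHS M) (hC : ∀ q ∈ 𝐂[M], q = 1) (ht : t ∉ M) :
    M.index = 2 ∧ ∀ x y z : Γ, Iv x → Iv y → Iv z → (x ∈ M ↔ y ∈ M) → (x ∈ M ↔ z ∈ M) →
      IsConj x y ∨ IsConj x z ∨ IsConj y z := by
  obtain ⟨e⟩ := hM
  obtain ⟨a, b, c, f, hi, hcl⟩ := HQm1.aut_classes
  let ρ : Γ →* MulAut Cfsg.Spor.HS := (MulAut.congr e).toMonoidHom.comp MulAut.conjNormal
  have hρ : ∀ g (k : M), ρ g (e k) = e (MulAut.conjNormal g k) := fun g k => by simp [ρ]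
  have inj : Function.Injective ρ := (injective_iff_map_eq_one ρ).2 fun g hg => hC g (mem_cent.2 fun k hk => by
    have h1 := hρ g ⟨k, hk⟩
    rw [hg, MulAut.one_apply] at h1
    have h2 : k = g * k * g⁻¹ := congrArg Subtype.val (e.injective h1)
    rw [eq_mul_inv_iff_mul_eq] at h2
    exact h2)
  have hin : ∀ k : M, ρ k = MulAut.conj (e k) := fun k => MulEquiv.ext fun q => by
    obtain ⟨l, rfl⟩ := e.surjective q
    rw [hρ, MulAut.conj_apply, ← map_inv, ← map_mul, ← map_mul]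
    rfl
  have hA : ∀ g, ρ g ∈ Inn Cfsg.Spor.HS ↔ g ∈ M := fun g => by
    refine ⟨fun ⟨h, k⟩ => ?_, fun hg => ⟨e ⟨g, hg⟩, (hin ⟨g, hg⟩).symm⟩⟩
    obtain ⟨l, rfl⟩ := e.surjective h
    rw [← hin] at k
    exact inj k ▸ l.2
  have ht' : ρ t ∉ Inn Cfsg.Spor.HS := mt (hA t).1 ht
  have hI : ∀ x ∈ Inn Cfsg.Spor.HS, ∃ g, ρ g = x := by
    rintro _ ⟨h, rfl⟩
    obtain ⟨l, rfl⟩ := e.surjective h
    exact ⟨l, hin l⟩
  have surj : Function.Surjective ρ := fun x => by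
    by_cases hx : x ∈ Inn Cfsg.Spor.HS
    · exact hI x hx
    · obtain ⟨g, hg⟩ := hI (x * ρ t) ((mul_mem_iff_of_index_two hi).2 (by simp only [hx, ht']))
      exact ⟨g * t⁻¹, by rw [map_mul, map_inv, hg, mul_inv_cancel_right]⟩
  have hcj : ∀ {x y : Γ} {w : MulAut Cfsg.Spor.HS}, IsConj w (ρ x) → IsConj w (ρ y) → IsConj x y := fun h1 h2 => by
    obtain ⟨v, hv⟩ := isConj_iff.1 (h1.symm.trans h2)
    obtain ⟨g, rfl⟩ := surj v
    exact isConj_iff.2 ⟨g, inj (by rw [map_mul, map_mul, map_inv, hv])⟩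
  have hI2 : ∀ x : Γ, Iv x → (x ∈ M → IsConj a (ρ x) ∨ IsConj b (ρ x)) ∧ (x ∉ M → IsConj c (ρ x) ∨ IsConj f (ρ x)) :=
    fun x hx => by
      rw [← hA]
      exact hcl (ρ x) (by rw [← map_mul, hx.1, map_one]) fun k => hx.2 (inj (k.trans (map_one ρ).symm))
  refine ⟨?_, fun x y z hx hy hz e1 e2 => ?_⟩
  · have : (Inn Cfsg.Spor.HS).comap ρ = M := Subgroup.ext hA
    rw [← hi, ← this, index_comap_of_surjective _ surj]
  by_cases hm : x ∈ M
  · rcases (hI2 x hx).1 hm with k1 | k1 <;> rcases (hI2 y hy).1 (e1.1 hm) with k2 | k2 <;>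
      rcases (hI2 z hz).1 (e2.1 hm) with k3 | k3 <;>
      first | exact .inl (hcj k1 k2) | exact .inr (.inl (hcj k1 k3)) | exact .inr (.inr (hcj k2 k3))
  · rcases (hI2 x hx).2 hm with k1 | k1 <;> rcases (hI2 y hy).2 (mt e1.2 hm) with k2 | k2 <;>
      rcases (hI2 z hz).2 (mt e2.2 hm) with k3 | k3 <;>
      first | exact .inl (hcj k1 k2) | exact .inr (.inl (hcj k1 k3)) | exact .inr (.inr (hcj k2 k3))

theorem hs_simple (hM : Cfsg.Spor.IsoHS Γ) : IsSimpleGroup Γ ∧ ¬ IsMulCommutative Γ ∧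
    Nat.card Γ = 44352000 := by
  obtain ⟨e⟩ := hM
  have := Spor.LC.simple_SporHS
  have hs : IsSimpleGroup Γ := e.isSimpleGroup
  have hc : Nat.card Γ = 44352000 := by rw [Nat.card_congr e.toEquiv, Spor.LC.card_SporHS]
  refine ⟨hs, fun h => ?_, hc⟩
  have h1 := Spor.MX.perfect_of_simple hc (by decide +kernel)
  rw [(commutator_eq_bot_iff Γ).2 h] at h1
  exact bot_ne_top h1

theorem card_ker_stem {σ : Γ →* Cfsg.Spor.HS} (h : IsStemExtension σ) : Nat.card σ.ker ∣ 2 :=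
  HQm1.ker_le h

end Cfsg.Agent.SAq
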