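import Mathlib
import Cfsg.Agent.SAq.HQb
import Cfsg.Agent.SAq.HQc
import Cfsg.Agent.SAq.HQm

/-! Classes of involutions in the quotient. See `stubs/Cfsg/Agent/SAq/HN.md`. -/

set_option autoImplicit false
set_option linter.unusedSectionVars false

namespace Cfsg.Agent.SAq

open Cfsg Cfsg.Agent.GT Cfsg.Agent.Loc.Mss Cfsg.Agent.Sym Cfsg.Agent.Loc.SO Cfsg.Agent.SAn Subgroup Equiv
open Cfsg.Agent.StdB (C1 mem_C1)
open scoped commutatorElement

variable {G : Type*} [Group G] [Finite G] {Q : Type*} [Group Q] [Finite Q] {ψ : Perm (Fin 12) →* G}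
  {θ : NN (ph ψ) →* Q} {M : Subgroup Q} {X : Subgroup G} {g n : G}

namespace HQd

theorem dd_ne (hi : Function.Injective ψ) : dd ψ ≠ 1 := fun e =>
  absurd (hi (e.trans (map_one ψ).symm)) (by decide)

theorem not_both (hi : Function.Injective ψ) (h : n * ph ψ = ph ψ * n) (h' : n * ph ψ * n⁻¹ = (ph ψ)⁻¹) :
    False := by
  rw [h, mul_inv_cancel_right] at h'
  exact dd_ne hi (by rw [← ph_sq]; exact mul_eq_one_iff_eq_inv.2 h')

theorem fix4 (hi : Function.Injective ψ) {p : Perm (Fin 12)} (h : ψ p ∈ zpowers (ph ψ)) : p 4 = 4 := by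
  obtain ⟨k, hk⟩ := mem_zpowers_iff.1 h
  rw [← map_zpow] at hk
  rw [← hi hk]
  exact Perm.zpow_apply_eq_self_of_apply_eq_self (by decide) k

theorem sq_one {p : Perm (Fin 12)} (h : p * p = 1) : ψ p * ψ p = 1 := by rw [← map_mul, h, map_one]

theorem iv (q : QD (ph ψ) θ) (hn : n ∈ NN (ph ψ)) (h : n * n ∈ zpowers (ph ψ)) (h1 : th θ n ≠ 1) :
    Iv (th θ n) := ⟨by rw [← th_mul hn hn]; exact (q.ker _ (mul_mem hn hn)).2 (mem_sup_left h), h1⟩

theorem ne_one (q : QD (ph ψ) θ) (hi : Function.Injective ψ) {p : Perm (Fin 12)} (h : Fx 0 1 2 3 p)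
    (h2 : p * p = 1) (h4 : p 4 ≠ 4) : th θ (ψ p) ≠ 1 := fun e =>
  h4 (fix4 hi (q.ker_two (mem_NN h) e ⟨1, by rw [pow_one, pow_two, sq_one h2]⟩))

theorem pow_cases (hi : Function.Injective ψ) {k : ℕ} (h : ph ψ ^ k * ph ψ ^ k = 1) :
    ph ψ ^ k = 1 ∨ ph ψ ^ k = dd ψ := by
  rw [pow_eq_pow_mod k ph_four] at h ⊢
  have h4 : k % 4 < 4 := Nat.mod_lt _ (by norm_num)
  generalize k % 4 = j at h h4
  interval_cases j
  · exact .inl (pow_zero _)
  · rw [pow_one, ph_sq] at h; exact absurd h (dd_ne hi)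
  · exact .inr (by rw [pow_two, ph_sq])
  · rw [← pow_add, show 3 + 3 = 4 + 2 from rfl, pow_add, ph_four, one_mul, pow_two, ph_sq] at h
    exact absurd h (dd_ne hi)

theorem fz : Fx (0 : Fin 12) 1 2 3 (dt 4 5 6 7) := ⟨by decide, by decide, by decide, by decide⟩

theorem fs : Fx (0 : Fin 12) 1 2 3 (swap 4 5) := ⟨by decide, by decide, by decide, by decide⟩

theorem z_mem : ψ (dt 4 5 6 7) ∈ L8 ψ :=
  mem_map_of_mem _ (mem_altOn.2 ⟨by rw [Perm.mem_alternatingGroup]; decide, fx_iff.1 fz⟩)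

/-- The image of the centralizer of the element of order four. -/
def M0 (θ : NN (ph ψ) →* Q) : Subgroup Q := ((C1 (ph ψ)).subgroupOf (NN (ph ψ))).map θ

theorem mem_M0 (q : QD (ph ψ) θ) (hn : n ∈ NN (ph ψ)) : th θ n ∈ M0 θ ↔ n * ph ψ = ph ψ * n := by
  refine ⟨fun ⟨a, ha, e⟩ => ?_, fun h => ⟨⟨n, hn⟩, mem_C1.2 h, (th_of_mem hn).symm⟩⟩
  have h1 : Commute (a : G) (ph ψ) := mem_C1.1 ha
  have h2 : Commute ((a : G)⁻¹ * n) (ph ψ) := q.ker_comm (mul_mem (inv_mem a.2) hn) (by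
    rw [th_mul (inv_mem a.2) hn, th_inv a.2, th_coe, e, inv_mul_cancel])
  have := h1.mul_left h2
  rwa [mul_inv_cancel_left] at this

theorem normal_M0 (q : QD (ph ψ) θ) : (M0 θ).Normal := ⟨fun a ha b => by
  obtain ⟨n, hn, rfl⟩ := q.surj a
  obtain ⟨m, hm, rfl⟩ := q.surj b
  rw [← th_conj hm hn, mem_M0 q (mul_mem (mul_mem hm hn) (inv_mem hm))]
  have h1 : Commute n (ph ψ) := (mem_M0 q hn).1 ha
  have h2 : Commute n (m⁻¹ * ph ψ * m⁻¹⁻¹) := by
    rcases NN_cases q.four (inv_mem hm) with h | h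
    · rw [h, mul_inv_cancel_right]; exact h1
    · rw [h]; exact h1.inv_right
  calc m * n * m⁻¹ * ph ψ = m * (n * (m⁻¹ * ph ψ * m⁻¹⁻¹)) * m⁻¹ := by group
    _ = _ := by rw [h2.eq]; group⟩

end HQd

open HQd

theorem Hs.exists_hm.{u} {G : Type u} [Group G] [Finite G] {ψ : Perm (Fin 12) →* G} (h : Hs ψ)
    (hc : HNc ψ 0 1 2 3) : ∃ (Q : Type u) (_ : Group Q) (_ : Finite Q) (θ : NN (ph ψ) →* Q)
      (M : Subgroup Q), HM ψ θ M := by
  obtain ⟨Q, _, _, θ, q⟩ := exists_qd (ph_four (ψ := ψ))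
  obtain ⟨M, h1, h2, h3, h4, h5⟩ := (q.cf h).exists_hs q.core (by rw [card_R8]; norm_num)
    (q.sg h hc).1 (q.sg h hc).2
  refine ⟨Q, _, ‹_›, θ, M, q, h1, h2, h5, ?_, h4⟩
  rintro _ ⟨p, hp, rfl⟩
  obtain ⟨p1, p2⟩ := mem_altOn.1 hp
  have k : ∀ x, p x ∈ S8 ↔ x ∈ S8 := fun x => not_iff_not.1
    ⟨fun e => by rwa [p.injective (p2 _ e)] at e, fun e => by rwa [p2 x e]⟩
  have e : Perm.ofSubtype (p.subtypePerm k) = p :=
    Perm.ofSubtype_subtypePerm k fun x hx => by_contra fun e => hx (p2 x e)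
  have a : p.subtypePerm k ∈ alternatingGroup R8 := by
    rw [Perm.mem_alternatingGroup, ← Perm.sign_ofSubtype, e]; exact p1
  rw [← e, ← ev_i8 θ a, ev_of_mem a]
  exact h3 ⟨_, rfl⟩

theorem HM.mem_iff (m : HM ψ θ M) (hi : Function.Injective ψ) (hn : n ∈ NN (ph ψ)) :
    th θ n ∈ M ↔ n * ph ψ = ph ψ * n := by
  have q := m.qd
  have := m.nM
  have := normal_M0 q
  have := (hs_simple m.hs).1
  have le : M ≤ M0 θ := by
    rcases (inferInstance : ((M0 θ).subgroupOf M).Normal).eq_bot_or_eq_top with e | e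
    · have : (⟨_, m.alt _ z_mem⟩ : M) ∈ (M0 θ).subgroupOf M := (mem_M0 q (mem_NN fz)).2 (comm_ph fz)
      rw [e, mem_bot, Subtype.ext_iff] at this
      exact absurd this (ne_one q hi fz (by decide) (by decide))
    · exact subgroupOf_eq_top.1 e
  rw [← mem_M0 q hn]
  refine ⟨fun h => le h, fun h => by_contra fun k => ?_⟩
  have h1 := le ((mul_mem_iff_of_index_two (hs_classes m.hs m.cen m.out).1).2 (iff_of_false k m.out))
  exact not_both hi ((mem_M0 q u1_mem).1 ((mul_mem_cancel_left h).1 h1)) u1_ph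

theorem HM.cls (m : HM ψ θ M) (h : Hs ψ) (hc : HNc ψ 0 1 2 3) : Cls ψ := by
  intro w hw w2
  have q := m.qd
  have := m.nM
  have hi := h.inj
  by_cases h1 : th θ w = 1
  · obtain ⟨k, hk⟩ := mem_zpowers_iff.1 w2
    refine .inl (q.ker_two hw h1 ⟨3, ?_⟩)
    rw [show 2 ^ 3 = 2 * 4 from rfl, pow_mul, pow_two, ← hk, ← zpow_natCast, ← zpow_mul, mul_comm, zpow_mul,
      zpow_natCast, ph_four, one_zpow]
  right
  have cl := (hs_classes m.hs m.cen m.out).2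
  have iw := iv q hw w2 h1
  have sq : ∀ {p : Perm (Fin 12)}, p * p = 1 → ψ p * ψ p ∈ zpowers (ph ψ) := fun e => by
    rw [sq_one e]; exact one_mem _
  rcases NN_cases q.four hw with e | e
  · have a2 := sq (p := swap 4 5) (by decide)
    have b2 := sq (p := dt 4 5 6 7) (by decide)
    have mw := (m.mem_iff hi hw).2 e
    rcases cl _ _ _ iw (iv q (mem_NN fs) a2 (ne_one q hi fs (by decide) (by decide)))
      (iv q (mem_NN fz) b2 (ne_one q hi fz (by decide) (by decide)))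
      (iff_of_true mw ((m.mem_iff hi (mem_NN fs)).2 (comm_ph fs))) (iff_of_true mw (m.alt _ z_mem)) with k | k | k
    · obtain ⟨j, hj, i, e'⟩ := q.lift hw (mem_NN fs) w2 a2 k
      exact ⟨j, hj, i, .inl ⟨e, .inl e'⟩⟩
    · obtain ⟨j, hj, i, e'⟩ := q.lift hw (mem_NN fz) w2 b2 k
      exact ⟨j, hj, i, .inl ⟨e, .inr e'⟩⟩
    exfalso
    obtain ⟨j, hj, i, e'⟩ := q.lift (mem_NN fs) (mem_NN fz) a2 b2 k
    have c : Commute (ψ (dt 4 5 6 7)) (ph ψ ^ i) := Commute.pow_right (comm_ph fz) i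
    have s : ph ψ ^ i * ph ψ ^ i = 1 := by
      have s1 : ψ (dt 4 5 6 7) * ph ψ ^ i * (ψ (dt 4 5 6 7) * ph ψ ^ i) = 1 := by
        rw [← e', conj_mul, sq_one (by decide), mul_one, mul_inv_cancel]
      rwa [c.symm.mul_mul_mul_comm, sq_one (by decide), one_mul] at s1
    rcases pow_cases hi s with s | s
    · rw [s, mul_one] at e'
      exact absurd (h.odd (k := 2) ⟨_, 4, 5, by decide, ⟨by decide, by decide⟩, isConj_iff.2 ⟨j, e'⟩⟩) (by decide)
    · rw [s, ← map_mul] at e'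
      exact absurd (h.odd (k := 4) ⟨_, 4, 5, by decide, ⟨by decide, by decide⟩, isConj_iff.2 ⟨j, e'⟩⟩) (by decide)
  · have a2 := sq (p := swap 0 1) (by decide)
    have b2 := sq (p := swap 0 1 * dt 4 5 6 7) (by decide)
    have hb : ψ (swap 0 1 * dt 4 5 6 7) ∈ NN (ph ψ) := by rw [map_mul]; exact mul_mem u1_mem (mem_NN fz)
    have mb : th θ (ψ (swap 0 1 * dt 4 5 6 7)) ∉ M := by
      rw [map_mul, th_mul u1_mem (mem_NN fz), mul_mem_cancel_right (m.alt _ z_mem)]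
      exact m.out
    have mw : th θ w ∉ M := fun k => not_both hi ((m.mem_iff hi hw).1 k) e
    rcases cl _ _ _ iw (iv q u1_mem a2 fun k => m.out (k ▸ one_mem _)) (iv q hb b2 fun k => mb (k ▸ one_mem _))
      (iff_of_false mw m.out) (iff_of_false mw mb) with k | k | k
    · obtain ⟨j, hj, i, e'⟩ := q.lift hw u1_mem w2 a2 k
      exact ⟨j, hj, i, .inr ⟨e, .inl e'⟩⟩
    · obtain ⟨j, hj, i, e'⟩ := q.lift hw hb w2 b2 k
      exact ⟨j, hj, i, .inr ⟨e, .inr e'⟩⟩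
    obtain ⟨j, hj, i, e'⟩ := q.lift u1_mem hb a2 b2 k
    refine absurd ?_ (hc.two j hj _ fz ⟨by decide, by decide⟩)
    rw [e', mul_inv_rev, inv_mul_cancel_right]
    exact inv_mem (pow_mem (mem_zpowers _) _)

end Cfsg.Agent.SAq
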