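import Mathlib
import Cfsg.Agent.SAq.HQb
import Cfsg.Agent.SAq.H3A

/-! The element of order four is isolated. See `stubs/Cfsg/Agent/SAq/HN.md`. -/

set_option autoImplicit false
set_option linter.unusedSectionVars false

namespace Cfsg.Agent.SAq

open Cfsg Cfsg.Agent.GT Cfsg.Agent.Loc.Mss Cfsg.Agent.Sym Cfsg.Agent.Loc.SO Cfsg.Agent.SAn Subgroup Equiv
open Cfsg.Agent.StdB (C1 mem_C1)
open scoped commutatorElement

variable {G : Type*} [Group G] [Finite G] {Q : Type*} [Group Q] [Finite Q] {ψ : Perm (Fin 12) →* G}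
  {θ : NN (ph ψ) →* Q} {M : Subgroup Q} {X : Subgroup G} {g n : G}

namespace HQe

theorem d4 : D4 (0 : Fin 12) 1 2 3 := by constructor <;> decide

/-- The powers of the four-cycle. -/
def Pw (c : Perm (Fin 12)) : Prop :=
  c = 1 ∨ c = c4 0 1 2 3 ∨ c = dt 0 1 2 3 ∨ c = (c4 0 1 2 3)⁻¹

theorem pw (k : ℕ) : ∃ c, Pw c ∧ ph ψ ^ k = ψ c := by
  refine ⟨c4 0 1 2 3 ^ k, ?_, (map_pow ψ _ k).symm⟩
  induction k with
  | zero => exact .inl (pow_zero _)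
  | succ k ih =>
    rw [pow_succ]
    rcases ih with e | e | e | e <;> rw [e]
    · exact .inr (.inl (one_mul _))
    · exact .inr (.inr (.inl (by decide +kernel)))
    · exact .inr (.inr (.inr (by decide +kernel)))
    · exact .inl (inv_mul_cancel _)

theorem dd_ne (h : Hs ψ) : dd ψ ≠ 1 := fun e =>
  absurd (h.inj (e.trans (map_one ψ).symm)) (by decide +kernel)

theorem dd_ph : dd ψ * ph ψ = (ph ψ)⁻¹ := by
  rw [← map_inv, ← map_mul]; congr 1; decide +kernel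

theorem mem_zd {x : G} (hx : x ∈ zpowers (dd ψ)) : x = 1 ∨ x = dd ψ := by
  obtain ⟨k, rfl⟩ := mem_zpowers_iff.1 hx
  have e : dd ψ ^ (2 : ℤ) = 1 := by rw [zpow_two, dd_sq]
  rcases Int.even_or_odd' k with ⟨j, rfl | rfl⟩
  · left; simp only [zpow_mul, e, one_zpow]
  · right; simp only [zpow_add, zpow_mul, e, one_zpow, one_mul, zpow_one]

theorem mem_NN_of (hx : g * ph ψ * g⁻¹ * (ph ψ)⁻¹ ∈ zpowers (dd ψ)) : g ∈ NN (ph ψ) := by
  rcases mem_zd hx with e | e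
  · exact mem_NN_of_comm (mul_inv_eq_iff_eq_mul.1 (mul_inv_eq_one.1 e))
  · exact mem_NN_of_inv ((mul_inv_eq_iff_eq_mul.1 e).trans dd_ph)

theorem not_inv (h : Hs ψ) : ph ψ ≠ (ph ψ)⁻¹ := fun e =>
  dd_ne h (by rw [← ph_sq]; exact mul_eq_one_iff_eq_inv.2 e)

theorem two (h : Hs ψ) (hd : g * dd ψ = dd ψ * g) {c : Perm (Fin 12)} (hc : Pw c) :
    g * ψ (swap 0 1) * g⁻¹ ≠ ψ (swap 0 1 * dt 4 5 6 7 * c) := fun e => by
  have ty : ∀ k, Tp (swap 0 1 * dt 4 5 6 7 * c) k → Ty ψ k := fun k hk =>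
    ⟨_, 0, 1, d4.ab, hk, isConj_iff.2 ⟨g, e⟩⟩
  have sw := (h.sw (α := Fin 10) (by simp) d4).conj g
  have e2 : g * ψ (swap 2 3) * g⁻¹ = ψ (swap 0 1 * dt 4 5 6 7 * c * dt 0 1 2 3) := by
    rw [map_mul, ← e, show ψ (swap 2 3) = ψ (swap 0 1) * dd ψ by
      rw [← map_mul]; congr 1; decide +kernel, mul_assoc g, mul_assoc,
      ← (show Commute g (dd ψ) from hd).inv_left.eq]
    simp only [mul_assoc]
  have t3 := h.two3 (α := Fin 10) (z := dt 4 5 6 7) (by simp) d4 (by constructor <;> decide)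
    ⟨by decide +kernel, by decide +kernel⟩
  rw [e, e2] at sw
  rcases hc with rfl | rfl | rfl | rfl
  · refine t3.elim (fun n => n ?_) fun n => n (ty 3 ⟨by decide +kernel, by decide +kernel⟩)
    rwa [mul_one, show swap 0 1 * dt 4 5 6 7 * dt 0 1 2 3 = swap (2 : Fin 12) 3 * dt 4 5 6 7 by
      decide +kernel] at sw
  · exact absurd (h.odd (ty 4 ⟨by decide +kernel, by decide +kernel⟩)) (by decide)
  · refine t3.elim (fun n => n ?_) fun n => n (ty 3 ⟨by decide +kernel, by decide +kernel⟩)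
    rw [show swap 0 1 * dt 4 5 6 7 * dt 0 1 2 3 * dt 0 1 2 3 = swap (0 : Fin 12) 1 * dt 4 5 6 7 by
      decide +kernel, show swap 0 1 * dt 4 5 6 7 * dt 0 1 2 3 = swap (2 : Fin 12) 3 * dt 4 5 6 7 by
      decide +kernel] at sw
    exact sw.symm
  · exact absurd (h.odd (ty 4 ⟨by decide +kernel, by decide +kernel⟩)) (by decide)

theorem NN_dd (hn : n ∈ NN (ph ψ)) : n * dd ψ = dd ψ * n := by
  have := NN_comm_sq ph_four hn
  rwa [ph_sq] at this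

theorem key (h : Hs ψ) (hc : Cls ψ) (hg : g * dd ψ = dd ψ * g) {π c : Perm (Fin 12)}
    (hπ : π = swap 4 5 ∨ π = dt 4 5 6 7) (hp : Pw c) : g * ph ψ * g⁻¹ ≠ ψ (π * c) := fun e => by
  have i1 : ψ (swap 0 1) * ψ (π * c) * (ψ (swap 0 1))⁻¹ = (ψ (π * c))⁻¹ := by
    rw [← map_inv, ← map_inv, ← map_mul, ← map_mul]
    congr 1
    rcases hπ with rfl | rfl <;> rcases hp with rfl | rfl | rfl | rfl <;> decide +kernel
  have i2 : g⁻¹ * ψ (swap 0 1) * g * ph ψ * (g⁻¹ * ψ (swap 0 1) * g)⁻¹ = (ph ψ)⁻¹ := by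
    calc g⁻¹ * ψ (swap 0 1) * g * ph ψ * (g⁻¹ * ψ (swap 0 1) * g)⁻¹
        = g⁻¹ * (ψ (swap 0 1) * (g * ph ψ * g⁻¹) * (ψ (swap 0 1))⁻¹) * g := by group
      _ = _ := by rw [e, i1, ← e]; group
  have w2 : g⁻¹ * ψ (swap 0 1) * g * (g⁻¹ * ψ (swap 0 1) * g) = 1 := by
    calc g⁻¹ * ψ (swap 0 1) * g * (g⁻¹ * ψ (swap 0 1) * g)
        = g⁻¹ * (ψ (swap 0 1) * ψ (swap 0 1)) * g := by group
      _ = 1 := by rw [← map_mul, swap_mul_self, map_one]; group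
  have nc : g⁻¹ * ψ (swap 0 1) * g * ph ψ ≠ ph ψ * (g⁻¹ * ψ (swap 0 1) * g) := fun e' =>
    not_inv h (by rw [← i2, e', mul_inv_cancel_right])
  rcases hc _ (mem_NN_of_inv i2) (w2 ▸ one_mem _) with hw | ⟨n, hn, j, ⟨e', -⟩ | ⟨-, e' | e'⟩⟩
  · obtain ⟨k, hk⟩ := mem_zpowers_iff.1 hw
    exact nc (hk ▸ (Commute.zpow_left rfl k).eq)
  · exact nc e'
  all_goals
    have hd : n * g⁻¹ * dd ψ = dd ψ * (n * g⁻¹) :=
      ((show Commute n (dd ψ) from NN_dd hn).mul_left (show Commute g (dd ψ) from hg).inv_left).eq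
    rw [show n * (g⁻¹ * ψ (swap 0 1) * g) * n⁻¹ = n * g⁻¹ * ψ (swap 0 1) * (n * g⁻¹)⁻¹ by group] at e'
  · obtain ⟨r, hr, k⟩ := h.pair_nrm d4 (h.pair_of hd e')
    have fp : Fx 0 1 2 3 (swap (4 : Fin 12) 6 * swap 4 8) := by constructor <;> decide
    have k1 := k (swap 4 6 * swap 4 8) (mem_altOn.2 ⟨Perm.mem_alternatingGroup.2 (by decide +kernel),
      fx_iff.1 fp⟩)
    have f1 : Fx 0 1 2 3 (r * (swap 4 6 * swap 4 8) * r⁻¹) := by
      constructor <;> rw [Perm.mul_apply, Perm.mul_apply]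
      · rw [Perm.inv_eq_iff_eq.2 hr.a.symm, fp.a, hr.a]
      · rw [Perm.inv_eq_iff_eq.2 hr.b.symm, fp.b, hr.b]
      · rw [Perm.inv_eq_iff_eq.2 hr.c.symm, fp.c, hr.c]
      · rw [Perm.inv_eq_iff_eq.2 hr.d.symm, fp.d, hr.d]
    have c1 : Commute (ψ (r * (swap 4 6 * swap 4 8) * r⁻¹)) (n * ph ψ * n⁻¹) := by
      have c0 : Commute (ψ (r * (swap 4 6 * swap 4 8) * r⁻¹)) (ph ψ) := comm_ph f1
      rcases NN_cases ph_four hn with e1 | e1
      · rwa [e1, mul_inv_cancel_right]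
      · rw [e1]; exact c0.inv_right
    rw [← k1, show n * ph ψ * n⁻¹ = n * g⁻¹ * (g * ph ψ * g⁻¹) * (n * g⁻¹)⁻¹ by group, e] at c1
    have c2 := c1.eq
    rw [conj_mul, conj_mul, mul_left_inj, mul_right_inj, ← map_mul, ← map_mul] at c2
    have c3 := h.inj c2
    revert c3
    rcases hπ with rfl | rfl <;> rcases hp with rfl | rfl | rfl | rfl <;> decide +kernel
  · obtain ⟨c', hc', e1⟩ := pw (ψ := ψ) j
    rw [e1, ← map_mul] at e'
    exact two h hd hc' e'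

end HQe

open HQe

theorem Hs.iso4 (h : Hs ψ) (hc : Cls ψ) (hg : g * dd ψ = dd ψ * g)
    (h1 : ⁅g * ph ψ * g⁻¹, ph ψ⁆ ∈ zpowers (dd ψ)) :
    g * ph ψ * g⁻¹ * (ph ψ)⁻¹ ∈ zpowers (dd ψ) := by
  have sq : ∀ {g : G}, g * dd ψ = dd ψ * g → g * ph ψ * g⁻¹ * (g * ph ψ * g⁻¹) = dd ψ :=
    fun hg => by rw [conj_mul, ph_sq, hg, mul_inv_cancel_right]
  have dm : dd ψ ∈ zpowers (ph ψ) := ph_sq (ψ := ψ) ▸ mul_mem (mem_zpowers _) (mem_zpowers _)
  rcases hc _ (mem_NN_of h1) (sq hg ▸ dm) with hw | ⟨n, hn, j, e⟩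
  · obtain ⟨k, hk⟩ := mem_powers_iff_mem_zpowers.2 hw
    obtain ⟨c, hp, e1⟩ := pw (ψ := ψ) k
    have e2 : g * ph ψ * g⁻¹ = ψ c := hk.symm.trans e1
    have s := sq hg
    rw [e2] at s ⊢
    rcases hp with rfl | rfl | rfl | rfl
    · exact absurd (by rw [← s, map_one, mul_one]) (dd_ne h)
    · rw [mul_inv_cancel]; exact one_mem _
    · exact absurd (s.symm.trans dd_sq) (dd_ne h)
    · rw [map_inv, ← mul_inv_rev, ph_sq]; exact inv_mem (mem_zpowers _)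
  · exfalso
    have hd : n * g * dd ψ = dd ψ * (n * g) :=
      ((show Commute n (dd ψ) from NN_dd hn).mul_left (show Commute g (dd ψ) from hg)).eq
    obtain ⟨c, hp, e1⟩ := pw (ψ := ψ) j
    have s := sq hd
    rw [show n * (g * ph ψ * g⁻¹) * n⁻¹ = n * g * ph ψ * (n * g)⁻¹ by group, e1, ← map_mul,
      ← map_mul, ← map_mul, ← map_mul] at e
    rcases e with ⟨-, e | e⟩ | ⟨-, e | e⟩
    · exact key h hc hd (.inl rfl) hp e
    · exact key h hc hd (.inr rfl) hp e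
    all_goals
      rw [e, ← map_mul] at s
      have c3 := h.inj s
      revert c3
      rcases hp with rfl | rfl | rfl | rfl <;> decide +kernel

theorem Hs.dec4 (h : Hs ψ) (hc : Cls ψ) : Dec ψ := fun g hg => by
  obtain ⟨o, ho, e⟩ := zstar_mod (u := ph ψ) (g := g) dd_sq (NN_dd ph_mem)
    (ph_sq (ψ := ψ) ▸ mem_zpowers _) (fun _ a b => h.iso4 hc a b) (mem_C1.1 hg)
  exact ⟨o, ho, mem_NN_of e⟩

end Cfsg.Agent.SAq
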