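import Mathlib
import Cfsg.Agent.SAq.HQf
import Cfsg.Agent.SAq.HsB
import Cfsg.Agent.SAq.H5

/-! The extension does not split. See `stubs/Cfsg/Agent/SAq/HN.md`. -/

set_option autoImplicit false
set_option linter.unusedSectionVars false

namespace Cfsg.Agent.SAq

open Cfsg Cfsg.Agent.GT Cfsg.Agent.Loc.Mss Cfsg.Agent.Sym Cfsg.Agent.Loc.SO Cfsg.Agent.SAn Subgroup Equiv
open Cfsg.Agent.StdB (C1 mem_C1)
open scoped commutatorElement

variable {G : Type*} [Group G] [Finite G] {Q : Type*} [Group Q] [Finite Q] {ψ : Perm (Fin 12) →* G}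
  {θ : NN (ph ψ) →* Q} {M : Subgroup Q} {X : Subgroup G} {g n : G}

namespace HQg

theorem comm_mod {W : Subgroup G} {a b o o' : G} (ha : a ∈ 𝐍[W]) (hb : b ∈ 𝐍[W]) (ho : o ∈ W) (ho' : o' ∈ W) :
    ⁅o * a, o' * b⁆ * ⁅a, b⁆⁻¹ ∈ W := by
  have h1 := mul_mem (mul_mem ha hb) (inv_mem ha)
  have := mul_mem (mul_mem (mul_mem ho (conj_mem_of_norm ha ho')) (conj_mem_of_norm h1 (inv_mem ho)))
    (conj_mem_of_norm (mul_mem h1 (inv_mem hb)) (inv_mem ho'))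
  convert this using 1
  simp only [commutatorElement_def]; group

theorem norm_Oc (H : Subgroup G) : H ≤ 𝐍[Oc H] := norm_of_forall_cj_le fun g hg => cj_le_iff.2 (by
  rintro _ ⟨o, ho, rfl⟩
  exact ⟨⟨g, hg⟩ * o * ⟨g, hg⟩⁻¹, (inferInstance : (oddCore H).Normal).conj_mem o ho _, rfl⟩)

theorem odd_Oc {H : Subgroup G} (h : g ∈ Oc H) : Odd (orderOf g) := by
  obtain ⟨o, ho, rfl⟩ := h
  rw [coe_subtype, orderOf_coe]
  exact odd_card_oddCore.of_dvd_nat (orderOf_dvd_natCard _ ho)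

theorem d_ne (hi : Function.Injective ψ) : dd ψ ≠ 1 := fun e =>
  absurd (hi (e.trans (map_one ψ).symm)) (by decide +kernel)

theorem pow_cases (hi : Function.Injective ψ) {k : ℕ} (h : ph ψ ^ k * ph ψ ^ k = 1) :
    ph ψ ^ k = 1 ∨ ph ψ ^ k = dd ψ := by
  rw [pow_eq_pow_mod k ph_four] at h ⊢
  have h4 : k % 4 < 4 := Nat.mod_lt _ (by norm_num)
  generalize k % 4 = j at h h4
  interval_cases j
  · exact .inl (pow_zero _)
  · exact absurd (by rwa [pow_one, ph_sq] at h) (d_ne hi)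
  · exact .inr (by rw [pow_two, ph_sq])
  · refine absurd ?_ (d_ne hi)
    rwa [← pow_add, show 3 + 3 = 4 + 2 from rfl, pow_add, ph_four, one_mul, pow_two, ph_sq] at h

theorem sq_pow (hi : Function.Injective ψ) {w : G} {p : Perm (Fin 12)} {k : ℕ} (hw : w * w = 1)
    (hp : Fx 0 1 2 3 p) (p2 : p * p = 1) (e : n * w * n⁻¹ = ψ p * ph ψ ^ k) :
    n * w * n⁻¹ = ψ p ∨ n * w * n⁻¹ = ψ p * dd ψ := by
  have h1 : n * w * n⁻¹ * (n * w * n⁻¹) = 1 := by rw [conj_mul, hw, mul_one, mul_inv_cancel]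
  have h2 : Commute (ψ p) (ph ψ ^ k) := Commute.pow_right (comm_ph hp) k
  rw [e, h2.symm.mul_mul_mul_comm, ← map_mul, p2, map_one, one_mul] at h1
  rcases pow_cases hi h1 with h | h
  · exact .inl (by rw [e, h, mul_one])
  · exact .inr (by rw [e, h])

theorem mem_LL {p : Perm (Fin 12)} (hp : Fx 0 1 2 3 p) {k : ℕ} (he : Tp p k) (hk : Even k) : ψ p ∈ LL ψ :=
  le_ncl _ _ ⟨p, mem_altOn.2 ⟨he.even_iff.2 hk, fx_iff.1 hp⟩, rfl⟩

theorem fx_z8 : Fx 0 1 2 3 z8 := ⟨by decide +kernel, by decide +kernel, by decide +kernel, by decide +kernel⟩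

end HQg

open HQg

theorem HM.der2 (m : HM ψ θ M) (hi : Function.Injective ψ) (hd : Dec ψ) (hl : LD ψ) :
    ⁅⁅C1 (dd ψ), C1 (dd ψ)⁆, ⁅C1 (dd ψ), C1 (dd ψ)⁆⁆ ≤ LL ψ ⊔ Oc (C1 (dd ψ)) := by
  have := m.nM
  have hW : C1 (dd ψ) ≤ 𝐍[LL ψ ⊔ Oc (C1 (dd ψ))] := norm_sup hl.nrm (norm_Oc _)
  have hφ : zpowers (ph ψ) ≤ 𝐍[LL ψ ⊔ Oc (C1 (dd ψ))] := zpowers_le.2 (hW (NN_le_C1 ph_mem))
  have h1 : ⁅C1 (dd ψ), C1 (dd ψ)⁆ ≤ LL ψ ⊔ Oc (C1 (dd ψ)) ⊔ zpowers (ph ψ) := by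
    refine commutator_le.2 fun g hg g' hg' => ?_
    obtain ⟨o, ho, hn⟩ := hd g hg
    obtain ⟨o', ho', hn'⟩ := hd g' hg'
    have k1 := comm_mod (hW (NN_le_C1 hn)) (hW (NN_le_C1 hn')) (mem_sup_right (inv_mem ho))
      (mem_sup_right (inv_mem ho'))
    rw [inv_mul_cancel_left, inv_mul_cancel_left] at k1
    generalize o * g = n at hn k1
    generalize o' * g' = n' at hn' k1
    have hc : ⁅n, n'⁆ ∈ NN (ph ψ) := mul_mem (mul_mem (mul_mem hn hn') (inv_mem hn)) (inv_mem hn')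
    have k2 : th θ ⁅n, n'⁆ ∈ M := by
      have i2 := (hs_classes m.hs m.cen m.out).1
      rw [commutatorElement_def, th_mul (mul_mem (mul_mem hn hn') (inv_mem hn)) (inv_mem hn'), th_conj hn hn',
        th_inv hn']
      simp only [mul_mem_iff_of_index_two i2, inv_mem_iff]
      tauto
    obtain ⟨l, hl', e⟩ := m.surj_LL hi k2
    obtain ⟨k, o1, ho1, e1⟩ := m.qd.ker_dec (mul_mem hc (inv_mem (LL_le_NN hl'))) (by
      rw [th_mul hc (inv_mem (LL_le_NN hl')), th_inv (LL_le_NN hl'), e, mul_inv_cancel])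
    have k3 : ⁅n, n'⁆ ∈ LL ψ ⊔ Oc (C1 (dd ψ)) ⊔ zpowers (ph ψ) := by
      rw [mul_inv_eq_iff_eq_mul.1 e1]
      exact mul_mem (mul_mem (mem_sup_right (pow_mem (mem_zpowers _) k))
        (mem_sup_left (mem_sup_right (hd.Oc_le ho1)))) (mem_sup_left (mem_sup_left hl'))
    have := mul_mem (mem_sup_left k1) k3
    rwa [inv_mul_cancel_right] at this
  refine (commutator_mono h1 h1).trans (commutator_le.2 fun g hg g' hg' => ?_)
  obtain ⟨w, hw, a, ha, rfl⟩ := (mem_sup_norm hφ).1 hg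
  obtain ⟨w', hw', b, hb, rfl⟩ := (mem_sup_norm hφ).1 hg'
  have := comm_mod (hφ ha) (hφ hb) hw hw'
  obtain ⟨i, rfl⟩ := mem_zpowers_iff.1 ha
  obtain ⟨j, rfl⟩ := mem_zpowers_iff.1 hb
  rwa [commutatorElement_eq_one_iff_commute.2 (Commute.zpow_zpow_self _ i j), inv_one, mul_one] at this

theorem z8_der2 : ψ z8 ∈ ⁅⁅C1 (ψ z8), C1 (ψ z8)⁆, ⁅C1 (ψ z8), C1 (ψ z8)⁆⁆ := by
  have e : z8 = ⁅⁅swap (4 : Fin 12) 5, dt (4 : Fin 12) 6 5 7⁆,
      ⁅dt (6 : Fin 12) 8 7 9 * dt 6 10 7 11, dt (4 : Fin 12) 6 5 7 * dt 8 10 9 11⁆⁆ := by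
    simp only [commutatorElement_def]
    decide +kernel
  have k : ∀ {p : Perm (Fin 12)}, p * z8 = z8 * p → ψ p ∈ C1 (ψ z8) := fun h => mem_C1.2 (HsB.map_comm h)
  have := commutator_mem_commutator
    (commutator_mem_commutator (k (p := swap 4 5) (by decide +kernel)) (k (p := dt 4 6 5 7) (by decide +kernel)))
    (commutator_mem_commutator (k (p := dt 6 8 7 9 * dt 6 10 7 11) (by decide +kernel))
      (k (p := dt 4 6 5 7 * dt 8 10 9 11) (by decide +kernel)))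
  rwa [← map_commutatorElement, ← map_commutatorElement, ← map_commutatorElement, ← e] at this

theorem Hs.z8_conj (h : Hs ψ) (hc : Cls ψ) : dd ψ ∈ LL ψ ∨ IsConj (ψ z8) (dd ψ) := by
  have w2 : ψ z8 * ψ z8 = 1 := by rw [← map_mul, ← map_one ψ]; exact congrArg ψ (by decide +kernel)
  rcases hc _ (mem_NN fx_z8) (w2 ▸ one_mem _) with h1 | ⟨n, hn, k, ⟨-, h1 | h1⟩ | ⟨h1, -⟩⟩
  · obtain ⟨k, hk⟩ := mem_zpowers_iff.1 h1
    rw [← map_zpow] at hk
    have := Perm.zpow_apply_eq_self_of_apply_eq_self (f := c4 (0 : Fin 12) 1 2 3) (x := 4) (by decide +kernel) k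
    rw [h.inj hk] at this
    exact absurd this (by decide +kernel)
  · exfalso
    rcases sq_pow h.inj w2 ⟨by decide +kernel, by decide +kernel, by decide +kernel, by decide +kernel⟩ (by decide +kernel) h1 with e | e
    · exact absurd (h.odd (k := 4) ⟨z8, 4, 5, by decide +kernel, ⟨by decide +kernel, by decide +kernel⟩,
        (isConj_iff.2 ⟨n, e⟩).symm⟩) (by decide +kernel)
    · refine absurd (h.odd (k := 6) ⟨z8 * dt 0 1 2 3, 4, 5, by decide +kernel, ⟨by decide +kernel, by decide +kernel⟩,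
        (isConj_iff.2 ⟨n, ?_⟩).symm⟩) (by decide +kernel)
      rw [map_mul, ← conj_mul, e, mem_C1.1 (NN_le_C1 hn), mul_inv_cancel_right, mul_assoc, dd_sq, mul_one]
  · have f : Fx 0 1 2 3 (dt (4 : Fin 12) 5 6 7) := ⟨by decide +kernel, by decide +kernel, by decide +kernel, by decide +kernel⟩
    rcases sq_pow h.inj w2 f (by decide +kernel) h1 with e | e
    · refine .inr ((isConj_iff.2 ⟨n, e⟩).trans (isConj_iff.2 ⟨ψ (dt 0 4 1 5 * dt 2 6 3 7), ?_⟩))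
      rw [← HsB.map_conj]; exact congrArg ψ (by decide +kernel)
    · left
      have h2 := conj_mem_of_norm (le_norm_ncl _ _ hn) 
        (mem_LL (ψ := ψ) fx_z8 (k := 4) ⟨by decide +kernel, by decide +kernel⟩ (by decide))
      rw [e] at h2
      exact (mul_mem_cancel_left (mem_LL f (k := 2) ⟨by decide +kernel, by decide +kernel⟩ (by decide))).1 h2
  · rw [comm_ph fx_z8, mul_inv_cancel_right, eq_inv_iff_mul_eq_one, ph_sq] at h1
    exact absurd h1 (d_ne h.inj)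

theorem Hs.d_mem (h : Hs ψ) (hc : Cls ψ) (m : HM ψ θ M) (hd : Dec ψ) (hl : LD ψ) : dd ψ ∈ LL ψ := by
  refine (h.z8_conj hc).elim id fun h1 => ?_
  obtain ⟨c, e⟩ := isConj_iff.1 h1
  have h2 := conj_mem_cj (g := c) (z8_der2 (ψ := ψ))
  rw [cj_comm, cj_comm, ← centralizer_singleton_conj, e] at h2
  obtain ⟨l, hl', o, ho, e1⟩ := (mem_sup_norm (norm_of_cent (cent_comm hl.cen))).1 (m.der2 h.inj hd hl h2)
  have h3 : Commute (dd ψ) o := (mem_C1.1 (map_subtype_le _ ho)).symm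
  obtain ⟨j, hj⟩ := odd_Oc ho
  have h4 := pow_mem hl' (orderOf o)
  rwa [eq_mul_inv_of_mul_eq e1, h3.inv_right.mul_pow, inv_pow, pow_orderOf_eq_one, inv_one, mul_one, hj, pow_succ,
    pow_mul, pow_two, dd_sq, one_pow, one_mul] at h4

end Cfsg.Agent.SAq
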