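import Mathlib
import Cfsg.Agent.SAq.HsB
import Cfsg.Agent.SAq.BP
import Cfsg.Agent.SAq.HS
import Cfsg.Agent.SAq.SetA
import Cfsg.Agent.Std.HNg
import Cfsg.Agent.SAq.HQd
import Cfsg.Agent.SAq.HQe
import Cfsg.Agent.SAq.HQg
import Cfsg.Agent.SAq.HQh

/-! The Harada-Norton group. See `stubs/Cfsg/Agent/SAq/HN.md`. -/

set_option autoImplicit false
set_option linter.unusedSectionVars false

namespace Cfsg.Agent.SAq

open Cfsg Cfsg.Agent.GT Cfsg.Agent.Loc.Mss Cfsg.Agent.Sym Cfsg.Agent.Loc.SO Cfsg.Agent.SAn Subgroup Equiv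
open Cfsg.Agent.StdB (C1 mem_C1)
open scoped commutatorElement

variable {α β γ : Type} [Fintype α] [DecidableEq α] [Fintype β] [DecidableEq β] [Fintype γ]
  [DecidableEq γ] {G : Type*} [Group G] [Finite G] {ι κ l : alternatingGroup α →* G}
  {ψ : Perm β →* G} {X P M L : Subgroup G} {t s u g o : G} {p q σ τ π : Perm α} {k j : ℕ}

theorem HN1.mem_L8 {ψ : Perm (Fin 12) →* G} {r : Perm (Fin 12)} (h1 : Perm.sign r = 1) (h2 : Fx 0 1 2 3 r) :
    ψ r ∈ LL ψ :=
  le_ncl _ _ ⟨r, mem_altOn.2 ⟨Perm.mem_alternatingGroup.2 h1, fx_iff.1 h2⟩, rfl⟩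

theorem GH.hn {ψ : Perm (Fin 12) →* G} (h : GH ψ X) (hc : HNc ψ 0 1 2 3) : Cfsg.Spor.IsoHN X := by
  obtain ⟨Q, _, _, θ, M, m⟩ := h.hs.exists_hm hc
  have hcl := m.cls h.hs hc
  have hd := h.hs.dec4 hcl
  have hl := h.ld m hd
  have dL := h.hs.d_mem hcl m hd hl
  have fr := h.fr 0 1 (by decide)
  have := fr.nX
  have := fr.sX
  have LX : LL ψ ≤ X := LL_le (by
    rintro _ ⟨p, hp, rfl⟩
    exact h.AX p (mem_altOn.1 hp).1)
  have d1 : dd ψ ≠ 1 := fun e => absurd (h.hs.inj (e.trans (map_one ψ).symm)) (by decide)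
  have Ld : LL ψ ≤ C1 (dd ψ) := LL_le_NN.trans NN_le_C1
  obtain ⟨σ, hσ, hk⟩ := hl.stem
  let ε := subgroupOfEquivOfLe LX
  let σ' := σ.comp ε.toMonoidHom
  have hs' : Function.Surjective σ' := hσ.1.comp ε.surjective
  have hk' : σ'.ker = center ((LL ψ).subgroupOf X) := by
    ext a
    rw [MonoidHom.mem_ker, MonoidHom.comp_apply, ← MonoidHom.mem_ker, hk, mem_center_iff, mem_center_iff]
    refine ⟨fun e b => ε.injective ?_, fun e b => ?_⟩
    · rw [map_mul, map_mul]; exact e _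
    · obtain ⟨c, rfl⟩ := ε.surjective b
      have := congrArg ε (e c)
      rwa [map_mul, map_mul] at this
  have e := (QuotientGroup.quotientMulEquivOfEq hk'.symm).trans
    (QuotientGroup.quotientKerEquivOfSurjective σ' hs')
  have hZ : Nat.card (center ((LL ψ).subgroupOf X)) = 2 := by
    have h1 : Nat.card σ'.ker = Nat.card σ.ker := by
      rw [show σ'.ker = σ.ker.comap ε.toMonoidHom from (MonoidHom.comap_ker _ _).symm, comap_equiv_eq_map_symm',
        card_map_of_injective ε.symm.injective]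
    rw [← hk', h1]
    rcases (Nat.dvd_prime Nat.prime_two).1 (card_ker_stem hσ) with e1 | e1
    · have h2 : (⟨dd ψ, dL⟩ : LL ψ) ∈ σ.ker := hk ▸ mem_center_iff.2 fun b => Subtype.ext (mem_C1.1 (Ld b.2))
      rw [card_eq_one.1 e1, mem_bot] at h2
      exact absurd (congrArg Subtype.val h2) d1
    · exact e1
  have hp : Group.IsPerfect ((LL ψ).subgroupOf X) := by
    rw [Group.isPerfect_def]
    apply map_injective ((LL ψ).subgroupOf X).subtype_injective
    apply map_injective X.subtype_injective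
    rw [commutator_def, map_commutator, map_commutator, ← MonoidHom.range_eq_map, range_subtype,
      map_subgroupOf_eq_of_le LX, hl.perf]
  have := Spor.LC.simple_SporHS
  have ne : ∀ {r r' : Perm (Fin 12)} {a b}, r ≠ r' → (⟨ψ r, a⟩ : X) ≠ ⟨ψ r', b⟩ := fun k e =>
    k (h.hs.inj (congrArg Subtype.val e))
  have ne1 : ∀ {r : Perm (Fin 12)} {a}, r ≠ 1 → (⟨ψ r, a⟩ : X) ≠ 1 := fun k e =>
    k (h.hs.inj ((congrArg Subtype.val e).trans (map_one ψ).symm))
  have aL : ψ (dt 4 5 6 7) ∈ LL ψ := HN1.mem_L8 (by decide) ⟨by decide, by decide, by decide, by decide⟩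
  have bL : ψ (dt 4 6 5 7) ∈ LL ψ := HN1.mem_L8 (by decide) ⟨by decide, by decide, by decide, by decide⟩
  refine Std.HN.iso_of_standard (std_of_uniq (t := ⟨dd ψ, LX dL⟩) (a := ⟨_, LX aL⟩) (b := ⟨_, LX bL⟩)
    ⟨hp, e.isSimpleGroup⟩ ⟨Subtype.ext dd_sq, ne1 (by decide)⟩
    (fun a ha => mem_C1.2 (Subtype.ext (mem_C1.1 (Ld ha)))) (fun g hg => ?_) (fun w hw w2 => ?_) aL bL
    ⟨Subtype.ext ?_, ne1 (by decide)⟩ ⟨Subtype.ext ?_, ne1 (by decide)⟩ (ne (by decide)) (Subtype.ext ?_)) hZ e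
  · have h1 := hl.nrm (mem_C1.2 (congrArg Subtype.val (mem_C1.1 hg)))
    rw [mem_normalizer_iff] at h1 ⊢
    exact fun a => h1 a
  · refine (hl.two w ⟨mem_C1.2 (congrArg Subtype.val (mem_C1.1 hw.1)), mem_cent.2 fun a ha => ?_⟩
      (congrArg Subtype.val w2)).imp Subtype.ext Subtype.ext
    exact congrArg Subtype.val (mem_cent.1 hw.2 ⟨a, LX ha⟩ ha)
  · show ψ _ * ψ _ = 1
    rw [← map_mul, ← map_one ψ]; congr 1; decide
  · show ψ _ * ψ _ = 1
    rw [← map_mul, ← map_one ψ]; congr 1; decide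
  · show ψ _ * ψ _ = ψ _ * ψ _
    rw [← map_mul, ← map_mul]; congr 1; decide

end Cfsg.Agent.SAq
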