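import Mathlib
import Cfsg.Agent.SAq.H5
import Cfsg.Agent.SAq.SetA

/-! The action of the 4-cycle on the second alternating group of degree eight. See `stubs/Cfsg/Agent/SAq/PLAN.md`. -/

set_option autoImplicit false
set_option linter.unusedSectionVars false

namespace Cfsg.Agent.SAq

open Cfsg Cfsg.Agent.GT Cfsg.Agent.Loc.Mss Cfsg.Agent.Sym Cfsg.Agent.Loc.SO Cfsg.Agent.SAn Subgroup Equiv
open Cfsg.Agent.StdB (C1 mem_C1)
open scoped commutatorElement

variable {α β γ : Type} [Fintype α] [DecidableEq α] [Fintype β] [DecidableEq β] [Fintype γ]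
  [DecidableEq γ] {G : Type*} [Group G] [Finite G] {ι κ l : alternatingGroup α →* G}
  {ψ : Perm β →* G} {X P M L : Subgroup G} {t s u g o : G} {p q σ τ π : Perm α} {k j : ℕ}

namespace HPi

/-- The last eight points. -/
abbrev Rs : Finset (Fin 12) := ({0, 1, 2, 3} : Finset (Fin 12))ᶜ

/-- The permutations of the last eight points. -/
abbrev Γ : Type := Perm {x : Fin 12 // x ∈ Rs}

/-- Extension by the identity. -/
abbrev ex : Γ →* Perm (Fin 12) := Perm.ofSubtype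

theorem d4 : D4 (0 : Fin 12) 1 2 3 := ⟨by decide, by decide, by decide, by decide, by decide, by decide⟩

variable {χ : Perm (Fin 12) →* G} {a b c η r : Perm (Fin 12)} {x y : G}

theorem fx_iff : Fx 0 1 2 3 a ↔ ∀ z ∉ Rs, a z = z := by
  refine ⟨fun h z hz => ?_, fun h => ⟨h _ (by decide), h _ (by decide), h _ (by decide), h _ (by decide)⟩⟩
  simp only [Finset.mem_compl, not_not, Finset.mem_insert, Finset.mem_singleton] at hz
  rcases hz with rfl | rfl | rfl | rfl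
  exacts [h.a, h.b, h.c, h.d]

theorem fx_ex (r : Γ) : Fx 0 1 2 3 (ex r) := fx_iff.2 fun _ => Perm.ofSubtype_apply_of_not_mem r

theorem exists_ex (h : Fx 0 1 2 3 a) : ∃ r : Γ, ex r = a :=
  ⟨(Perm.subtypeEquivSubtypePerm _).symm ⟨a, fx_iff.1 h⟩,
    congrArg Subtype.val ((Perm.subtypeEquivSubtypePerm (· ∈ Rs)).apply_symm_apply ⟨a, fx_iff.1 h⟩)⟩

theorem comm_of (h : Fx 0 1 2 3 a) (hb : ∀ z ∈ Rs, b z = z) : a * b = b * a :=
  Perm.Disjoint.commute fun z => (em (z ∈ Rs)).symm.imp (fx_iff.1 h z) (hb z)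

theorem fx_alt (h : a ∈ altOn Rs) : Fx 0 1 2 3 a := fx_iff.2 (mem_altOn.1 h).2

theorem conj_alt (h : Fx 0 1 2 3 a) (hb : b ∈ altOn Rs) : a * b * a⁻¹ ∈ altOn Rs :=
  mem_altOn.2 ⟨conj_mem_alt (mem_altOn.1 hb).1 a, fun z hz => by
    have := fx_iff.1 h z hz
    rw [Perm.mul_apply, Perm.mul_apply, Perm.inv_eq_iff_eq.2 this.symm, (mem_altOn.1 hb).2 z hz, this]⟩

/-- `x` acts on the alternating group of the last eight points as `a`. -/
def Ac (χ : Perm (Fin 12) →* G) (x : G) (a : Perm (Fin 12)) : Prop :=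
  ∀ p ∈ altOn Rs, x * χ p * x⁻¹ = χ (a * p * a⁻¹)

theorem ac_self (a : Perm (Fin 12)) : Ac χ (χ a) a := fun p _ => by rw [map_mul, map_mul, map_inv]

theorem Ac.mul (h : Ac χ x a) (h' : Ac χ y b) (hb : Fx 0 1 2 3 b) : Ac χ (x * y) (a * b) := fun p hp => by
  rw [show x * y * χ p * (x * y)⁻¹ = x * (y * χ p * y⁻¹) * x⁻¹ by group, h' p hp, h _ (conj_alt hb hp)]
  exact congrArg χ (by simp only [mul_assoc, mul_inv_rev])

theorem Ac.cen (hi : Function.Injective χ) (h : Ac χ x a) (h' : Ac χ x b) : ∀ z ∈ Rs, (b⁻¹ * a) z = z :=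
  cent_altOn (by decide) (mem_centralizer_iff.2 fun p hp => by
    have := hi ((h p hp).symm.trans (h' p hp))
    calc _ = b⁻¹ * (b * p * b⁻¹) * a := by group
      _ = _ := by rw [← this]; group)

theorem Ac.uniq (hi : Function.Injective χ) (h : Ac χ x a) (h' : Ac χ x b) (ha : Fx 0 1 2 3 a)
    (hb : Fx 0 1 2 3 b) : a = b := Equiv.ext fun z => by
  by_cases hz : z ∈ Rs
  · exact Perm.inv_eq_iff_eq.1 (h.cen hi h' z hz)
  · rw [fx_iff.1 ha z hz, fx_iff.1 hb z hz]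

theorem ac_mul (hc : ∀ z ∈ Rs, c z = z) (ha : Fx 0 1 2 3 a) : Ac χ (χ (c * a)) a := fun p hp => by
  rw [ac_self _ p hp, ← comm_of ha hc, mul_inv_rev, mul_assoc a, ← comm_of (fx_alt hp) hc]
  congr 1; group

/-- The group generated by the first two transpositions. -/
def V0 (η : Perm (Fin 12)) : Prop := η = 1 ∨ η = swap 0 1 ∨ η = swap 2 3 ∨ η = dt 0 1 2 3

theorem small4 : ∀ ν : Perm (Fin 4), ν * swap 0 1 = swap 0 1 * ν →
    ν = 1 ∨ ν = swap 0 1 ∨ ν = swap 2 3 ∨ ν = dt 0 1 2 3 := by decide +kernel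

theorem small (h : ∀ z ∈ Rs, η z = z) (hc : η * swap 0 1 = swap 0 1 * η) : V0 η := by
  obtain ⟨ν, rfl⟩ := P0.exists_Φ d4 fun z hz => h z (Finset.mem_compl.2 hz)
  have e1 : P0.Φ d4 (swap 0 1) = swap 0 1 := P0.Φ_swap d4 0 1
  have e2 : P0.Φ d4 (swap 2 3) = swap 2 3 := P0.Φ_swap d4 2 3
  rcases small4 ν (P0.Φ_inj d4 (by rw [map_mul, map_mul, e1, hc])) with rfl | rfl | rfl | rfl
  exacts [.inl (map_one _), .inr (.inl e1), .inr (.inr (.inl e2)), .inr (.inr (.inr (P0.Φ1 d4)))]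

theorem fx_swap (h : Fx 0 1 2 3 a) : a * swap 0 1 = swap 0 1 * a ∧ a * swap 2 3 = swap 2 3 * a :=
  ⟨comm_of h (by decide), comm_of h (by decide)⟩

/-- An involution centralizing the pair and the alternating group on the other points. -/
theorem ker2 (h : Hs χ) (x2 : x * x = 1) (h1 : x * χ (swap 0 1) = χ (swap 0 1) * x)
    (h2 : x * χ (swap 2 3) = χ (swap 2 3) * x) (ha : Ac χ x 1) : ∃ η, V0 η ∧ x = χ η := by
  obtain ⟨σ, s0, s1, hσ⟩ := h.reg 0 1 (by decide) x h1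
  have aσ : Ac χ x σ := fun p hp => hσ p (mem_altOn.1 hp).1 (fx_alt hp).a (fx_alt hp).b
  have c := aσ.cen h.inj ha
  rw [inv_one, one_mul] at c
  have cs : σ * swap 0 1 = swap 0 1 * σ := by rw [mul_swap_eq_swap_mul, s0, s1]
  have k : ∀ σ' : Perm (Fin 12), σ = σ' → σ' * σ' = 1 → x * χ σ' = χ σ' * x →
      x = χ σ' ∨ x = χ (swap 0 1 * σ') := fun σ' e s2 cx => by
    subst e
    have i : (χ σ)⁻¹ = χ σ := inv_eq_of_mul_eq_one_right (by rw [← map_mul, s2, map_one])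
    refine (h.ker 0 1 (by decide) ((χ σ)⁻¹ * x) ?_ (fun p hp p0 p1 => ?_) ⟨1, ?_⟩).imp (fun e => ?_) fun e => ?_
    · rw [mul_assoc, h1, ← mul_assoc, ← mul_assoc, i, ← map_mul, cs, map_mul]
    · have := hσ p hp p0 p1
      rw [map_mul, map_mul, map_inv] at this
      calc _ = (χ σ)⁻¹ * (x * χ p * x⁻¹) * x := by group
        _ = _ := by rw [this]; group
    · rw [pow_one, pow_two, i, mul_assoc, ← mul_assoc x, cx, mul_assoc, x2, mul_one, ← map_mul, s2, map_one]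
    · exact (inv_mul_eq_one.1 e).symm
    · rw [← cs, map_mul, ← e, mul_inv_cancel_left]
  rcases small c cs with e | e | e | e
  · exact (k _ e (mul_one _) (by rw [map_one, mul_one, one_mul])).elim (fun e => ⟨_, .inl rfl, e⟩)
      fun e => ⟨_, .inr (.inl (mul_one _)), e⟩
  · rw [e] at s0; exact absurd s0 (by decide)
  · exact (k _ e (swap_mul_self ..) h2).elim (fun e => ⟨_, .inr (.inr (.inl rfl)), e⟩)
      fun e => ⟨_, .inr (.inr (.inr rfl)), e⟩
  · rw [e] at s0; exact absurd s0 (by decide)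

theorem pg_closure {H : Type*} [Group H] {S : Set H} (hc : ∀ a ∈ S, ∀ b ∈ S, a * b = b * a)
    (h4 : ∀ a ∈ S, a ^ 4 = 1) : IsPGroup 2 (closure S) := fun ⟨x, hx⟩ => ⟨2, Subtype.ext <| by
  have := isMulCommutative_closure hc
  change x ^ 4 = 1
  induction hx using closure_induction with
  | mem a ha => exact h4 a ha
  | one => exact one_pow _
  | mul a b ha hb ia ib =>
    rw [(show Commute a b from setLike_mul_comm ha hb).mul_pow, ia, ib, one_mul]
  | inv a _ ia => rw [inv_pow, ia, inv_one]⟩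

/-- The elements permuting a pair. -/
def pr {H : Type*} [Group H] (s u : H) : Subgroup H where
  carrier := {x | (x * s * x⁻¹ = s ∧ x * u * x⁻¹ = u) ∨ (x * s * x⁻¹ = u ∧ x * u * x⁻¹ = s)}
  one_mem' := .inl ⟨by simp, by simp⟩
  mul_mem' := fun {a b} ha hb => by
    have e : ∀ v, a * b * v * (a * b)⁻¹ = a * (b * v * b⁻¹) * a⁻¹ := fun v => by group
    simp only [Set.mem_ofPred_eq, e] at ha hb ⊢
    rcases hb with ⟨k, k'⟩ | ⟨k, k'⟩ <;> rw [k, k'] <;> tauto
  inv_mem' := fun {a} ha => by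
    have e : ∀ {v w}, a * v * a⁻¹ = w → a⁻¹ * w * a⁻¹⁻¹ = v := fun k => by rw [← k]; group
    exact ha.imp (fun k => ⟨e k.1, e k.2⟩) fun k => ⟨e k.2, e k.1⟩

theorem rho (h1 : r * swap 0 1 * r⁻¹ = swap 2 3) (h2 : r * r = dt 0 1 2 3) :
    ∃ π c : Perm (Fin 12), Fx 0 1 2 3 π ∧ (c = c4 0 1 2 3 ∨ c = (c4 0 1 2 3)⁻¹) ∧ r = c * π ∧ π * π = 1 := by
  have k : ∀ c : Perm (Fin 12), (c = c4 0 1 2 3 ∨ c = (c4 0 1 2 3)⁻¹) → r 0 = c 0 → r 1 = c 1 →
      ∃ π c : Perm (Fin 12), Fx 0 1 2 3 π ∧ (c = c4 0 1 2 3 ∨ c = (c4 0 1 2 3)⁻¹) ∧ r = c * π ∧ π * π = 1 := by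
    intro c hc e0 e1
    have a0 : r (c 0) = 1 := by rw [← e0, ← Perm.mul_apply, h2]; decide
    have a1 : r (c 1) = 0 := by rw [← e1, ← Perm.mul_apply, h2]; decide
    have f : Fx 0 1 2 3 (c⁻¹ * r) := by
      refine ⟨Perm.inv_eq_iff_eq.2 e0, Perm.inv_eq_iff_eq.2 e1, Perm.inv_eq_iff_eq.2 ?_, Perm.inv_eq_iff_eq.2 ?_⟩
      · rcases hc with rfl | rfl
        exacts [a0, a1]
      · rcases hc with rfl | rfl
        exacts [a1, a0]
    have c1 : c⁻¹ * r * c = c * (c⁻¹ * r) := comm_of f (by rcases hc with rfl | rfl <;> decide)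
    have c2 : c * c = r * r := by rw [h2]; rcases hc with rfl | rfl <;> decide
    refine ⟨_, c, f, hc, (mul_inv_cancel_left ..).symm, ?_⟩
    have c3 : r * c = c * r := by
      rw [mul_inv_cancel_left, mul_assoc, inv_mul_eq_iff_eq_mul] at c1; exact c1
    calc _ = c⁻¹ * c⁻¹ * (c * r) * c⁻¹ * r := by group
      _ = (c * c)⁻¹ * (r * r) := by rw [← c3]; group
      _ = 1 := by rw [c2, inv_mul_cancel]
  rw [← swap_apply_apply] at h1
  have e : swap (2 : Fin 12) 3 (r 0) = r 1 := by rw [← h1, swap_apply_left]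
  by_cases e2 : r 0 = 2
  · exact k _ (.inl rfl) e2 (by rw [← e, e2]; decide)
  by_cases e3 : r 0 = 3
  · exact k _ (.inr rfl) e3 (by rw [← e, e3]; decide)
  · rw [swap_apply_of_ne_of_ne e2 e3] at e
    exact absurd (r.injective e) (by decide)

/-- An 8-cycle with fourth power `z8`. -/
def w8 : Perm (Fin 12) := swap 4 11 * swap 4 9 * swap 4 7 * swap 4 5 * swap 4 10 * swap 4 8 * swap 4 6

theorem centre (h : Fx 0 1 2 3 a) (h1 : a * w8 = w8 * a) (h2 : a * swap 4 5 = swap 4 5 * a) : a = 1 ∨ a = z8 := by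
  have k : ∀ a : Perm (Fin 12), Fx 0 1 2 3 a → a * w8 = w8 * a → a 4 = 4 → a = 1 := fun a h h1 e4 => by
    have s : ∀ z z', w8 z = z' → a z = z → a z' = z' := fun z z' e hz => by
      rw [← e, ← Perm.mul_apply, h1, Perm.mul_apply, hz]
    have e6 := s 4 6 (by decide) e4
    have e8 := s 6 8 (by decide) e6
    have e10 := s 8 10 (by decide) e8
    have e5 := s 10 5 (by decide) e10
    have e7 := s 5 7 (by decide) e5
    have e9 := s 7 9 (by decide) e7
    have e11 := s 9 11 (by decide) e9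
    ext z
    fin_cases z
    exacts [congrArg _ h.a, congrArg _ h.b, congrArg _ h.c, congrArg _ h.d, congrArg _ e4, congrArg _ e5,
      congrArg _ e6, congrArg _ e7, congrArg _ e8, congrArg _ e9, congrArg _ e10, congrArg _ e11]
  have e : a 5 = swap 4 5 (a 4) := by rw [← Perm.mul_apply, ← h2]; rfl
  by_cases e4 : a 4 = 4
  · exact .inl (k a h h1 e4)
  by_cases e5 : a 4 = 5
  · refine .inr (mul_inv_eq_one.1 (k _ ⟨h.a, h.b, h.c, h.d⟩ ?_ ?_))
    · rw [mul_assoc, show z8⁻¹ * w8 = w8 * z8⁻¹ by decide, ← mul_assoc, h1, mul_assoc]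
    · rw [e5] at e; exact e
  · rw [swap_apply_of_ne_of_ne e4 e5] at e
    exact absurd (a.injective e) (by decide)

theorem card_pts : Fintype.card {x : Fin 12 // x ∈ Rs} = 8 := by decide

/-- An injective image of the centralizer of `z8` in the centralizer of an involution. -/
theorem inj_cent {z π : Γ} (hz : ex z = z8) (F : C1 z →* Γ) (hF : ∀ r : C1 z, r * r = 1 → F r = 1 → r = 1)
    (hπ : π * π = 1) (hc : ∀ r, F r * π = π * F r) : π = 1 ∨ (Tp π 4 ∧ F ⟨z, mem_C1.2 rfl⟩ = π) := by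
  have tz : Tp z 4 := Tp.ofSubtype.1 (show Tp (ex z) 4 by rw [hz]; exact ⟨by decide, by decide⟩)
  have inj : Function.Injective F := by
    have : F.ker.map (C1 z).subtype = ⊥ := by
      refine odd_norm tz (by norm_num) (by rw [card_pts]; norm_num) ?_ (map_subtype_le _)
        (inf_le_left.trans (by
          have := le_normalizer_map (H := F.ker) (C1 z).subtype
          rwa [normalizer_eq_top, ← MonoidHom.range_eq_map, range_subtype] at this))
      rw [card_map_of_injective (C1 z).subtype_injective]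
      by_contra k
      obtain ⟨r, hr⟩ := exists_prime_orderOf_dvd_card' 2 (Nat.not_odd_iff_even.1 k).two_dvd
      have := hF r (by rw [← pow_two, ← hr, ← coe_pow, pow_orderOf_eq_one]; rfl) r.2
      rw [show r = 1 from Subtype.ext this, orderOf_one] at hr
      exact absurd hr (by decide)
    exact (MonoidHom.ker_eq_bot_iff _).1 ((map_eq_bot_iff_of_injective _ (C1 z).subtype_injective).1 this)
  have le : F.range ≤ C1 π := by rintro _ ⟨r, rfl⟩; exact mem_C1.2 (hc r)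
  have cF : Nat.card F.range = 384 := by
    rw [← Nat.card_congr (MonoidHom.ofInjective inj).toEquiv, tz.card_cent, card_pts]; rfl
  obtain ⟨k, hk⟩ := tp_exists hπ
  have d := card_dvd_of_le le
  have l := hk.le
  rw [cF, hk.card_cent, card_pts] at d
  rw [card_pts] at l
  obtain rfl | rfl : k = 0 ∨ k = 4 := by
    have : k ≤ 4 := by omega
    interval_cases k <;> simp_all [Nat.factorial]
  · exact .inl (tp_zero.1 hk)
  have e : F.range = C1 π := eq_of_le_of_card_ge le (by rw [cF, hk.card_cent, card_pts]; rfl)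
  obtain ⟨t, rfl⟩ : π ∈ F.range := e ▸ mem_C1.2 rfl
  have ct : ∀ a : Perm (Fin 12), Fx 0 1 2 3 a → a * z8 = z8 * a → ex t * a = a * ex t := fun a fa ca => by
    obtain ⟨r, rfl⟩ := exists_ex fa
    have m : r ∈ C1 z := mem_C1.2 (Perm.ofSubtype_injective (by
      rw [map_mul, map_mul, show Perm.ofSubtype z = z8 from hz]; exact ca))
    have := congrArg Subtype.val (inj (by rw [map_mul, map_mul]; exact hc ⟨r, m⟩ : F (⟨r, m⟩ * t) = F (t * ⟨r, m⟩)))
    rw [← map_mul, ← map_mul]; exact congrArg _ this.symm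
  rcases centre (fx_ex t) (ct w8 ⟨rfl, rfl, rfl, rfl⟩ (by decide)) (ct _ ⟨rfl, rfl, rfl, rfl⟩ (by decide)) with k | k
  · rw [show t = 1 from Subtype.ext (Perm.ofSubtype_injective (k.trans (map_one _).symm)), map_one]
    exact .inl rfl
  · exact .inr ⟨hk, congrArg F (Subtype.ext (Perm.ofSubtype_injective (hz.trans k.symm)))⟩

end HPi

open HPi in
theorem Hs.pi {ψ : Perm (Fin 12) →* G} (h : Hs ψ) (h5 : Ty ψ 5)
    (hw : Sw (Fin 10) (ψ (swap 0 1 * z8)) (ψ (swap 2 3 * z8))) :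
    ∃ (g : G) (π c : Perm (Fin 12)), g * ψ (swap 0 1) * g⁻¹ = ψ (swap 0 1 * z8) ∧
      g * ψ (swap 2 3) * g⁻¹ = ψ (swap 2 3 * z8) ∧ ψ (swap 10 11) ∈ cj(g, ψ.range) ∧
      Fx 0 1 2 3 π ∧ (c = c4 0 1 2 3 ∨ c = (c4 0 1 2 3)⁻¹) ∧
      ψ (c4 0 1 2 3) = g * ψ (c * π) * g⁻¹ ∧
      (π = 1 ∨ (Tp π 4 ∧ (ψ z8 = g * ψ π * g⁻¹ ∨ ψ z8 = g * ψ (dt 0 1 2 3 * π) * g⁻¹))) := by
  have hs : IsConj (ψ (swap 0 1)) (ψ (swap 0 1 * z8)) := h5.all (by decide) ⟨by decide, by decide⟩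
  have hP : IsPGroup 2 (closure ({c4 0 1 2 3, swap 10 11, z8} : Set (Perm (Fin 12)))) :=
    pg_closure (by simp only [Set.mem_insert_iff, Set.mem_singleton_iff, forall_eq_or_imp, forall_eq]; decide)
      (by simp only [Set.mem_insert_iff, Set.mem_singleton_iff, forall_eq_or_imp, forall_eq]; decide)
  have hpr : closure ({c4 0 1 2 3, swap 10 11, z8} : Set (Perm (Fin 12))) ≤ pr (swap 0 1 * z8) (swap 2 3 * z8) := by
    rw [closure_le]
    rintro _ (rfl | rfl | rfl)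
    exacts [.inr (by decide), .inl (by decide), .inl (by decide)]
  obtain ⟨g, g1, g2, hg⟩ := h.into2 (α := Fin 10) rfl d4 hs hw (hP.map ψ) (by
    rintro _ ⟨r, hr, rfl⟩
    simp only [← map_inv, ← map_mul]
    exact (hpr hr).imp (fun k => ⟨congrArg ψ k.1, congrArg ψ k.2⟩) fun k => ⟨congrArg ψ k.1, congrArg ψ k.2⟩)
  have h' := h.toC g
  have ty := fun k => Hs.odd (k := k) h'
  have e : ∀ r, ((MulAut.conj g).toMonoidHom.comp ψ) r = g * ψ r * g⁻¹ := fun _ => rfl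
  generalize (MulAut.conj g).toMonoidHom.comp ψ = χ at h' ty e
  have m : ∀ r ∈ ({c4 0 1 2 3, swap 10 11, z8} : Set (Perm (Fin 12))), ψ r ∈ cj(g, ψ.range) := fun r hr =>
    hg (mem_map_of_mem _ (subset_closure hr))
  have m' : ∀ r ∈ ({c4 0 1 2 3, swap 10 11, z8} : Set (Perm (Fin 12))), ∃ ρ, ψ r = χ ρ := fun r hr => by
    obtain ⟨_, ⟨ρ, rfl⟩, k⟩ := m r hr
    exact ⟨ρ, by rw [e]; exact k.symm⟩
  obtain ⟨ρ, hρ⟩ := m' _ (.inl rfl)
  obtain ⟨ζ, hζ⟩ := m' _ (.inr (.inr rfl))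
  rw [← e] at g1 g2
  obtain ⟨π, c, fπ, hc, rfl, π2⟩ := rho (r := ρ) (h'.inj (by
    rw [map_mul, map_mul, map_inv, ← hρ, g1, g2, ← map_inv, ← map_mul, ← map_mul]; exact congrArg ψ (by decide)))
    (h'.inj (by rw [map_mul, ← hρ, dt, map_mul, g1, g2, ← map_mul, ← map_mul]; exact congrArg ψ (by decide)))
  refine ⟨g, π, c, e _ ▸ g1, e _ ▸ g2, m _ (.inr (.inl rfl)), fπ, hc, e _ ▸ hρ, ?_⟩
  have aφ : Ac χ (ψ (c4 0 1 2 3)) π := hρ ▸ ac_mul (by rcases hc with rfl | rfl <;> decide) fπ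
  obtain ⟨z, hz⟩ := exists_ex (a := z8) ⟨rfl, rfl, rfl, rfl⟩
  obtain ⟨π, rfl⟩ := exists_ex fπ
  have cz : ∀ r : C1 z, ex r * z8 = z8 * ex r := fun r => by rw [← hz, ← map_mul, ← map_mul, mem_C1.1 r.2]
  have c1 : ∀ r : C1 z, ψ (ex r) * χ (swap 0 1) = χ (swap 0 1) * ψ (ex r) := fun r => by
    rw [g1, ← map_mul, ← map_mul, ← mul_assoc, (fx_swap (fx_ex r)).1, mul_assoc, cz, mul_assoc]
  have c2 : ∀ r : C1 z, ψ (ex r) * χ (swap 2 3) = χ (swap 2 3) * ψ (ex r) := fun r => by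
    rw [g2, ← map_mul, ← map_mul, ← mul_assoc, (fx_swap (fx_ex r)).2, mul_assoc, cz, mul_assoc]
  have exF : ∀ r : C1 z, ∃ s : Γ, Ac χ (ψ (ex r)) (ex s) := fun r => by
    obtain ⟨s, fs, hs⟩ := h'.pair_nrm d4 (.inl ⟨mul_inv_eq_iff_eq_mul.2 (c1 r), mul_inv_eq_iff_eq_mul.2 (c2 r)⟩)
    obtain ⟨s, rfl⟩ := exists_ex fs
    exact ⟨s, hs⟩
  choose F0 hF using exF
  let F : C1 z →* Γ := MonoidHom.mk' F0 fun a b => Perm.ofSubtype_injective
    ((hF (a * b)).uniq h'.inj (by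
      rw [coe_mul, map_mul, map_mul, map_mul]; exact (hF a).mul (hF b) (fx_ex _)) (fx_ex _) (fx_ex _))
  refine (inj_cent hz F (π := π) (fun r r2 r1 => ?_) (Perm.ofSubtype_injective ?_) fun r => ?_).imp
    (fun k => by rw [k, map_one]) fun ⟨k, k'⟩ => ⟨Tp.ofSubtype.2 k, ?_⟩
  · obtain ⟨η, hη, k⟩ := ker2 h' (x := ψ (ex r)) (by rw [← map_mul, ← map_mul, ← coe_mul, r2]; simp) (c1 r) (c2 r)
      (by have := hF r; rwa [show F0 r = 1 from r1, map_one] at this)
    have f := fx_ex r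
    rcases hη with rfl | rfl | rfl | rfl
    · exact Subtype.ext (Perm.ofSubtype_injective ((h.inj (by rw [k, map_one, map_one])).trans (map_one _).symm))
    · rw [g1] at k
      exact absurd (h.inj k ▸ f).a (by decide)
    · rw [g2] at k
      exact absurd (h.inj k ▸ f).c (by decide)
    · rw [dt, map_mul, g1, g2, ← map_mul] at k
      exact absurd (h.inj k ▸ f).a (by decide)
  · rw [map_mul, map_one]; exact π2
  · refine Perm.ofSubtype_injective ?_
    rw [map_mul, map_mul]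
    have f := fun a b : Γ => map_mul ex a b ▸ fx_ex (a * b)
    refine ((hF r).mul aφ fπ).uniq h'.inj ?_ (f _ _) (f _ _)
    rw [← map_mul, comm_of (fx_ex r) (b := c4 0 1 2 3) (by decide), map_mul]
    exact aφ.mul (hF r) (fx_ex _)
  · have a := hF ⟨z, mem_C1.2 rfl⟩
    have z1 := c1 ⟨z, mem_C1.2 rfl⟩
    rw [show F0 ⟨z, mem_C1.2 rfl⟩ = π from k'] at a
    simp only [hz] at a z1
    rw [hζ] at a z1
    rw [← map_mul, ← map_mul] at z1
    have v := small ((ac_self ζ).cen h'.inj a) (by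
      rw [mul_assoc, h'.inj z1, ← mul_assoc, ← mul_assoc, ((show Commute _ _ from (fx_swap fπ).1).inv_left).eq])
    have u1 : χ (swap 0 1 * ζ) = ψ (swap 0 1) := by
      rw [map_mul, g1, ← hζ, ← map_mul]; exact congrArg ψ (by decide)
    obtain ⟨j, hj⟩ := tp_exists (p := swap 0 1 * ζ) (h'.inj (by rw [map_mul, u1, ← map_mul, swap_mul_self]; simp))
    have oj := ty j ⟨_, 0, 1, by decide, hj, by rw [u1, g1]; exact hs.symm⟩
    have sζ : Perm.sign ((ex π)⁻¹ * ζ) = 1 := by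
      have s1 : Perm.sign (swap 0 1 * ζ) ≠ 1 := fun k =>
        Nat.not_even_iff_odd.2 oj (hj.even_iff.1 (Perm.mem_alternatingGroup.2 k))
      have s2 : Perm.sign (ex π) = 1 := Perm.mem_alternatingGroup.1 ((Tp.ofSubtype.2 k).even_iff.2 (by decide))
      rw [map_mul, Perm.sign_swap (by decide)] at s1
      rw [map_mul, map_inv, s2, inv_one, one_mul]
      rcases Int.units_eq_one_or (Perm.sign ζ) with k | k
      · exact k
      · rw [k] at s1; exact absurd (by decide) s1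
    rw [← e, ← e, hζ]
    rcases v with v | v | v | v
    · exact .inl (congrArg χ (inv_mul_eq_one.1 v).symm)
    · rw [v] at sζ; exact absurd sζ (by decide)
    · rw [v] at sζ; exact absurd sζ (by decide)
    · exact .inr (congrArg χ ((inv_mul_eq_iff_eq_mul.1 v).trans (comm_of fπ (by decide))))

end Cfsg.Agent.SAq
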