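import Mathlib
import Cfsg.Agent.SAq.Bas
import Cfsg.Agent.Sym.Hall
import Cfsg.Agent.Perm.JordanSet
import Cfsg.Agent.Perm.Jordan

/-! Factorizations of an alternating group by two groups of odd index. -/

set_option autoImplicit false
set_option linter.unusedSectionVars false

namespace Cfsg.Agent.SAq

open Cfsg Cfsg.Agent.GT Cfsg.Agent.Loc.Mss Cfsg.Agent.Sym Cfsg.Agent.Loc.SO Cfsg.Agent.SAn Subgroup Equiv

variable {α : Type} [Fintype α] [DecidableEq α] {X Y T U : Subgroup (Perm α)}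

namespace WrP

open MulAction
open scoped Pointwise

theorem v4_trans : ∀ i j : Fin 4, ∃ ν, P0.v4 ν ∧ ν i = j := by decide +kernel

theorem prim (h9 : 9 ≤ Fintype.card α) (hT : Syl 2 T (alternatingGroup α)) (hX : T ≤ X)
    (hp : IsPreprimitive X α) : alternatingGroup α ≤ X := by
  have : Fact (Nat.Prime 2) := ⟨Nat.prime_two⟩
  obtain ⟨a, b, c, d, h⟩ : ∃ a b c d : α, D4 a b c d := by
    obtain ⟨e⟩ : Nonempty (Fin 4 ↪ α) :=
      Function.Embedding.nonempty_of_card_le (by rw [Fintype.card_fin]; omega)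
    exact ⟨e 0, e 1, e 2, e 3, e.injective.ne (by decide), e.injective.ne (by decide),
      e.injective.ne (by decide), e.injective.ne (by decide), e.injective.ne (by decide),
      e.injective.ne (by decide)⟩
  obtain ⟨g, -, hg⟩ := hT.conj_le (P := V4 a b c d) (IsPGroup.of_card (n := 2) h.k4.1) h.V4_le_alt
  rw [V4_conj] at hg
  have h' : D4 (g a) (g b) (g c) (g d) := ⟨g.injective.ne h.ab, g.injective.ne h.ac,
    g.injective.ne h.ad, g.injective.ne h.bc, g.injective.ne h.bd, g.injective.ne h.cd⟩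
  have hc : ({g a, g b, g c, g d} : Finset α).card = 4 := by
    rw [← P0.supp h', ← Perm.sum_cycleType, P0.ctype h']; rfl
  have hc' : (({g a, g b, g c, g d} : Finset α)ᶜ).card = Fintype.card α - 4 := by
    rw [Finset.card_compl, hc]
  refine Perm.IsJC.alt_le (Δ := ({g a, g b, g c, g d} : Finset α)ᶜ) ?_ hp (by omega) (by omega)
  intro u hu v hv
  rw [Finset.mem_compl, not_not, P0.mem_iff h'] at hu hv
  obtain ⟨i, rfl⟩ := hu
  obtain ⟨j, rfl⟩ := hv
  obtain ⟨ν, h1, h2⟩ := v4_trans i j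
  refine ⟨⟨P0.Φ h' ν, hX (hg ((P0.Φ_mem h').2 h1))⟩, fun x hx => ?_, ?_⟩
  · exact P0.Φ_out h' ν (P0.out_iff.2 (Finset.mem_compl.1 hx))
  · exact (P0.Φ_e h' ν i).trans (by rw [h2])

theorem homog_alt {k : ℕ} (hk : k + 2 ≤ Fintype.card α) : Perm.Homog (alternatingGroup α) α k := by
  have := alternatingGroup.isMultiplyPretransitive α
  refine Perm.homog_of_multiply (isMultiplyPretransitive_of_le (n := Nat.card α - 2) ?_ (by omega))
  rw [Nat.card_eq_fintype_card]; omega

theorem choose_odd (hT : Syl 2 T (alternatingGroup α)) {s : Finset α} (hs : ∀ x ∈ T, x • s = s)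
    (hk : s.card + 2 ≤ Fintype.card α) : ¬ 2 ∣ (Fintype.card α).choose s.card := fun h => by
  have h1 := (homog_alt hk).card_eq s rfl
  rw [← (stabilizer (alternatingGroup α) s).index_mul_card] at h1
  rw [Nat.eq_of_mul_eq_mul_right Nat.card_pos h1] at h
  exact hT.nd (h.trans (index_dvd_of_le fun x hx => hs x hx))

/-- The permutations sending each point to itself or to its partner. -/
def E (τ : Perm α) (h : ∀ x, τ (τ x) = x) : Subgroup (Perm α) where
  carrier := {σ | ∀ x, σ x = x ∨ σ x = τ x}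
  one_mem' := fun _ => Or.inl rfl
  mul_mem' := fun {σ ρ} hσ hρ x => by
    rw [Perm.mul_apply]
    rcases hρ x with e | e <;> rw [e]
    · exact hσ x
    · exact (hσ (τ x)).symm.imp_left fun k => k.trans (h x)
  inv_mem' := fun {σ} hσ x => (hσ (σ⁻¹ x)).imp (fun e => by simpa using e.symm) fun e => by
    rw [← h (σ⁻¹ x), ← e]; simp

theorem E_sq {τ σ : Perm α} {h : ∀ x, τ (τ x) = x} (hσ : σ ∈ E τ h) : σ ^ 2 = 1 := by
  ext x
  rw [pow_two, Perm.mul_apply, Perm.one_apply]
  rcases hσ x with e | e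
  · rw [e, e]
  · rcases hσ (σ x) with e' | e'
    · rw [e', σ.injective e']
    · rw [e', e, h]

theorem swap_mem {τ : Perm α} (h : ∀ x, τ (τ x) = x) (x : α) : swap x (τ x) ∈ E τ h := fun z => by
  rw [swap_apply_def]
  split_ifs with h1 h2
  · exact Or.inr (by rw [h1])
  · exact Or.inr (by rw [h2, h])
  · exact Or.inl rfl

theorem pairs (hT : Syl 2 T (alternatingGroup α)) :
    ∃ τ : Perm α, (∀ x, τ (τ x) = x) ∧ τ.support.card = 2 * (Fintype.card α / 2) ∧
      ∀ x y, τ x ≠ x → τ y ≠ y → swap x (τ x) * swap y (τ y) ∈ T := by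
  have : Fact (Nat.Prime 2) := ⟨Nat.prime_two⟩
  obtain ⟨τ, hτ⟩ := (Perm.exists_with_cycleType_iff α
    (m := Multiset.replicate (Fintype.card α / 2) 2)).2
    ⟨by rw [Multiset.sum_replicate, smul_eq_mul]; omega, fun a ha => (Multiset.eq_of_mem_replicate ha).ge⟩
  have h2 : τ ^ 2 = 1 := Perm.pow_prime_eq_one_iff.2 fun c hc => Multiset.eq_of_mem_replicate (hτ ▸ hc)
  have h : ∀ x, τ (τ x) = x := fun x => by rw [← Perm.mul_apply, ← pow_two, h2, Perm.one_apply]
  obtain ⟨g, -, hg⟩ := hT.conj_le (P := E τ h ⊓ alternatingGroup α)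
    (fun σ => ⟨1, Subtype.ext (E_sq σ.2.1)⟩) inf_le_right
  refine ⟨g * τ * g⁻¹, fun x => by simp [h], ?_, fun x y hx hy => ?_⟩
  · rw [Perm.card_support_conj, ← Perm.sum_cycleType, hτ, Multiset.sum_replicate, smul_eq_mul, mul_comm]
  · refine hg ⟨swap (g⁻¹ x) (τ (g⁻¹ x)) * swap (g⁻¹ y) (τ (g⁻¹ y)),
      ⟨mul_mem (swap_mem h _) (swap_mem h _), Perm.mul_mem_alternatingGroup_of_isSwap
        ⟨_, _, fun e => hx ?_, rfl⟩ ⟨_, _, fun e => hy ?_, rfl⟩⟩, ?_⟩
    · rw [Perm.mul_apply, Perm.mul_apply, ← e]; simp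
    · rw [Perm.mul_apply, Perm.mul_apply, ← e]; simp
    · change g * _ * g⁻¹ = _
      rw [← conj_mul, ← swap_apply_apply, ← swap_apply_apply]
      simp

theorem odd_prim (h7 : 7 ≤ Fintype.card α) (ho : ¬ 2 ∣ Fintype.card α) (hT : Syl 2 T (alternatingGroup α))
    (hX : T ≤ X) [IsPretransitive X α] : IsPreprimitive X α := by
  have : Nontrivial α := Fintype.one_lt_card_iff_nontrivial.1 (by omega)
  by_contra hp
  obtain ⟨a, b, f, ha, hb, hf, hle⟩ := exists_partStab_of_not_isPreprimitive hp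
  obtain ⟨τ, h, hs, hτ⟩ := pairs hT
  have key : ∀ x, f (τ x) = f x := fun x => by
    by_contra hx
    have hx' : τ x ≠ x := fun e => hx (by rw [e])
    have : Nontrivial {y // f y = f x} := Finite.one_lt_card_iff_nontrivial.1 (by rw [hf]; omega)
    obtain ⟨⟨z, hz⟩, hzx⟩ := exists_ne (⟨x, rfl⟩ : {y // f y = f x})
    have hzx : z ≠ x := fun e => hzx (Subtype.ext e)
    obtain ⟨y, hy, hy'⟩ := Finset.exists_mem_notMem_of_card_lt_card
      (s := {x, τ x, z, τ z}) (t := τ.support) (Finset.card_le_four.trans_lt (by omega))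
    simp only [Finset.mem_insert, Finset.mem_singleton, not_or] at hy'
    have := (hle (hX (hτ x y hx' (Perm.mem_support.1 hy))) x z).1 hz.symm
    rw [Perm.mul_apply, Perm.mul_apply, swap_apply_of_ne_of_ne (Ne.symm hy'.1)
      (fun e => hy'.2.1 (by rw [e, h])), swap_apply_left, swap_apply_of_ne_of_ne (Ne.symm hy'.2.2.1)
      (fun e => hy'.2.2.2 (by rw [e, h])), swap_apply_of_ne_of_ne hzx
      (fun e => hx (by rw [← e, hz]))] at this
    exact hx (this.trans hz)
  obtain ⟨x0, hx0⟩ := Finset.card_eq_one.1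
    (show (τ.supportᶜ).card = 1 by rw [Finset.card_compl]; omega)
  have : Nontrivial (Fin b) := Fin.nontrivial_iff_two_le.2 hb
  obtain ⟨i, hi⟩ := exists_ne (f x0)
  obtain ⟨e, -⟩ := exists_equiv_prod_of_card_fiber hf
  have hn : Fintype.card α = b * a := by simpa using Fintype.card_congr e
  refine ho (hn ▸ Dvd.dvd.mul_left ?_ b)
  have h0 : ∑ _x : {x // f x = i}, (1 : ZMod 2) = 0 :=
    Finset.sum_ninvolution (fun x => ⟨τ x, (key x).trans x.2⟩) (fun _ => rfl) (fun x _ e => by
      have : x.1 ∈ τ.supportᶜ := by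
        rw [Finset.mem_compl, Perm.notMem_support]; exact congrArg Subtype.val e
      rw [hx0, Finset.mem_singleton] at this
      exact hi (by rw [← this, x.2])) (fun _ => Finset.mem_univ _) fun x => Subtype.ext (h x)
  rw [Finset.sum_const, Finset.card_univ, ← Nat.card_eq_fintype_card, hf, nsmul_one] at h0
  exact (ZMod.natCast_eq_zero_iff a 2).1 h0

theorem intrans (h8 : 8 ≤ Fintype.card α) (hT : Syl 2 T (alternatingGroup α))
    (hU : Syl 2 U (alternatingGroup α)) (hX : T ≤ X) (hY : U ≤ Y)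
    (h : ∀ p ∈ alternatingGroup α, ∃ y ∈ Y, ∃ x ∈ X, p = y * x) (hn : ¬ IsPretransitive X α) :
    alternatingGroup α ≤ Y := by
  obtain ⟨f, hf, h1, h2⟩ := exists_bool_of_not_isPretransitive hn
  set s : Finset α := Finset.univ.filter (f · = true) with hs
  have c1 : Nat.card {x // f x = true} = s.card := by
    rw [Nat.card_eq_fintype_card, Fintype.card_subtype]
  have c2 : s.card + Nat.card {x // f x = false} = Fintype.card α := by
    rw [Nat.card_eq_fintype_card, Fintype.card_subtype, ← Finset.card_univ,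
      ← Finset.card_filter_add_card_filter_not (s := Finset.univ) (f · = true)]
    simp [hs]
  have hinv : ∀ x ∈ X, x • s = s := fun x hx => by
    ext y
    rw [← Finset.inv_smul_mem_iff]
    simp only [hs, Finset.mem_filter, Finset.mem_univ, true_and]
    rw [← hf hx (x⁻¹ • y)]
    simp
  have hodd := choose_odd hT (fun x hx => hinv x (hX hx)) (by omega)
  have hY' : Perm.Homog Y α s.card := by
    have key : ∀ t : Finset α, t.card = s.card → ∃ y : Y, y • s = t := fun t ht => by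
      obtain ⟨p, hp⟩ := homog_alt (α := α) (k := s.card) (by omega) s t rfl ht
      obtain ⟨y, hy, x, hx, e⟩ := h p p.2
      refine ⟨⟨y, hy⟩, ?_⟩
      rw [← hp]
      change y • s = (p : Perm α) • s
      rw [e, mul_smul, hinv x hx]
    intro t t' ht ht'
    obtain ⟨y, rfl⟩ := key t ht
    obtain ⟨y', rfl⟩ := key t' ht'
    exact ⟨y' * y⁻¹, by rw [mul_smul, inv_smul_smul]⟩
  have h9 : 9 ≤ Fintype.card α := by
    by_contra h9
    have e : Fintype.card α = 8 := by omega
    have : s.card ≤ 4 := by omega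
    have : 1 ≤ s.card := by omega
    rw [e] at hodd
    generalize s.card = k at *
    interval_cases k <;> exact hodd (by decide)
  refine prim h9 hU hY ?_
  by_cases hk : s.card = 1
  · rw [hk, Nat.choose_one_right] at hodd
    have := Perm.homog_one_iff.1 (hk ▸ hY')
    exact odd_prim (by omega) hodd hU hY
  · exact (hY'.of_le (j := 2) (by omega) (by omega)).isPreprimitive (by omega)

theorem card_dvd {G : Type*} [Group G] [Finite G] {X Y H : Subgroup G} (hX : X ≤ H)
    (h : ∀ p ∈ H, ∃ x ∈ X, ∃ y ∈ Y, p = x * y) : Nat.card H ∣ Nat.card X * Nat.card Y := by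
  have key : ∀ K : Subgroup G, Y.relIndex K = (orbit K ((1 : G) : G ⧸ Y)).ncard := fun K => by
    rw [← index_stabilizer, relIndex]
    congr 1
    ext k
    rw [mem_subgroupOf, mem_stabilizer_iff]
    change _ ↔ (((k : G) * 1 : G) : G ⧸ Y) = _
    rw [eq_comm, QuotientGroup.eq]; simp
  have e : Y.relIndex H = Y.relIndex X := by
    rw [key, key]
    congr 1
    refine Set.Subset.antisymm ?_ ?_
    · rintro _ ⟨p, rfl⟩
      obtain ⟨x, hx, y, hy, e⟩ := h p p.2
      refine ⟨⟨x, hx⟩, ?_⟩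
      change ((x * 1 : G) : G ⧸ Y) = (((p : G) * 1 : G) : G ⧸ Y)
      rw [QuotientGroup.eq, e]; simpa using hy
    · rintro _ ⟨x, rfl⟩
      exact ⟨⟨x, hX x.2⟩, rfl⟩
  rw [← (Y.subgroupOf H).index_mul_card]
  refine mul_dvd_mul ?_ ?_
  · change Y.relIndex H ∣ _
    rw [e]; exact index_dvd_card _
  · rw [← inf_subgroupOf_right, Nat.card_congr (subgroupOfEquivOfLe inf_le_right).toEquiv]
    exact card_dvd_of_le inf_le_left

theorem of_dvd (h8 : 8 ≤ Fintype.card α) (hT : Syl 2 T (alternatingGroup α)) (hX : T ≤ X)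
    [IsPretransitive X α] {p : ℕ} (hp : p.Prime) (h1 : Fintype.card α < 2 * p)
    (h2 : Fintype.card α = 8 → p = 5) (hd : p ∣ Nat.card X) : alternatingGroup α ≤ X := by
  have : Nontrivial α := Fintype.one_lt_card_iff_nontrivial.1 (by omega)
  have := Fact.mk hp
  have hpr : IsPreprimitive X α := by
    by_contra hn
    obtain ⟨a, b, f, ha, hb, hf, hle⟩ := exists_partStab_of_not_isPreprimitive hn
    obtain ⟨e, he⟩ := exists_equiv_prod_of_card_fiber hf
    have hn : Fintype.card α = b * a := by simpa using Fintype.card_congr e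
    have hs : Function.Surjective f := fun i => ⟨e.symm (i, ⟨0, by omega⟩), by rw [← he]; simp⟩
    have := (hd.trans (card_dvd_of_le hle)).trans (card_partStab_dvd hs)
    simp only [hf, Finset.prod_const, Fintype.card_fin] at this
    rcases (Nat.Prime.dvd_mul hp).1 this with k | k
    · have := hp.dvd_factorial.1 (hp.dvd_of_dvd_pow k)
      nlinarith
    · have := hp.dvd_factorial.1 k
      nlinarith
  by_cases h9 : 9 ≤ Fintype.card α
  · exact prim h9 hT hX hpr
  obtain ⟨g, hg⟩ := exists_prime_orderOf_dvd_card' (G := X) p hd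
  rw [← orderOf_coe] at hg
  have hc : (g : Perm α).IsCycle := Perm.isCycle_of_prime_order' (hg ▸ hp) (hg ▸ h1)
  exact Perm.alt_le_of_prime_cycle hpr hp (by omega) hc (hc.orderOf ▸ hg) g.2

end WrP

theorem fac_alt (h8 : 8 ≤ Fintype.card α) (hT : Syl 2 T (alternatingGroup α)) (hU : Syl 2 U (alternatingGroup α))
    (hX : T ≤ X) (hY : U ≤ Y) (h : ∀ p ∈ alternatingGroup α, ∃ x ∈ X, ∃ y ∈ Y, p = x * y) :
    alternatingGroup α ≤ X ∨ alternatingGroup α ≤ Y := by
  have h' : ∀ p ∈ alternatingGroup α, ∃ y ∈ Y, ∃ x ∈ X, p = y * x := fun p hp => by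
    obtain ⟨x, hx, y, hy, e⟩ := h p⁻¹ (inv_mem hp)
    exact ⟨y⁻¹, inv_mem hy, x⁻¹, inv_mem hx, by rw [← mul_inv_rev, ← e, inv_inv]⟩
  by_cases tX : MulAction.IsPretransitive X α
  swap
  · exact Or.inr (WrP.intrans h8 hT hU hX hY h' tX)
  by_cases tY : MulAction.IsPretransitive Y α
  swap
  · exact Or.inl (WrP.intrans h8 hU hT hY hX h tY)
  have : Nontrivial α := Fintype.one_lt_card_iff_nontrivial.1 (by omega)
  obtain ⟨p, hp, h1, h2, h3⟩ : ∃ p : ℕ, p.Prime ∧ Fintype.card α < 2 * p ∧ p ≤ Fintype.card α ∧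
      (Fintype.card α = 8 → p = 5) := by
    by_cases e : Fintype.card α = 8
    · exact ⟨5, by norm_num, by omega, by omega, fun _ => rfl⟩
    · obtain ⟨p, hp, h1, h2⟩ := Nat.exists_prime_lt_and_le_two_mul (Fintype.card α / 2) (by omega)
      exact ⟨p, hp, by omega, by omega, fun k => absurd k e⟩
  have hA : p ∣ Nat.card (alternatingGroup α) := by
    have : p ∣ 2 * Nat.card (alternatingGroup α) := by
      rw [two_mul_nat_card_alternatingGroup, Nat.card_perm, Nat.card_eq_fintype_card]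
      exact hp.dvd_factorial.2 h2
    exact ((Nat.Prime.dvd_mul hp).1 this).resolve_left fun k => by
      have := Nat.le_of_dvd two_pos k
      omega
  have hd : p ∣ Nat.card X * Nat.card Y := by
    by_cases hle : X ≤ alternatingGroup α
    · exact hA.trans (WrP.card_dvd hle h)
    obtain ⟨x0, hx0, hx1⟩ := SetLike.not_le_iff_exists.1 hle
    refine (hA.trans (card_dvd_of_le le_top)).trans (WrP.card_dvd le_top fun g _ => ?_)
    by_cases hg : g ∈ alternatingGroup α
    · exact h g hg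
    obtain ⟨x, hx, y, hy, e⟩ := h (x0⁻¹ * g)
      ((mul_mem_iff_of_index_two alternatingGroup.index_eq_two).2 (by simp only [inv_mem_iff]; tauto))
    exact ⟨x0 * x, mul_mem hx0 hx, y, hy, by rw [mul_assoc, ← e, mul_inv_cancel_left]⟩
  exact ((Nat.Prime.dvd_mul hp).1 hd).imp (WrP.of_dvd h8 hT hX hp h1 h3) (WrP.of_dvd h8 hU hY hp h1 h3)

end Cfsg.Agent.SAq
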