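import Mathlib
import Cfsg.Agent.SAq.WrP
import Cfsg.Agent.WrA.Pts

/-! The block condition for two interchanged alternating groups. -/

set_option autoImplicit false
set_option linter.unusedSectionVars false

namespace Cfsg.Agent.SAq

open Cfsg Cfsg.Agent.GT Cfsg.Agent.Loc.Mss Cfsg.Agent.Sym Cfsg.Agent.Loc.SO Cfsg.Agent.SAn Subgroup Equiv

variable {α : Type} [Fintype α] [DecidableEq α] {G : Type*} [Group G] [Finite G] {l : alternatingGroup α →* G}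

namespace WrB

open WrA WrA.Wr SAn.Bas

variable {w : WrA.Wr G} {g k r : G}

/-- The hypotheses. -/
structure Hy (w : WrA.Wr G) (l : alternatingGroup α →* G) : Prop where
  h8 : 8 ≤ Fintype.card α
  inj : Function.Injective l
  e : w.L1 = l.range
  syl : Syl 2 w.S w.H
  uf : ∀ g, g * w.t * g⁻¹ ∈ w.H → g ∈ w.H
  noT : ∀ g, g * w.t * g⁻¹ ∉ w.H0
  hC : ∀ c ∈ 𝐂[w.L1], c ∈ 𝐂[w.L2] → c * c = 1 → c = 1

theorem Hy.sym (h : Hy w l) : Hy w.sym (cι l w.t) :=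
  ⟨h.h8, Bas.injC h.inj _, by rw [range_cι, ← h.e, w.sw]; rfl, by simpa using h.syl, by simpa using h.uf,
    by simpa using h.noT, fun c h1 h2 => h.hC c h2 h1⟩

theorem sq_conj (w : WrA.Wr G) (k : G) : k * w.t * k⁻¹ * (k * w.t * k⁻¹) = 1 := by
  rw [show k * w.t * k⁻¹ * (k * w.t * k⁻¹) = k * (w.t * w.t) * k⁻¹ by group, w.t2]; simp

theorem Hy.ext (h : Hy w l) {P : Subgroup G} (hP : IsPGroup 2 P) (ht : k * w.t * k⁻¹ ∈ P) : P ≤ cj(k, w.H) :=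
  le_cj_iff_inv_le.2 ((ext_of_uf h.syl h.uf).2 _ 1 (pg_cj hP _) (by
    rw [mem_cj, one_mul, inv_one, mul_one, inv_inv]; exact ht) (one_mem _))

/-- The dihedral group generated by two conjugates of `t`. -/
theorem Hy.dih (h : Hy w l) (hk : k ∈ w.H) (g : G) : ∃ r σ, (∃ c, r = c * w.t * c⁻¹) ∧ r * g ∈ w.H ∧ σ ∈ w.H0 ∧
    σ ∈ cj(g, w.H) ∧ r * (g * w.t * g⁻¹) * r⁻¹ = k * w.t * k⁻¹ * σ := by
  obtain ⟨u, hu⟩ : ∃ u, u = k * w.t * k⁻¹ := ⟨_, rfl⟩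
  obtain ⟨v, hv⟩ : ∃ v, v = g * w.t * g⁻¹ := ⟨_, rfl⟩
  have u2 : u * u = 1 := hu ▸ sq_conj w k
  have v2 : v * v = 1 := hv ▸ sq_conj w g
  obtain ⟨ρ, hρ⟩ : ∃ ρ, ρ = u * v := ⟨_, rfl⟩
  have ρi : ρ⁻¹ = v * u := by
    rw [hρ, mul_inv_rev, inv_eq_of_mul_eq_one_right u2, inv_eq_of_mul_eq_one_right v2]
  have s0 : ∀ i : ℕ, u * ρ ^ i = (ρ ^ i)⁻¹ * u := fun i => by
    rw [← inv_pow]
    exact (SemiconjBy.pow_right (show SemiconjBy u ρ ρ⁻¹ by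
      rw [SemiconjBy, ρi, hρ, ← mul_assoc, u2, mul_assoc, u2, one_mul, mul_one]) i).eq
  have s1 : ∀ i : ℕ, v * ρ ^ i = (ρ ^ i)⁻¹ * v := fun i => by
    rw [← inv_pow]
    exact (SemiconjBy.pow_right (show SemiconjBy v ρ ρ⁻¹ by rw [SemiconjBy, ρi, hρ, mul_assoc]) i).eq
  obtain ⟨a, m, ⟨j, hj⟩, hm⟩ := Nat.exists_eq_two_pow_mul_odd (orderOf_pos ρ).ne'
  have p1 : IsPGroup 2 (zpowers (ρ ^ m)) := StdB.pg_zpowers_of_pow (k := a) (by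
    rw [← pow_mul, mul_comm, ← hm, pow_orderOf_eq_one])
  have key : ∀ c x, x = c * w.t * c⁻¹ → x * ρ ^ m = (ρ ^ m)⁻¹ * x → ρ ^ m ∈ cj(c, w.H) := fun c x hx e => by
    have n1 : zpowers x ≤ 𝐍[zpowers (ρ ^ m)] := zpowers_le.2 (mem_norm_of_cj_le (by
      rw [MonoidHom.map_zpowers, zpowers_le]
      show x * ρ ^ m * x⁻¹ ∈ _
      rw [e, mul_inv_cancel_right]
      exact inv_mem (mem_zpowers _)))
    exact h.ext (pg_sup (StdB.pg_zpowers (hx ▸ sq_conj w c)) p1 n1) (hx ▸ mem_sup_left (mem_zpowers x))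
      (mem_sup_right (mem_zpowers _))
  have m1 : ρ ^ m ∈ w.H := cj_of_mem hk ▸ key k u hu (s0 m)
  have uH : u ∈ w.H := hu ▸ mul_mem (mul_mem hk w.t_mem) (inv_mem hk)
  have e2 : u = ρ * v := by rw [hρ, mul_assoc, v2, mul_one]
  have e3 : (ρ ^ j)⁻¹ * v * v * ((ρ ^ j)⁻¹ * v)⁻¹ = u * ρ ^ m := by
    rw [show (ρ ^ j)⁻¹ * v * v * ((ρ ^ j)⁻¹ * v)⁻¹ = (ρ ^ j)⁻¹ * (v * ρ ^ j) by group, s1, e2, mul_assoc ρ, s1, hj]
    group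
  have e4 : (ρ ^ j)⁻¹ * v * g * w.t * ((ρ ^ j)⁻¹ * v * g)⁻¹ = u * ρ ^ m := by rw [← e3, hv]; group
  refine ⟨(ρ ^ j)⁻¹ * v, ρ ^ m, ?_, h.uf _ (e4 ▸ mul_mem uH m1), ?_, key g v hv (s1 m), by rw [← hv, ← hu, e3]⟩
  · rcases Nat.even_or_odd' j with ⟨i, hi | hi⟩
    · refine ⟨(ρ ^ i)⁻¹ * g, ?_⟩
      rw [show (ρ ^ i)⁻¹ * g * w.t * ((ρ ^ i)⁻¹ * g)⁻¹ = (ρ ^ i)⁻¹ * (g * w.t * g⁻¹ * ρ ^ i) by group, ← hv, s1, hi,
        two_mul, pow_add]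
      group
    · refine ⟨(ρ ^ (i + 1))⁻¹ * k, ?_⟩
      rw [show (ρ ^ (i + 1))⁻¹ * k * w.t * ((ρ ^ (i + 1))⁻¹ * k)⁻¹ =
        (ρ ^ (i + 1))⁻¹ * (k * w.t * k⁻¹ * ρ ^ (i + 1)) by group, ← hu, s0, e2, hi]
      group
  · have := mul_mem_H0 uH (hu ▸ h.noT k) (mul_mem uH m1) (e4 ▸ h.noT _)
    rwa [← mul_assoc, u2, one_mul] at this

theorem Hy.four (h : Hy w l) : 4 ≤ Fintype.card α := le_trans (by norm_num) h.h8

theorem Hy.act (h : Hy w l) (hg : g ∈ w.H0) : ∃ σ, Act l g σ :=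
  exists_act h.inj h.four (by have := h.h8; omega) (h.e ▸ hg.1)

/-- the permutations induced by the intersection -/
def X (w : WrA.Wr G) (l : alternatingGroup α →* G) (g : G) : Subgroup (Perm α) := img l (w.H0 ⊓ cj(g, w.H))

theorem Hy.x1 (h : Hy w l) {a : G} (ha : a ∈ w.H0) (ha' : a ∈ cj(g, w.H)) : ∃ x ∈ X w l g, Act l a x :=
  let ⟨σ, hσ⟩ := h.act ha
  ⟨σ, ⟨a, ⟨ha, ha'⟩, hσ⟩, hσ⟩

theorem Hy.x2 (h : Hy w l) {a : G} (ha : a ∈ w.H0) (ha' : a ∈ cj(g, w.H)) :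
    ∃ x ∈ X w l (w.t * g), Act l (w.t * a * w.t⁻¹) x :=
  h.x1 (conj_mem_of_norm w.t_norm ha) (cj_cj w.H g w.t ▸ conj_mem_cj ha')

theorem Hy.base (h : Hy w l) {p : Perm α} (hp : p ∈ alternatingGroup α) :
    ev l p ∈ w.H ∧ Act l (ev l p * w.t * (ev l p)⁻¹ * w.t⁻¹) p := by
  have h1 : ev l p ∈ w.L1 := h.e ▸ ev_mem p
  refine ⟨w.H0_le (w.L1_le h1), ?_⟩
  have h2 : w.t * (ev l p)⁻¹ * w.t⁻¹ ∈ 𝐂[l.range] :=
    h.e ▸ cent_comm w.cm (w.sw ▸ conj_mem_cj (inv_mem h1))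
  have := ((act_ev (ι := l) hp).of_cent h2).1
  rwa [← mul_assoc, ← mul_assoc] at this

theorem Hy.fac0 (h : Hy w l) (g : G) : ∃ k ∈ w.H, ∃ p0 : Perm α, ∀ a ∈ w.H, a ∈ cj(g, w.H) →
    ∃ x ∈ X w l g, ∃ y ∈ X w l (w.t * g), Act l (a * (k * w.t * k⁻¹) * a⁻¹ * w.t⁻¹) (x * p0 * y) := by
  have k0 : ∀ (u : G) (p : Perm α), (∃ x ∈ X w l g, Act l (u * w.t⁻¹) (x * p)) → ∀ a ∈ w.H0, a ∈ cj(g, w.H) →
      ∃ x ∈ X w l g, ∃ y ∈ X w l (w.t * g), Act l (a * u * a⁻¹ * w.t⁻¹) (x * p * y) := by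
    rintro u p ⟨z, hz, hu⟩ a ha ha'
    obtain ⟨x, hx, h1⟩ := h.x1 ha ha'
    obtain ⟨y, hy, h2⟩ := h.x2 (inv_mem ha) (inv_mem ha')
    refine ⟨x * z, mul_mem hx hz, y, hy, ?_⟩
    have := (h1.mul hu).mul h2
    rwa [show a * (u * w.t⁻¹) * (w.t * a⁻¹ * w.t⁻¹) = a * u * a⁻¹ * w.t⁻¹ by group, ← mul_assoc] at this
  by_cases hj : ∃ j ∈ w.H, j ∈ cj(g, w.H) ∧ j ∉ w.H0
  swap
  · push Not at hj
    refine ⟨1, one_mem _, 1, fun a ha ha' => k0 _ _ ⟨1, one_mem _, ?_⟩ a (hj a ha ha') ha'⟩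
    simpa using Act.one
  obtain ⟨j, hj, hj', hj0⟩ := hj
  have tn : w.t ∉ w.H0 := by simpa using h.noT 1
  obtain ⟨σ, h1⟩ := h.act (mul_mem_H0 hj hj0 w.t_mem tn)
  obtain ⟨τ, h2⟩ := h.act (mul_mem_H0 w.t_mem tn hj hj0)
  have h3 : σ * τ ∈ X w l g := ⟨j * j, ⟨mul_mem_H0 hj hj0 hj hj0, mul_mem hj' hj'⟩, by
    have := h1.mul h2
    rwa [show j * w.t * (w.t * j) = j * (w.t * w.t) * j by group, w.t2, mul_one] at this⟩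
  obtain ⟨q, q2, hq⟩ : ∃ q : Perm α, q⁻¹ = q ∧ q * τ⁻¹ ∈ alternatingGroup α := by
    by_cases hτ : τ ∈ alternatingGroup α
    · exact ⟨1, inv_one, by simpa using hτ⟩
    · obtain ⟨a, b, hab⟩ := Fintype.exists_pair_of_one_lt_card (α := α) (by have := h.h8; omega)
      refine ⟨swap a b, swap_inv a b, ?_⟩
      rw [Perm.mem_alternatingGroup] at hτ ⊢
      rw [map_mul, map_inv, Perm.sign_swap hab, (Int.units_eq_one_or _).resolve_left hτ]; rfl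
  obtain ⟨b1, b2⟩ := h.base hq
  refine ⟨_, b1, q * τ⁻¹, fun a ha ha' => ?_⟩
  generalize ev l (q * τ⁻¹) = k at b1 b2
  by_cases h0 : a ∈ w.H0
  · exact k0 _ _ ⟨1, one_mem _, by rwa [one_mul]⟩ a h0 ha'
  have := k0 (j * (k * w.t * k⁻¹) * j⁻¹) (q * τ⁻¹) ⟨σ * τ, h3, by
    have := (h1.mul b2.inv).mul h2.inv
    rw [show σ * (q * τ⁻¹)⁻¹ * τ⁻¹ = σ * τ * (q⁻¹ * τ⁻¹) by group, q2] at this
    convert this using 1
    rw [show j * w.t * (k * w.t * k⁻¹ * w.t⁻¹)⁻¹ * (w.t * j)⁻¹ =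
      j * (w.t * w.t) * (k * w.t⁻¹ * k⁻¹) * j⁻¹ * w.t⁻¹ by group, w.t2, w.t_inv, mul_one]⟩ (a * j⁻¹)
    (mul_mem_H0 ha h0 (inv_mem hj) fun e => hj0 (inv_mem_iff.1 e)) (mul_mem ha' (inv_mem hj'))
  rwa [show a * j⁻¹ * (j * (k * w.t * k⁻¹) * j⁻¹) * (a * j⁻¹)⁻¹ = a * (k * w.t * k⁻¹) * a⁻¹ by group] at this

/-- The factorization of the alternating group. -/
theorem Hy.fac (h : Hy w l) (g : G) :
    ∀ p ∈ alternatingGroup α, ∃ x ∈ X w l g, ∃ y ∈ X w l (w.t * g), p = x * y := by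
  obtain ⟨k, hk, p0, h0⟩ := h.fac0 g
  obtain ⟨r, σ, ⟨c, hc⟩, r1, s1, s2, e1⟩ := h.dih hk g
  have key : ∀ p ∈ alternatingGroup α, ∃ x ∈ X w l g, ∃ y ∈ X w l (w.t * g), p = x * p0 * y := fun p hp => by
    obtain ⟨b1, b2⟩ := h.base hp
    obtain ⟨r', σ', ⟨c', hc'⟩, r1', s1', s2', e1'⟩ := h.dih b1 g
    have i1 : r⁻¹ = r := inv_eq_of_mul_eq_one_right (hc ▸ sq_conj w c)
    have i2 : r'⁻¹ = r' := inv_eq_of_mul_eq_one_right (hc' ▸ sq_conj w c')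
    have a1 : r' * r⁻¹ ∈ w.H := by simpa using mul_mem r1' (inv_mem r1)
    have a2 : r' * r⁻¹ ∈ cj(g, w.H) := by
      have := mul_mem (inv_mem r1') r1
      rwa [mul_inv_rev, i2, ← i1, ← mul_assoc, mul_assoc g⁻¹, ← mem_cj] at this
    obtain ⟨x, hx, y, hy, h1⟩ := h0 _ a1 a2
    obtain ⟨z, hz, h2⟩ := h.x2 (mul_mem (conj_mem_of_norm (w.H_norm a1) s1) (inv_mem s1'))
      (mul_mem (mul_mem (mul_mem a2 s2) (inv_mem a2)) (inv_mem s2'))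
    refine ⟨x, hx, y * z, mul_mem hy hz, b2.unique h.inj h.four ?_⟩
    have := h1.mul h2
    rwa [show r' * r⁻¹ * (k * w.t * k⁻¹) * (r' * r⁻¹)⁻¹ * w.t⁻¹ * (w.t * (r' * r⁻¹ * σ * (r' * r⁻¹)⁻¹ * σ'⁻¹) * w.t⁻¹) =
      r' * (r⁻¹ * (k * w.t * k⁻¹ * σ) * r) * r'⁻¹ * σ'⁻¹ * w.t⁻¹ by group, ← e1,
      show r⁻¹ * (r * (g * w.t * g⁻¹) * r⁻¹) * r = g * w.t * g⁻¹ by group, e1', mul_inv_cancel_right,
      mul_assoc _ y z] at this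
  obtain ⟨x0, hx0, y0, hy0, e0⟩ := key 1 (one_mem _)
  intro p hp
  obtain ⟨x, hx, y, hy, e⟩ := key p hp
  refine ⟨x * x0⁻¹, mul_mem hx (inv_mem hx0), y0⁻¹ * y, mul_mem (inv_mem hy0) hy, ?_⟩
  rw [e, show x * p0 * y = x * x0⁻¹ * (x0 * p0 * y0) * (y0⁻¹ * y) by group, ← e0, mul_one]

theorem syl_pre {T : Subgroup G} (hT : Syl 2 T l.range) :
    ∃ P, Syl 2 P (alternatingGroup α) ∧ ∀ p ∈ P, ev l p ∈ T := by
  obtain ⟨P, hP⟩ := Syl.exists 2 (alternatingGroup α)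
  obtain ⟨x, hx, h1⟩ := hT.conj_le ((hP.subgroupOf le_rfl).map l).pg (map_le_range _ _)
  obtain ⟨π, hπ, rfl⟩ := mem_range_iff.1 hx
  refine ⟨_, hP.cj_mem hπ, ?_⟩
  rintro _ ⟨p, hp, rfl⟩
  have := cj_le_iff.1 h1 _ (mem_map_of_mem l (show (⟨p, hP.le hp⟩ : alternatingGroup α) ∈ P.subgroupOf _ from hp))
  rwa [← ev_of_mem, ← ev_conj hπ (hP.le hp)] at this

theorem Hy.le_of_alt (h : Hy w l) {P : Subgroup (Perm α)} (hP : Syl 2 P (alternatingGroup α))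
    (h1 : ∀ p ∈ P, ev l p ∈ cj(g, w.H)) (h2 : alternatingGroup α ≤ X w l g) : w.L1 ≤ cj(g, w.H) := by
  have h5 : 5 ≤ Fintype.card α := le_trans (by norm_num) h.h8
  rcases simple_inf (K := pre l cj(g, w.H)) (Bas.simp5 h5) (norm_of_forall_cj_le fun p hp => cj_le_iff.2 fun q hq => by
    obtain ⟨k, hk, ha⟩ := h2 hp
    exact ⟨conj_mem_alt hq.1 p, ha q hq.1 ▸ mul_mem (mul_mem hk.2 hq.2) (inv_mem hk.2)⟩) with h3 | h3
  · exact absurd (hP.eq_bot_iff.1 (eq_bot_iff.2 fun p hp => h3 p (hP.le hp) ⟨hP.le hp, h1 p hp⟩)).symm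
      (Nat.prime_two.dvd_iff_not_coprime.1 (prime_dvd_card_alternatingGroup Nat.prime_two h.four (by omega)))
  · rw [h.e]
    intro x hx
    obtain ⟨p, hp, rfl⟩ := mem_range_iff.1 hx
    exact (h3 hp).2

theorem Hy.le_or (h : Hy w l) {T U : Subgroup G} (hT : Syl 2 T w.L1) (hU : Syl 2 U w.L2) (h1 : T ≤ cj(g, w.H))
    (h2 : U ≤ cj(g, w.H)) : w.L1 ≤ cj(g, w.H) ∨ w.L2 ≤ cj(g, w.H) := by
  have key : ∀ (g : G) (T : Subgroup G), Syl 2 T w.L1 → T ≤ cj(g, w.H) → ∃ P, Syl 2 P (alternatingGroup α) ∧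
      P ≤ X w l g ∧ ∀ p ∈ P, ev l p ∈ cj(g, w.H) := fun g T hT h1 => by
    obtain ⟨P, hP, h2⟩ := syl_pre (h.e ▸ hT)
    exact ⟨P, hP, fun p hp => ⟨_, ⟨w.L1_le (hT.le (h2 p hp)), h1 (h2 p hp)⟩, act_ev (hP.le hp)⟩,
      fun p hp => h1 (h2 p hp)⟩
  obtain ⟨P, p1, p2, p3⟩ := key g T hT h1
  obtain ⟨Q, q1, q2, q3⟩ := key (w.t * g) _ (w.sw' ▸ hU.cj w.t) (cj_cj w.H g w.t ▸ cj_mono _ h2)
  refine (fac_alt h.h8 p1 q1 p2 q2 (h.fac g)).imp (h.le_of_alt p1 p3) fun h3 => ?_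
  have := h.le_of_alt q1 q3 h3
  rwa [← w.sw', ← cj_cj, cj_le_cj] at this

theorem le_of_sq {κ : alternatingGroup α →* G} {K : Subgroup G} (h : ∀ x ∈ κ.range, x * x ∈ K) : κ.range ≤ K := by
  have : alternatingGroup α ≤ pre κ K := by
    rw [← Perm.closure_three_cycles_eq_alternating, closure_le]
    intro σ hσ
    have h1 := hσ.mem_alternatingGroup
    refine ⟨h1, ?_⟩
    have := h _ (ev_mem (ι := κ) (σ * σ))
    rwa [← ev_mul (mul_mem h1 h1) (mul_mem h1 h1), show σ * σ * (σ * σ) = σ ^ 3 * σ by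
      simp only [pow_succ, pow_zero, one_mul, mul_assoc], ← hσ.orderOf, pow_orderOf_eq_one, one_mul] at this
  intro x hx
  obtain ⟨p, hp, rfl⟩ := mem_range_iff.1 hx
  exact (this hp).2

theorem Hy.inv (h : Hy w l) : ∃ x ∈ w.L1, x * x = 1 ∧ x ≠ 1 := by
  obtain ⟨b, hb⟩ := exists_prime_orderOf_dvd_card' 2
    (prime_dvd_card_alternatingGroup Nat.prime_two h.four (by have := h.h8; omega))
  have := iv_of_ord hb
  exact ⟨l b, h.e ▸ ⟨b, rfl⟩, by rw [← map_mul, this.1, map_one], fun e => this.2 (h.inj (by rw [e, map_one]))⟩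

theorem Hy.simple (h : Hy w l) (g : G) : IsSimpleGroup cj(g, w.L1) := by
  have := Bas.simp5 (γ := α) (le_trans (by norm_num) h.h8)
  rw [h.e, ← range_cι]
  exact (MonoidHom.ofInjective (Bas.injC h.inj g)).symm.isSimpleGroup

theorem Hy.mem_L1 (h : Hy w l) {κ : alternatingGroup α →* G} (h1 : κ.range ≤ w.H0) {x : G} (hx : x ∈ κ.range)
    (h2 : x ∈ 𝐂[w.L2]) (h3 : x * x = 1) : x ∈ w.L1 := by
  have h4 : κ.range ≤ l.range ⊔ 𝐂[l.range] := le_of_sq fun y hy => by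
    obtain ⟨σ, hσ⟩ := h.act (h1 hy)
    obtain ⟨c, hc, e⟩ := (hσ.mul hσ).even (by rw [Perm.mem_alternatingGroup, map_mul, Int.units_mul_self])
    exact e ▸ mul_mem_sup (ev_mem _) hc
  obtain ⟨a, ha, c, hc, rfl⟩ := (mem_sup_norm (cent_le_norm _)).1 (h4 hx)
  obtain ⟨p, hp, rfl⟩ := mem_range_iff.1 ha
  have h5 := ((act_ev (ι := l) hp).of_cent hc).1.pow_eq_one h.inj h.four (j := 2) (by rw [sq, h3])
  have h6 : ev l p * ev l p = 1 := by rw [← sq, ← ev_pow hp, h5, ev_one]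
  have h7 : c ∈ 𝐂[w.L2] := (mul_mem_cancel_left (w.cm (h.e ▸ ha))).1 h2
  rw [h.hC c (h.e ▸ hc) h7 (by
    rwa [mul_assoc, ← mul_assoc c, ← mem_cent.1 hc _ ha, ← mul_assoc, ← mul_assoc, h6, one_mul] at h3), mul_one]
  exact h.e ▸ ha

theorem Hy.fix (h : Hy w l) (r2 : r * r = 1) (hr : r ∉ w.H) (h1 : w.L1 ≤ cj(r, w.H)) : cj(r, w.L1) = w.L1 := by
  have rr : ∀ A : Subgroup G, cj(r, cj(r, A)) = A := fun A => by rw [cj_cj, r2, cj_one]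
  have e : cj(r, w.L1) = (cι l r).range := by rw [range_cι, h.e]
  have h2 : cj(r, w.L1) ≤ w.H := rr w.H ▸ cj_mono r h1
  have h3 : cj(r, w.L1) ≤ w.H0 := e ▸ le_of_sq fun x hx => by
    by_cases h0 : x ∈ w.H0
    · exact mul_mem h0 h0
    · exact mul_mem_H0 (h2 (e ▸ hx)) h0 (h2 (e ▸ hx)) h0
  have n1 : cj(r, w.L1) ≤ 𝐍[w.L1] := h3.trans inf_le_left
  have n2 : w.L1 ≤ 𝐍[cj(r, w.L1)] := by
    have := cj_mono r n1
    rwa [rr, cj_norm] at this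
  rcases simple_inf (h.simple r) n1 with h4 | h4
  swap
  · exact cj_eq_of_le h4
  have h5 : cj(r, w.L1) ≤ 𝐂[w.L1] := comm_eq_bot_iff.1 (eq_bot_iff.2 fun x hx =>
    h4 x (comm_le_left n2 hx) (comm_le_right n1 hx))
  rcases simple_inf (h.simple r) (h3.trans inf_le_right) with h6 | h6
  · obtain ⟨x, hx, x2, x1⟩ := h.inv
    have := h6 _ (conj_mem_cj hx) (h.sym.mem_L1 (κ := cι l r) (by rw [← e, sym_H0]; exact h3) (e ▸ conj_mem_cj hx)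
      (h5 (conj_mem_cj hx)) (iv_conj ⟨x2, x1⟩ r).1)
    exact absurd this (iv_conj ⟨x2, x1⟩ r).2
  · have h7 : cj(r, w.L1) = w.L2 := eq_of_le_of_card_ge h6 (by rw [← w.sw, card_cj, card_cj])
    exact absurd (mem_H_of_swap h7 (by rw [← h7, rr])) hr

theorem Hy.key (h : Hy w l) (hg : g ∉ w.H) {T U : Subgroup G} (hT : Syl 2 T w.L1) (hU : Syl 2 U w.L2)
    (h1 : T ≤ cj(g, w.H)) (h2 : U ≤ cj(g, w.H)) : ∃ r, (∃ c, r = c * w.t * c⁻¹) ∧ r * g ∈ w.H ∧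
      cj(r, w.H) = cj(g, w.H) ∧ (cj(r, w.L1) = w.L1 ∨ cj(r, w.L2) = w.L2) := by
  obtain ⟨r, -, ⟨c, hc⟩, h3, -⟩ := h.dih (one_mem _) g
  have r2 : r * r = 1 := hc ▸ sq_conj w c
  have e : cj(r, w.H) = cj(g, w.H) := by rw [← cj_of_mem h3, cj_cj, ← mul_assoc, r2, one_mul, cj_of_mem h3]
  have hr : r ∉ w.H := fun k => hg (by simpa using mul_mem (inv_mem k) h3)
  refine ⟨r, ⟨c, hc⟩, h3, e, (h.le_or hT hU h1 h2).imp (fun k => h.fix r2 hr (e ▸ k)) fun k => ?_⟩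
  exact h.sym.fix r2 (by simpa using hr) (by rw [sym_H, e]; exact k)

theorem Hy.sylU (h : Hy w l) : Syl 2 w.U1 w.L1 := by
  have := (h.syl.inf w.H0_le (h.syl.le.trans w.H_norm)).inf w.L1_le (inf_le_right.trans inf_le_left)
  rwa [inf_assoc, inf_eq_right.2 w.L1_le] at this

theorem Hy.fin (h : Hy w l) (hr : r = k * w.t * k⁻¹) (hk : r ∉ w.H) (h1 : w.U1 ⊔ w.U2 ≤ cj(r, w.H))
    (h2 : cj(r, w.L1) = w.L1) : False := by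
  have r2 : r * r = 1 := hr ▸ sq_conj w k
  have kH : k ∉ w.H := fun e => hk (hr ▸ mul_mem (mul_mem e w.t_mem) (inv_mem e))
  have n1 : zpowers r ≤ 𝐍[w.H ⊓ cj(r, w.H)] :=
    zpowers_le.2 (cj_eq_iff.1 (by rw [cj_inf, cj_cj, r2, cj_one, inf_comm]))
  obtain ⟨T, hT, sT⟩ := Syl.exists_ge (L := (w.H ⊓ cj(r, w.H)) ⊔ zpowers r) (StdB.pg_zpowers r2) le_sup_right
  have uS : w.U1 ⊔ w.U2 ≤ w.S := sup_le inf_le_left inf_le_left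
  obtain ⟨j, hj, h3⟩ := (sT.inf le_sup_left (sT.le.trans (sup_le le_normalizer n1))).conj_le (h.syl.pg.to_le uS)
    (le_inf (uS.trans h.syl.le) h1)
  have h4 := (h3.trans inf_le_left).trans (h.ext sT.pg (hr ▸ hT (mem_zpowers r)))
  rw [cj_sup, sup_le_iff] at h4
  have s1 := h.sylU.cj j
  have s2 := h.sym.sylU.cj j
  rw [sym_U1, sym_L1] at s2
  obtain ⟨s, ⟨c, hc⟩, h5, -, h6⟩ : ∃ r, (∃ c, r = c * w.t * c⁻¹) ∧ r * k ∈ w.H ∧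
      cj(r, w.H) = cj(k, w.H) ∧ (cj(r, w.L1) = w.L1 ∨ cj(r, w.L2) = w.L2) := by
    by_cases j0 : j ∈ w.H0
    · exact h.key kH (cj_of_norm j0.1 ▸ s1) (cj_of_norm j0.2 ▸ s2) h4.1 h4.2
    · exact h.key kH (cj_L2 hj.1 j0 ▸ s2) (cj_L1 hj.1 j0 ▸ s1) h4.2 h4.1
  have s2 : s * s = 1 := hc ▸ sq_conj w c
  have e1 : s * r * s = s * k * w.t * (s * k)⁻¹ := by
    rw [hr, mul_inv_rev, inv_eq_of_mul_eq_one_right s2]; group
  have h7 : s * r * s ∈ w.H := e1 ▸ mul_mem (mul_mem h5 w.t_mem) (inv_mem h5)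
  have h8 : s * r * s ∉ w.H0 := e1 ▸ h.noT _
  have ss : ∀ A : Subgroup G, cj(s, cj(s, A)) = A := fun A => by rw [cj_cj, s2, cj_one]
  obtain ⟨x, hx, x2, x1⟩ := h.inv
  refine (iv_conj ⟨x2, x1⟩ s).2 ?_
  rcases h6 with h6 | h6
  · have h9 := cj_L1 h7 h8
    rw [← cj_cj, ← cj_cj, h6, h2, h6] at h9
    have : s * x * s⁻¹ ∈ w.L1 := h6 ▸ conj_mem_cj hx
    exact h.hC _ (cent_comm w.cm (h9 ▸ this)) (w.cm this) (iv_conj ⟨x2, x1⟩ s).1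
  · have h9 := cj_L2 h7 h8
    rw [← cj_cj, ← cj_cj, h6] at h9
    refine h.hC _ ?_ (h6 ▸ conj_cent (w.cm hx) s) (iv_conj ⟨x2, x1⟩ s).1
    rw [← h9]
    refine conj_cent ?_ s
    rw [← cj_cent]
    exact cj_mono r w.cm (h2.symm ▸ hx)

end WrB

open WrB WrA.Wr in
theorem wr_blk {w : WrA.Wr G} (h8 : 8 ≤ Fintype.card α) (hl : Function.Injective l) (e : w.L1 = l.range)
    (hs : Syl 2 w.S w.H) (uf : ∀ g, g * w.t * g⁻¹ ∈ w.H → g ∈ w.H) (noT : ∀ g, g * w.t * g⁻¹ ∉ w.H0)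
    (hC : ∀ c ∈ 𝐂[w.L1], c ∈ 𝐂[w.L2] → c * c = 1 → c = 1) (g : G)
    (h1 : cj(g, w.U1 ⊔ w.U2) ≤ w.S0) (h2 : w.U1 ⊔ w.U2 ≤ cj(g, w.S0)) :
    (cj(g, w.U1) = w.U1 ∧ cj(g, w.U2) = w.U2) ∨ (cj(g, w.U1) = w.U2 ∧ cj(g, w.U2) = w.U1) := by
  have h : Hy w l := ⟨h8, hl, e, hs, uf, noT, hC⟩
  rw [cj_sup, sup_le_iff] at h1
  have a1 : cj(g, w.U1) ≤ w.S ⊓ cj(g, w.L1) := le_inf (h1.1.trans inf_le_left) (cj_mono g inf_le_right)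
  have a2 : cj(g, w.U2) ≤ w.S ⊓ cj(g, w.L2) := le_inf (h1.2.trans inf_le_left) (cj_mono g inf_le_right)
  by_cases g0 : g ∈ w.H0
  · rw [cj_of_norm g0.1] at a1
    rw [cj_of_norm g0.2] at a2
    exact .inl ⟨cj_eq_of_le a1, cj_eq_of_le a2⟩
  by_cases hg : g ∈ w.H
  · rw [cj_L1 hg g0] at a1
    rw [cj_L2 hg g0] at a2
    have c1 := card_le_of_le a1
    have c2 := card_le_of_le a2
    rw [card_cj] at c1 c2
    exact .inr ⟨eq_of_le_of_card_ge a1 (by rw [card_cj]; exact c2), eq_of_le_of_card_ge a2 (by rw [card_cj]; exact c1)⟩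
  have h3 : w.U1 ⊔ w.U2 ≤ cj(g, w.H) := h2.trans (cj_mono g (inf_le_left.trans hs.le))
  obtain ⟨r, ⟨k, hk⟩, h4, h5, h6⟩ := h.key hg h.sylU h.sym.sylU (le_sup_left.trans h3) (le_sup_right.trans h3)
  have hr : r ∉ w.H := fun k => hg (by simpa using mul_mem (inv_mem k) h4)
  exact (h6.elim (h.fin hk hr (h5 ▸ h3)) (h.sym.fin hk (by simpa using hr)
    (by rw [sym_H, h5, sup_comm]; exact h3))).elim

end Cfsg.Agent.SAq
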