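import Mathlib
import Cfsg.Agent.SAq.Der
import Cfsg.Agent.Kon.RedM
import Cfsg.Agent.Sym.Abelian

/-! The wreathed case: permutation lemmas and the uniqueness of the doubling. -/

set_option autoImplicit false
set_option linter.unusedSectionVars false

namespace Cfsg.Agent.SAq

open Cfsg Cfsg.Agent.GT Cfsg.Agent.Loc.Mss Cfsg.Agent.Sym Cfsg.Agent.Loc.SO Cfsg.Agent.SAn Subgroup Equiv
open Cfsg.Agent.StdB (C1 mem_C1)
open scoped commutatorElement

variable {α β γ : Type} [Fintype α] [DecidableEq α] [Fintype β] [DecidableEq β] [Fintype γ]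
  [DecidableEq γ] {G : Type*} [Group G] [Finite G] {ι κ l l' : alternatingGroup α →* G}
  {ψ : Perm β →* G} {X P M L : Subgroup G} {t s u g o : G} {p q σ τ π : Perm α} {k j : ℕ}

namespace WrU

theorem el_comm {H : Type*} [Group H] {E : Subgroup H} (h : ∀ x ∈ E, x * x = 1) {a b : H}
    (ha : a ∈ E) (hb : b ∈ E) : a * b = b * a := by
  have h1 := h _ (mul_mem ha hb)
  rw [← inv_eq_of_mul_eq_one_right h1, mul_inv_rev, inv_eq_of_mul_eq_one_right (h a ha),
    inv_eq_of_mul_eq_one_right (h b hb)]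

theorem pg_el {H : Type*} [Group H] {E : Subgroup H} (h : ∀ x ∈ E, x * x = 1) : IsPGroup 2 E :=
  pg_iff.2 fun x hx => ⟨1, by rw [pow_one, pow_two, h x hx]⟩

theorem cc_dt {a b c d : α} (h8 : 8 ≤ Fintype.card α) (h : D4 a b c d)
    (hσ : ∀ p ∈ alternatingGroup α, p * dt a b c d = dt a b c d * p → σ * p = p * σ) :
    σ = 1 ∨ σ = dt a b c d := by
  have hm : dt a b c d ∈ V4 a b c d := h.mem_V4.2 (.inr (.inl rfl))
  have h1 : ∀ x ∈ ({a, b, c, d} : Finset α)ᶜ, σ x = x := by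
    refine cent_altOn ?_ (mem_cent.2 fun p hp => ?_)
    · rw [Finset.card_compl]
      have := Finset.card_le_four (a := a) (b := b) (c := c) (d := d)
      omega
    · obtain ⟨h1, h2⟩ := mem_altOn.1 hp
      exact (hσ p h1 (h.comm_of_fx ⟨h2 a (by simp), h2 b (by simp), h2 c (by simp), h2 d (by simp)⟩
        (h.V4_le hm))).symm
  obtain ⟨v, hv, hf⟩ := h.cent_V4 (σ := σ) (mem_cent.2 fun p hp =>
    (hσ p (h.V4_le_alt hp) (el_comm h.k4.2 hp hm)).symm)
  have e : v * σ = 1 := by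
    ext x
    by_cases hx : x ∈ ({a, b, c, d} : Finset α)
    · simp only [Finset.mem_insert, Finset.mem_singleton] at hx
      rcases hx with rfl | rfl | rfl | rfl
      exacts [hf.a, hf.b, hf.c, hf.d]
    · rw [Perm.mul_apply, h1 x (Finset.mem_compl.2 hx), (mem_altOn.1 (h.V4_le hv)).2 x hx]; rfl
  have e' : σ = v := by rw [← inv_eq_of_mul_eq_one_right e, inv_eq_of_mul_eq_one_right (h.k4.2 v hv)]
  subst e'
  obtain ⟨x, y, hx, hy, hxy⟩ := exists_out2 (by omega) a b c d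
  have d' : D4 a b x y := ⟨h.ab, hx.a.symm, hy.a.symm, hx.b.symm, hy.b.symm, hxy⟩
  have hc : dt a b x y * dt a b c d = dt a b c d * dt a b x y := by
    rw [← mul_inv_eq_iff_eq_mul, dt_conj]
    have ea : dt a b x y a = b := by
      simp [dt, swap_apply_of_ne_of_ne d'.ac d'.ad]
    have eb : dt a b x y b = a := by
      simp [dt, swap_apply_of_ne_of_ne d'.bc d'.bd]
    have ec : dt a b x y c = c := by
      simp [dt, swap_apply_of_ne_of_ne hx.c.symm hy.c.symm, swap_apply_of_ne_of_ne h.ac.symm h.bc.symm]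
    have ed : dt a b x y d = d := by
      simp [dt, swap_apply_of_ne_of_ne hx.d.symm hy.d.symm, swap_apply_of_ne_of_ne h.ad.symm h.bd.symm]
    rw [ea, eb, ec, ed, dt_bac]
  have h2 := d'.map_of_comm (hσ _ d'.mem hc)
  have h3 : σ a ∈ ({a, b, x, y} : Finset α) := by rw [← h2]; simp
  simp only [Finset.mem_insert, Finset.mem_singleton] at h3
  rcases h.mem_V4.1 hv with e | e | e | e
  · exact .inl e
  · exact .inr e
  · have : σ a = c := by rw [e]; simp [dt, swap_apply_of_ne_of_ne h.ab h.ad]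
    rw [this] at h3
    rcases h3 with h3 | h3 | h3 | h3
    exacts [absurd h3.symm h.ac, absurd h3.symm h.bc, absurd h3.symm hx.c, absurd h3.symm hy.c]
  · have : σ a = d := by rw [e]; simp [dt, swap_apply_of_ne_of_ne h.ab h.ac]
    rw [this] at h3
    rcases h3 with h3 | h3 | h3 | h3
    exacts [absurd h3.symm h.ad, absurd h3.symm h.bd, absurd h3.symm hx.d, absurd h3.symm hy.d]

theorem el_bound {E : Subgroup (Perm α)} (h : ∀ x ∈ E, x * x = 1) :
    Nat.card E ^ 3 ≤ 3 ^ Fintype.card α := by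
  have : IsMulCommutative E := ⟨⟨fun a b => Subtype.ext (el_comm h a.2 b.2)⟩⟩
  obtain ⟨m, s, h1, h2⟩ := card_le_prod_of_abelian E
  exact (Nat.pow_le_pow_left h2 3).trans (h1 ▸ prod_cube_le s Finset.univ)

theorem card_le_even (E : Subgroup (Perm α)) :
    Nat.card E ≤ 2 * Nat.card (E ⊓ alternatingGroup α : Subgroup (Perm α)) := by
  have h1 := card_mul_index ((alternatingGroup α).subgroupOf E)
  have h2 : ((alternatingGroup α).subgroupOf E).index ≤ 2 := by
    have h3 := relIndex_dvd_index_of_normal (alternatingGroup α) E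
    rcases subsingleton_or_nontrivial α with h | h
    · rw [alternatingGroup.index_eq_one] at h3
      exact (Nat.le_of_dvd one_pos h3).trans one_le_two
    · rw [alternatingGroup.index_eq_two] at h3
      exact Nat.le_of_dvd two_pos h3
  rw [← inf_subgroupOf_left, Nat.card_congr (subgroupOfEquivOfLe inf_le_left).toEquiv,
    inf_subgroupOf_left] at h1
  rw [← h1, mul_comm]
  exact Nat.mul_le_mul_right _ h2

theorem flips (h : σ * σ = 1) : ∃ E : Subgroup (Perm α), E ≤ alternatingGroup α ∧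
    (∀ x ∈ E, x * x = 1) ∧ (∀ x ∈ E, σ * x = x * σ) ∧ 2 ^ (Fintype.card α / 2) ≤ 2 * Nat.card E := by
  obtain ⟨μ, h1, h2, h3⟩ := Kon.RedM.exists_ext _ σ h le_rfl
  exact ⟨Kon.RedM.Wm μ h1 ⊓ alternatingGroup α, inf_le_right, fun x hx => Kon.RedM.Wm_sq hx.1,
    fun x hx => el_comm (fun _ => Kon.RedM.Wm_sq) h2 hx.1,
    (Kon.RedM.card_Wm h1 h3).trans (card_le_even _)⟩

theorem arith {n a b : ℕ} (h8 : 8 ≤ n) (ha : 2 ^ (n / 2) ≤ 2 * a) (hb : 2 ^ (n / 2) ≤ 2 * b)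
    (h : (a * b) ^ 3 ≤ 8 * 3 ^ n) : False := by
  obtain ⟨m, hm⟩ : ∃ m, n / 2 = m + 4 := ⟨n / 2 - 4, by omega⟩
  rw [hm] at ha hb
  have h1 : 2 ^ (m + 3) ≤ a := by rw [pow_succ] at ha; omega
  have h2 : 2 ^ (m + 3) ≤ b := by rw [pow_succ] at hb; omega
  have h3 : 3 ^ n ≤ 3 ^ (2 * m + 9) := Nat.pow_le_pow_right (by norm_num) (by omega)
  have h4 := (Nat.pow_le_pow_left (Nat.mul_le_mul h1 h2) 3).trans h
  have h5 : (2 ^ (m + 3) * 2 ^ (m + 3)) ^ 3 = 64 ^ m * 262144 := by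
    rw [show (64 : ℕ) = 2 ^ 6 by norm_num, ← pow_mul, ← pow_add, ← pow_mul,
      show 262144 = 2 ^ 18 by norm_num, ← pow_add]
    congr 1; ring
  have h6 : 3 ^ (2 * m + 9) = 9 ^ m * 19683 := by rw [pow_add, pow_mul]; norm_num
  have h7 : 9 ^ m ≤ 64 ^ m := Nat.pow_le_pow_left (by norm_num) m
  have h9 : 0 < 64 ^ m := by positivity
  omega

theorem four0 (hp : p ∈ alternatingGroup α) (hi : Iv p) : ∃ E : Subgroup (Perm α),
    E ≤ alternatingGroup α ∧ (∀ x ∈ E, x * x = 1) ∧ 2 < Nat.card E ∧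
      ∀ σ, σ * p = p * σ → ∀ x ∈ E, σ * x * σ⁻¹ ∈ E := by
  by_cases hd : Dt p
  · obtain ⟨a, b, c, d, h, rfl⟩ := hd
    refine ⟨V4 a b c d, h.V4_le_alt, h.k4.2, by rw [h.k4.1]; norm_num, fun σ hσ x hx => ?_⟩
    rw [← h.V4_eq (h.map σ) (h.map_of_comm hσ), ← V4_conj]
    exact conj_mem_cj hx
  obtain ⟨k, hk⟩ := tp_exists hi.1
  have h2 : 2 ≤ k := by
    obtain ⟨j, rfl⟩ := hk.even_iff.1 hp
    by_contra h
    obtain rfl : j = 0 := by omega
    exact hi.2 (tp_zero.1 hk)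
  obtain ⟨e, h3, -⟩ := hk.std
  let i0 : Fin k := ⟨0, by omega⟩
  let i1 : Fin k := ⟨1, by omega⟩
  have d : D4 (e (i0, false)) (e (i0, true)) (e (i1, false)) (e (i1, true)) := by
    refine ⟨?_, ?_, ?_, ?_, ?_, ?_⟩ <;> exact fun h => by simpa [i0, i1] using e.injective h
  have hm : dt (e (i0, false)) (e (i0, true)) (e (i1, false)) (e (i1, true)) ∈ Kon.RedM.Wm p hi.1 := by
    have f0 := PmB.fl_swap hi.1 (e (i0, false))
    have f1 := PmB.fl_swap hi.1 (e (i1, false))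
    rw [h3] at f0 f1
    exact (f0.mul hi.1 f1).2
  refine ⟨Kon.RedM.Wm p hi.1 ⊓ alternatingGroup α, inf_le_right, fun x hx => Kon.RedM.Wm_sq hx.1, ?_,
    fun σ hσ x hx => ⟨fun y => ?_, conj_mem_alt hx.2 σ⟩⟩
  · classical
    have := Fintype.ofFinite (Kon.RedM.Wm p hi.1 ⊓ alternatingGroup α : Subgroup (Perm α))
    rw [Nat.card_eq_fintype_card, Fintype.two_lt_card_iff]
    exact ⟨1, ⟨p, fun _ => .inr rfl, hp⟩, ⟨_, hm, d.mem⟩, fun h => hi.2 (congrArg Subtype.val h).symm,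
      fun h => d.iv.2 (congrArg Subtype.val h).symm,
      fun h => hd ⟨_, _, _, _, d, congrArg Subtype.val h⟩⟩
  · rcases hx.1 (σ⁻¹ y) with e | e
    · left
      rw [Perm.mul_apply, Perm.mul_apply, e, PmB.app_inv]
    · right
      rw [Perm.mul_apply, Perm.mul_apply, e, PmB.app hσ, PmB.app_inv]

end WrU

open WrU

theorem Dbl.comm_ev (hl : Dbl ι t l) (p q : Perm α) :
    ev l p * (t * ev l q * t⁻¹) = t * ev l q * t⁻¹ * ev l p := by
  obtain ⟨a, e⟩ := ev_mem (ι := l) p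
  obtain ⟨b, e'⟩ := ev_mem (ι := l) q
  rw [← e, ← e']; exact hl.comm a b

theorem Dbl.diag_ev (hl : Dbl ι t l) (hp : p ∈ alternatingGroup α) :
    ev ι p = ev l p * (t * ev l p * t⁻¹) := by
  rw [ev_of_mem hp, ev_of_mem hp]; exact hl.diag _

theorem Dbl.act (hl : Dbl ι t l) (hp : p ∈ alternatingGroup α) : Act l (ev ι p) p := fun q hq => by
  rw [ev_conj hp hq, hl.diag_ev hp, mul_inv_eq_iff_eq_mul, mul_assoc, ← hl.comm_ev]
  group

theorem Dbl.sym (hl : Dbl ι t l) (tt : t * t = 1) : Dbl ι t (cι l t) := by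
  have e : ∀ x, t * (t * x * t⁻¹) * t⁻¹ = x := fun x => by
    rw [show t * (t * x * t⁻¹) * t⁻¹ = t * t * x * (t * t)⁻¹ by group, tt]; group
  refine ⟨fun p q => ?_, fun p => ?_⟩
  · change t * l p * t⁻¹ * (t * (t * l q * t⁻¹) * t⁻¹) = t * (t * l q * t⁻¹) * t⁻¹ * (t * l p * t⁻¹)
    rw [e, hl.comm]
  · change _ = t * l p * t⁻¹ * (t * (t * l p * t⁻¹) * t⁻¹)
    rw [e, hl.diag, hl.comm]

theorem Dbl.inj (hl : Dbl ι t l) (hι : Function.Injective ι) : Function.Injective l :=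
  (injective_iff_map_eq_one l).2 fun p hp => (injective_iff_map_eq_one ι).1 hι p (by
    rw [hl.diag, hp]; group)

theorem Dbl.sand (hl : Dbl ι t l) (tt : t * t = 1) (hp : p ∈ alternatingGroup α) :
    ev l p * t * ev l p = t * ev ι p := by
  rw [hl.diag_ev hp, hl.comm_ev, ← mul_assoc, ← mul_assoc, ← mul_assoc, tt, one_mul,
    inv_eq_of_mul_eq_one_right tt]

theorem Dbl.eq_of (h5 : 5 ≤ Fintype.card α) (hl : Dbl ι t l) (hl' : Dbl ι t l') (hd : Dt p)
    (ho : o ∈ 𝐂[ι.range]) (e : ev l' p = o * ev l p) : l' = l := by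
  have h1 : ∀ q, Dt q → ev l' q = o * ev l q := fun q hq => by
    obtain ⟨π, hπ, rfl⟩ := hd.trans h5 hq
    rw [← hl.act hπ p hd.mem, ← hl'.act hπ p hd.mem, e, ← mul_assoc, mem_cent.1 ho _ (ev_mem π)]
    group
  obtain ⟨a, b, c, d, h, rfl⟩ := hd
  have d3 : D4 a d b c := ⟨h.ad, h.ab, h.ac, h.bd.symm, h.cd.symm, h.bc⟩
  have e2 := h1 _ ⟨_, _, _, _, h.acb, rfl⟩
  have e3 := h1 _ ⟨_, _, _, _, d3, rfl⟩
  rw [← h.dt_mul, ev_mul h.mem h.acb.mem, ev_mul h.mem h.acb.mem, e, e2] at e3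
  have o1 : o = 1 := by
    have e4 : ev l (dt a b c d) * o = ev l (dt a b c d) := by
      rw [mul_assoc, mul_right_inj, ← mul_assoc, mul_left_inj] at e3; exact e3
    exact mul_eq_left.1 e4
  rw [o1, one_mul, ev_of_mem h.mem, ev_of_mem h.mem] at e
  have := Bas.simp5 h5
  have : (l'.eqLocus l).Normal := ⟨fun q hq r => by
    have h2 := hl.act r.2 q q.2
    have h3 := hl'.act r.2 q q.2
    have h4 : l' q = l q := hq
    change l' (r * q * r⁻¹) = l (r * q * r⁻¹)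
    rw [← ev_coe, ← ev_coe (ι := l)]
    simp only [ev_coe] at h2 h3
    exact h3.symm.trans (h4 ▸ h2)⟩
  rcases this.eq_bot_or_eq_top with h2 | h2
  · have h3 : (⟨_, h.mem⟩ : alternatingGroup α) ∈ l'.eqLocus l := e
    rw [h2, mem_bot] at h3
    exact absurd (congrArg Subtype.val h3) h.iv.2
  · exact MonoidHom.ext fun q => (h2 ▸ mem_top q : q ∈ l'.eqLocus l)

/-- Uniqueness of the doubling. -/
theorem Dbl.uniq (h : Cw ι t) (hl : Dbl ι t l) (hl' : Dbl ι t l') : l' = l ∨ l' = cι l t := by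
  obtain ⟨a, b, c, d, hd⟩ := exists_D4 h.four
  have tt := h.iv.1
  have s1 : ev l' (dt a b c d) * ev l' (dt a b c d) = 1 := by rw [← ev_mul hd.mem hd.mem, hd.iv.1, ev_one]
  have s2 : ev l (dt a b c d) * ev l (dt a b c d) = 1 := by rw [← ev_mul hd.mem hd.mem, hd.iv.1, ev_one]
  have e1 := (hl.sand tt hd.mem).trans (hl'.sand tt hd.mem).symm
  have e2 := hl.diag_ev hd.mem
  have e3 := hl.comm_ev (dt a b c d) (dt a b c d)
  have a1 := fun p hp => hl.act (p := p) hp _ hd.mem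
  have a2 := fun p hp => hl'.act (p := p) hp _ hd.mem
  have f1 := fun o ho => hl.eq_of (o := o) h.five hl' ⟨_, _, _, _, hd, rfl⟩ ho
  have f2 := fun o ho => (hl.sym tt).eq_of (o := o) h.five hl' ⟨_, _, _, _, hd, rfl⟩ ho
  simp only [ev_cι] at f2
  set x := ev l (dt a b c d)
  set y := ev l' (dt a b c d)
  obtain ⟨σ, hσ⟩ := h.reg (y * x) (by
    calc y * x * t = y * (x * t * x) * x := by rw [mul_assoc y (x * t * x), mul_assoc (x * t), s2]; group
      _ = (y * y) * t * (y * x) := by rw [e1]; group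
      _ = _ := by rw [s1, one_mul])
  have h1 := cc_dt (σ := σ) h.eight hd fun p hp hc => (hσ.comm_iff h.inj hp).1 (by
    have b1 := a1 p hp
    have b2 := a2 p hp
    rw [hc, mul_inv_cancel_right, mul_inv_eq_iff_eq_mul] at b1 b2
    rw [mul_assoc, ← b1, ← mul_assoc, ← b2, mul_assoc])
  rcases h1 with rfl | rfl
  · exact .inl (f1 _ (act_one_iff.1 hσ) (by rw [mul_assoc, s2, mul_one]))
  · obtain ⟨o, ho, e⟩ := hσ.even hd.mem
    refine .inr (f2 o ho ?_)
    rw [mem_cent.1 ho _ (ev_mem _), e2, e3] at e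
    exact mul_right_cancel (e.trans (mul_assoc _ _ _).symm)

theorem Cw.el_card (h : Cw ι t) (hc : P ≤ C1 t) (he : ∀ x ∈ P, x * x = 1) :
    Nat.card P ^ 3 ≤ 8 * 3 ^ Fintype.card α := by
  obtain ⟨f, f1, -⟩ := Der.exists_hom h hc
  have h1 : Nat.card f.ker ≤ 2 := by
    rw [← Bas.iv_ord h.iv, ← Nat.card_zpowers, ← card_map_of_injective P.subtype_injective]
    refine card_le_of_le ?_
    rintro _ ⟨g, hg, rfl⟩
    rcases h.ker2 g (mem_C1.1 (hc g.2)) (MonoidHom.mem_ker.1 hg ▸ f1 g) (he g g.2) with e | e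
    · rw [P.coe_subtype, e]; exact one_mem _
    · rw [P.coe_subtype, e]; exact mem_zpowers _
  have h2 : Nat.card f.range ^ 3 ≤ 3 ^ Fintype.card α := el_bound (by
    rintro _ ⟨g, rfl⟩
    rw [← map_mul, show g * g = 1 from Subtype.ext (he g g.2), map_one])
  rw [← card_mul_index f.ker, index_ker, mul_pow]
  exact Nat.mul_le_mul (Nat.pow_le_pow_left h1 3) h2

end Cfsg.Agent.SAq
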